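/-
Generated: checks of the rules.
-/
import Cfsg.Agent.H49.Order3.Fi24.Setup

set_option autoImplicit false
set_option maxRecDepth 100000
set_option linter.all false
set_option Elab.async false

namespace H49.Order3.Fi24

theorem cube_ok2 : cubeOK 2 = true := by decide +kernel

theorem row_ok2 : rowOK3 2 = true := by decide +kernel

theorem cube_ok6 : cubeOK 6 = true := by decide +kernel

theorem row_ok6 : rowOK3 6 = true := by decide +kernel

theorem cube_ok10 : cubeOK 10 = true := by decide +kernel

theorem row_ok10 : rowOK3 10 = true := by decide +kernel

theorem cube_ok14 : cubeOK 14 = true := by decide +kernel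

theorem row_ok14 : rowOK3 14 = true := by decide +kernel


end H49.Order3.Fi24
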