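/-
Generated: checks of the rules.
-/
import Cfsg.Agent.H49.Order3.Fi24.Setup

set_option autoImplicit false
set_option maxRecDepth 100000
set_option linter.all false
set_option Elab.async false

namespace H49.Order3.Fi24

theorem cube_ok3 : cubeOK 3 = true := by decide +kernel

theorem row_ok3 : rowOK3 3 = true := by decide +kernel

theorem cube_ok7 : cubeOK 7 = true := by decide +kernel

theorem row_ok7 : rowOK3 7 = true := by decide +kernel

theorem cube_ok11 : cubeOK 11 = true := by decide +kernel

theorem row_ok11 : rowOK3 11 = true := by decide +kernel

theorem cube_ok15 : cubeOK 15 = true := by decide +kernel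

theorem row_ok15 : rowOK3 15 = true := by decide +kernel


end H49.Order3.Fi24
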