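/-
Generated: checks of the tables on the small set.
-/
import Cfsg.Agent.H49.Order3.Fi24.TabSetup

set_option autoImplicit false
set_option maxRecDepth 100000
set_option linter.all false
set_option Elab.async false

namespace H49.Order3.Fi24

theorem tab_ok0_0 : H93.Coset.allRange 0 252 (tabOK 0) = true := by decide +kernel

theorem tab_ok0_1 : H93.Coset.allRange 252 252 (tabOK 0) = true := by decide +kernel

theorem tab_ok0_2 : H93.Coset.allRange 504 252 (tabOK 0) = true := by decide +kernel

theorem tab_ok4_0 : H93.Coset.allRange 0 252 (tabOK 4) = true := by decide +kernel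

theorem tab_ok4_1 : H93.Coset.allRange 252 252 (tabOK 4) = true := by decide +kernel

theorem tab_ok4_2 : H93.Coset.allRange 504 252 (tabOK 4) = true := by decide +kernel

theorem tab_ok8_0 : H93.Coset.allRange 0 252 (tabOK 8) = true := by decide +kernel

theorem tab_ok8_1 : H93.Coset.allRange 252 252 (tabOK 8) = true := by decide +kernel

theorem tab_ok8_2 : H93.Coset.allRange 504 252 (tabOK 8) = true := by decide +kernel

theorem tab_ok12_0 : H93.Coset.allRange 0 252 (tabOK 12) = true := by decide +kernel

theorem tab_ok12_1 : H93.Coset.allRange 252 252 (tabOK 12) = true := by decide +kernel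

theorem tab_ok12_2 : H93.Coset.allRange 504 252 (tabOK 12) = true := by decide +kernel

section

attribute [local irreducible] H93.Coset.allRange tabOK

theorem tab_ok0 : H93.Coset.allRange 0 756 (tabOK 0) = true :=
  H93.Coset.allRange_glue (H93.Coset.allRange_glue tab_ok0_0 tab_ok0_1) tab_ok0_2

theorem tab_ok4 : H93.Coset.allRange 0 756 (tabOK 4) = true :=
  H93.Coset.allRange_glue (H93.Coset.allRange_glue tab_ok4_0 tab_ok4_1) tab_ok4_2

theorem tab_ok8 : H93.Coset.allRange 0 756 (tabOK 8) = true :=
  H93.Coset.allRange_glue (H93.Coset.allRange_glue tab_ok8_0 tab_ok8_1) tab_ok8_2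

theorem tab_ok12 : H93.Coset.allRange 0 756 (tabOK 12) = true :=
  H93.Coset.allRange_glue (H93.Coset.allRange_glue tab_ok12_0 tab_ok12_1) tab_ok12_2

end

end H49.Order3.Fi24
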