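/-
Generated: checks of the tables on the small set.
-/
import Cfsg.Agent.H49.Order3.Fi24.TabSetup

set_option autoImplicit false
set_option maxRecDepth 100000
set_option linter.all false
set_option Elab.async false

namespace H49.Order3.Fi24

theorem tab_ok1_0 : H93.Coset.allRange 0 252 (tabOK 1) = true := by decide +kernel

theorem tab_ok1_1 : H93.Coset.allRange 252 252 (tabOK 1) = true := by decide +kernel

theorem tab_ok1_2 : H93.Coset.allRange 504 252 (tabOK 1) = true := by decide +kernel

theorem tab_ok5_0 : H93.Coset.allRange 0 252 (tabOK 5) = true := by decide +kernel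

theorem tab_ok5_1 : H93.Coset.allRange 252 252 (tabOK 5) = true := by decide +kernel

theorem tab_ok5_2 : H93.Coset.allRange 504 252 (tabOK 5) = true := by decide +kernel

theorem tab_ok9_0 : H93.Coset.allRange 0 252 (tabOK 9) = true := by decide +kernel

theorem tab_ok9_1 : H93.Coset.allRange 252 252 (tabOK 9) = true := by decide +kernel

theorem tab_ok9_2 : H93.Coset.allRange 504 252 (tabOK 9) = true := by decide +kernel

theorem tab_ok13_0 : H93.Coset.allRange 0 252 (tabOK 13) = true := by decide +kernel

theorem tab_ok13_1 : H93.Coset.allRange 252 252 (tabOK 13) = true := by decide +kernel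

theorem tab_ok13_2 : H93.Coset.allRange 504 252 (tabOK 13) = true := by decide +kernel

section

attribute [local irreducible] H93.Coset.allRange tabOK

theorem tab_ok1 : H93.Coset.allRange 0 756 (tabOK 1) = true :=
  H93.Coset.allRange_glue (H93.Coset.allRange_glue tab_ok1_0 tab_ok1_1) tab_ok1_2

theorem tab_ok5 : H93.Coset.allRange 0 756 (tabOK 5) = true :=
  H93.Coset.allRange_glue (H93.Coset.allRange_glue tab_ok5_0 tab_ok5_1) tab_ok5_2

theorem tab_ok9 : H93.Coset.allRange 0 756 (tabOK 9) = true :=
  H93.Coset.allRange_glue (H93.Coset.allRange_glue tab_ok9_0 tab_ok9_1) tab_ok9_2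

theorem tab_ok13 : H93.Coset.allRange 0 756 (tabOK 13) = true :=
  H93.Coset.allRange_glue (H93.Coset.allRange_glue tab_ok13_0 tab_ok13_1) tab_ok13_2

end

end H49.Order3.Fi24
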