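/-
Generated: checks of the tables on the small set.
-/
import Cfsg.Agent.H49.Order3.Fi24.TabSetup

set_option autoImplicit false
set_option maxRecDepth 100000
set_option linter.all false
set_option Elab.async false

namespace H49.Order3.Fi24

theorem tab_ok2_0 : H93.Coset.allRange 0 252 (tabOK 2) = true := by decide +kernel

theorem tab_ok2_1 : H93.Coset.allRange 252 252 (tabOK 2) = true := by decide +kernel

theorem tab_ok2_2 : H93.Coset.allRange 504 252 (tabOK 2) = true := by decide +kernel

theorem tab_ok6_0 : H93.Coset.allRange 0 252 (tabOK 6) = true := by decide +kernel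

theorem tab_ok6_1 : H93.Coset.allRange 252 252 (tabOK 6) = true := by decide +kernel

theorem tab_ok6_2 : H93.Coset.allRange 504 252 (tabOK 6) = true := by decide +kernel

theorem tab_ok10_0 : H93.Coset.allRange 0 252 (tabOK 10) = true := by decide +kernel

theorem tab_ok10_1 : H93.Coset.allRange 252 252 (tabOK 10) = true := by decide +kernel

theorem tab_ok10_2 : H93.Coset.allRange 504 252 (tabOK 10) = true := by decide +kernel

theorem tab_ok14_0 : H93.Coset.allRange 0 252 (tabOK 14) = true := by decide +kernel

theorem tab_ok14_1 : H93.Coset.allRange 252 252 (tabOK 14) = true := by decide +kernel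

theorem tab_ok14_2 : H93.Coset.allRange 504 252 (tabOK 14) = true := by decide +kernel

section

attribute [local irreducible] H93.Coset.allRange tabOK

theorem tab_ok2 : H93.Coset.allRange 0 756 (tabOK 2) = true :=
  H93.Coset.allRange_glue (H93.Coset.allRange_glue tab_ok2_0 tab_ok2_1) tab_ok2_2

theorem tab_ok6 : H93.Coset.allRange 0 756 (tabOK 6) = true :=
  H93.Coset.allRange_glue (H93.Coset.allRange_glue tab_ok6_0 tab_ok6_1) tab_ok6_2

theorem tab_ok10 : H93.Coset.allRange 0 756 (tabOK 10) = true :=
  H93.Coset.allRange_glue (H93.Coset.allRange_glue tab_ok10_0 tab_ok10_1) tab_ok10_2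

theorem tab_ok14 : H93.Coset.allRange 0 756 (tabOK 14) = true :=
  H93.Coset.allRange_glue (H93.Coset.allRange_glue tab_ok14_0 tab_ok14_1) tab_ok14_2

end

end H49.Order3.Fi24
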