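/-
Generated: checks of the tables on the small set.
-/
import Cfsg.Agent.H49.Order3.Fi24.TabSetup

set_option autoImplicit false
set_option maxRecDepth 100000
set_option linter.all false
set_option Elab.async false

namespace H49.Order3.Fi24

theorem tab_ok3_0 : H93.Coset.allRange 0 252 (tabOK 3) = true := by decide +kernel

theorem tab_ok3_1 : H93.Coset.allRange 252 252 (tabOK 3) = true := by decide +kernel

theorem tab_ok3_2 : H93.Coset.allRange 504 252 (tabOK 3) = true := by decide +kernel

theorem tab_ok7_0 : H93.Coset.allRange 0 252 (tabOK 7) = true := by decide +kernel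

theorem tab_ok7_1 : H93.Coset.allRange 252 252 (tabOK 7) = true := by decide +kernel

theorem tab_ok7_2 : H93.Coset.allRange 504 252 (tabOK 7) = true := by decide +kernel

theorem tab_ok11_0 : H93.Coset.allRange 0 252 (tabOK 11) = true := by decide +kernel

theorem tab_ok11_1 : H93.Coset.allRange 252 252 (tabOK 11) = true := by decide +kernel

theorem tab_ok11_2 : H93.Coset.allRange 504 252 (tabOK 11) = true := by decide +kernel

theorem tab_ok15_0 : H93.Coset.allRange 0 252 (tabOK 15) = true := by decide +kernel

theorem tab_ok15_1 : H93.Coset.allRange 252 252 (tabOK 15) = true := by decide +kernel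

theorem tab_ok15_2 : H93.Coset.allRange 504 252 (tabOK 15) = true := by decide +kernel

section

attribute [local irreducible] H93.Coset.allRange tabOK

theorem tab_ok3 : H93.Coset.allRange 0 756 (tabOK 3) = true :=
  H93.Coset.allRange_glue (H93.Coset.allRange_glue tab_ok3_0 tab_ok3_1) tab_ok3_2

theorem tab_ok7 : H93.Coset.allRange 0 756 (tabOK 7) = true :=
  H93.Coset.allRange_glue (H93.Coset.allRange_glue tab_ok7_0 tab_ok7_1) tab_ok7_2

theorem tab_ok11 : H93.Coset.allRange 0 756 (tabOK 11) = true :=
  H93.Coset.allRange_glue (H93.Coset.allRange_glue tab_ok11_0 tab_ok11_1) tab_ok11_2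

theorem tab_ok15 : H93.Coset.allRange 0 756 (tabOK 15) = true :=
  H93.Coset.allRange_glue (H93.Coset.allRange_glue tab_ok15_0 tab_ok15_1) tab_ok15_2

end

end H49.Order3.Fi24
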