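/-
Generated: checks of the witnesses.
-/
import Cfsg.Agent.H49.Order3.Fi24.LeafSetup

set_option autoImplicit false
set_option maxRecDepth 100000
set_option linter.all false
set_option Elab.async false

namespace H49.Order3.Fi24

theorem leaf0_0 : leafRange 0 12 = true := by decide +kernel

theorem leaf0_1 : leafRange 12 12 = true := by decide +kernel

theorem leaf0_2 : leafRange 24 12 = true := by decide +kernel

theorem leaf0_3 : leafRange 36 12 = true := by decide +kernel

theorem leaf0_4 : leafRange 48 12 = true := by decide +kernel

theorem leaf0_5 : leafRange 60 12 = true := by decide +kernel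

theorem leaf0_6 : leafRange 72 12 = true := by decide +kernel

theorem leaf0_7 : leafRange 84 8 = true := by decide +kernel

section

attribute [local irreducible] H93.Coset.allRange leafOne

theorem leafPart0 : leafRange 0 92 = true :=
  (H93.Coset.allRange_glue (H93.Coset.allRange_glue (H93.Coset.allRange_glue (H93.Coset.allRange_glue (H93.Coset.allRange_glue (H93.Coset.allRange_glue (H93.Coset.allRange_glue leaf0_0 leaf0_1) leaf0_2) leaf0_3) leaf0_4) leaf0_5) leaf0_6) leaf0_7)

end

end H49.Order3.Fi24
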