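/-
Generated: checks of the witnesses.
-/
import Cfsg.Agent.H49.Order3.Fi24.LeafSetup

set_option autoImplicit false
set_option maxRecDepth 100000
set_option linter.all false
set_option Elab.async false

namespace H49.Order3.Fi24

theorem leaf1_0 : leafRange 92 12 = true := by decide +kernel

theorem leaf1_1 : leafRange 104 12 = true := by decide +kernel

theorem leaf1_2 : leafRange 116 12 = true := by decide +kernel

theorem leaf1_3 : leafRange 128 12 = true := by decide +kernel

theorem leaf1_4 : leafRange 140 12 = true := by decide +kernel

theorem leaf1_5 : leafRange 152 12 = true := by decide +kernel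

theorem leaf1_6 : leafRange 164 12 = true := by decide +kernel

theorem leaf1_7 : leafRange 176 8 = true := by decide +kernel

section

attribute [local irreducible] H93.Coset.allRange leafOne

theorem leafPart1 : leafRange 92 92 = true :=
  (H93.Coset.allRange_glue (H93.Coset.allRange_glue (H93.Coset.allRange_glue (H93.Coset.allRange_glue (H93.Coset.allRange_glue (H93.Coset.allRange_glue (H93.Coset.allRange_glue leaf1_0 leaf1_1) leaf1_2) leaf1_3) leaf1_4) leaf1_5) leaf1_6) leaf1_7)

end

end H49.Order3.Fi24
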