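/-
Generated: checks of the witnesses.
-/
import Cfsg.Agent.H49.Order3.Fi24.LeafSetup

set_option autoImplicit false
set_option maxRecDepth 100000
set_option linter.all false
set_option Elab.async false

namespace H49.Order3.Fi24

theorem leaf2_0 : leafRange 184 12 = true := by decide +kernel

theorem leaf2_1 : leafRange 196 12 = true := by decide +kernel

theorem leaf2_2 : leafRange 208 12 = true := by decide +kernel

theorem leaf2_3 : leafRange 220 12 = true := by decide +kernel

theorem leaf2_4 : leafRange 232 12 = true := by decide +kernel

theorem leaf2_5 : leafRange 244 12 = true := by decide +kernel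

theorem leaf2_6 : leafRange 256 12 = true := by decide +kernel

theorem leaf2_7 : leafRange 268 8 = true := by decide +kernel

section

attribute [local irreducible] H93.Coset.allRange leafOne

theorem leafPart2 : leafRange 184 92 = true :=
  (H93.Coset.allRange_glue (H93.Coset.allRange_glue (H93.Coset.allRange_glue (H93.Coset.allRange_glue (H93.Coset.allRange_glue (H93.Coset.allRange_glue (H93.Coset.allRange_glue leaf2_0 leaf2_1) leaf2_2) leaf2_3) leaf2_4) leaf2_5) leaf2_6) leaf2_7)

end

end H49.Order3.Fi24
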