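/-
Generated: checks of the witnesses.
-/
import Cfsg.Agent.H49.Order3.Fi24.LeafSetup

set_option autoImplicit false
set_option maxRecDepth 100000
set_option linter.all false
set_option Elab.async false

namespace H49.Order3.Fi24

theorem leaf3_0 : leafRange 276 12 = true := by decide +kernel

theorem leaf3_1 : leafRange 288 12 = true := by decide +kernel

theorem leaf3_2 : leafRange 300 12 = true := by decide +kernel

theorem leaf3_3 : leafRange 312 12 = true := by decide +kernel

theorem leaf3_4 : leafRange 324 12 = true := by decide +kernel

theorem leaf3_5 : leafRange 336 12 = true := by decide +kernel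

theorem leaf3_6 : leafRange 348 12 = true := by decide +kernel

theorem leaf3_7 : leafRange 360 8 = true := by decide +kernel

section

attribute [local irreducible] H93.Coset.allRange leafOne

theorem leafPart3 : leafRange 276 92 = true :=
  (H93.Coset.allRange_glue (H93.Coset.allRange_glue (H93.Coset.allRange_glue (H93.Coset.allRange_glue (H93.Coset.allRange_glue (H93.Coset.allRange_glue (H93.Coset.allRange_glue leaf3_0 leaf3_1) leaf3_2) leaf3_3) leaf3_4) leaf3_5) leaf3_6) leaf3_7)

end

end H49.Order3.Fi24
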