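/-
Generated: checks of the witnesses.
-/
import Cfsg.Agent.H49.Order3.Fi24.LeafSetup

set_option autoImplicit false
set_option maxRecDepth 100000
set_option linter.all false
set_option Elab.async false

namespace H49.Order3.Fi24

theorem leaf4_0 : leafRange 368 12 = true := by decide +kernel

theorem leaf4_1 : leafRange 380 12 = true := by decide +kernel

theorem leaf4_2 : leafRange 392 12 = true := by decide +kernel

theorem leaf4_3 : leafRange 404 12 = true := by decide +kernel

theorem leaf4_4 : leafRange 416 12 = true := by decide +kernel

theorem leaf4_5 : leafRange 428 12 = true := by decide +kernel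

theorem leaf4_6 : leafRange 440 12 = true := by decide +kernel

theorem leaf4_7 : leafRange 452 8 = true := by decide +kernel

section

attribute [local irreducible] H93.Coset.allRange leafOne

theorem leafPart4 : leafRange 368 92 = true :=
  (H93.Coset.allRange_glue (H93.Coset.allRange_glue (H93.Coset.allRange_glue (H93.Coset.allRange_glue (H93.Coset.allRange_glue (H93.Coset.allRange_glue (H93.Coset.allRange_glue leaf4_0 leaf4_1) leaf4_2) leaf4_3) leaf4_4) leaf4_5) leaf4_6) leaf4_7)

end

end H49.Order3.Fi24
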