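/-
Generated: checks of the witnesses.
-/
import Cfsg.Agent.H49.Order3.Fi24.LeafSetup

set_option autoImplicit false
set_option maxRecDepth 100000
set_option linter.all false
set_option Elab.async false

namespace H49.Order3.Fi24

theorem leaf5_0 : leafRange 460 12 = true := by decide +kernel

theorem leaf5_1 : leafRange 472 12 = true := by decide +kernel

theorem leaf5_2 : leafRange 484 12 = true := by decide +kernel

theorem leaf5_3 : leafRange 496 12 = true := by decide +kernel

theorem leaf5_4 : leafRange 508 12 = true := by decide +kernel

theorem leaf5_5 : leafRange 520 12 = true := by decide +kernel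

theorem leaf5_6 : leafRange 532 12 = true := by decide +kernel

theorem leaf5_7 : leafRange 544 8 = true := by decide +kernel

section

attribute [local irreducible] H93.Coset.allRange leafOne

theorem leafPart5 : leafRange 460 92 = true :=
  (H93.Coset.allRange_glue (H93.Coset.allRange_glue (H93.Coset.allRange_glue (H93.Coset.allRange_glue (H93.Coset.allRange_glue (H93.Coset.allRange_glue (H93.Coset.allRange_glue leaf5_0 leaf5_1) leaf5_2) leaf5_3) leaf5_4) leaf5_5) leaf5_6) leaf5_7)

end

end H49.Order3.Fi24
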