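/-
Generated: checks of the witnesses.
-/
import Cfsg.Agent.H49.Order3.Fi24.LeafSetup

set_option autoImplicit false
set_option maxRecDepth 100000
set_option linter.all false
set_option Elab.async false

namespace H49.Order3.Fi24

theorem leaf6_0 : leafRange 552 12 = true := by decide +kernel

theorem leaf6_1 : leafRange 564 12 = true := by decide +kernel

theorem leaf6_2 : leafRange 576 12 = true := by decide +kernel

theorem leaf6_3 : leafRange 588 12 = true := by decide +kernel

theorem leaf6_4 : leafRange 600 12 = true := by decide +kernel

theorem leaf6_5 : leafRange 612 12 = true := by decide +kernel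

theorem leaf6_6 : leafRange 624 12 = true := by decide +kernel

theorem leaf6_7 : leafRange 636 8 = true := by decide +kernel

section

attribute [local irreducible] H93.Coset.allRange leafOne

theorem leafPart6 : leafRange 552 92 = true :=
  (H93.Coset.allRange_glue (H93.Coset.allRange_glue (H93.Coset.allRange_glue (H93.Coset.allRange_glue (H93.Coset.allRange_glue (H93.Coset.allRange_glue (H93.Coset.allRange_glue leaf6_0 leaf6_1) leaf6_2) leaf6_3) leaf6_4) leaf6_5) leaf6_6) leaf6_7)

end

end H49.Order3.Fi24
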