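/-
Generated: checks of the witnesses.
-/
import Cfsg.Agent.H49.Order3.Fi24.LeafSetup

set_option autoImplicit false
set_option maxRecDepth 100000
set_option linter.all false
set_option Elab.async false

namespace H49.Order3.Fi24

theorem leaf7_0 : leafRange 644 12 = true := by decide +kernel

theorem leaf7_1 : leafRange 656 12 = true := by decide +kernel

theorem leaf7_2 : leafRange 668 12 = true := by decide +kernel

theorem leaf7_3 : leafRange 680 12 = true := by decide +kernel

theorem leaf7_4 : leafRange 692 12 = true := by decide +kernel

theorem leaf7_5 : leafRange 704 12 = true := by decide +kernel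

theorem leaf7_6 : leafRange 716 12 = true := by decide +kernel

theorem leaf7_7 : leafRange 728 8 = true := by decide +kernel

section

attribute [local irreducible] H93.Coset.allRange leafOne

theorem leafPart7 : leafRange 644 92 = true :=
  (H93.Coset.allRange_glue (H93.Coset.allRange_glue (H93.Coset.allRange_glue (H93.Coset.allRange_glue (H93.Coset.allRange_glue (H93.Coset.allRange_glue (H93.Coset.allRange_glue leaf7_0 leaf7_1) leaf7_2) leaf7_3) leaf7_4) leaf7_5) leaf7_6) leaf7_7)

end

end H49.Order3.Fi24
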