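/-
Generated: checks of the witnesses.
-/
import Cfsg.Agent.H49.Order3.Fi24.LeafSetup

set_option autoImplicit false
set_option maxRecDepth 100000
set_option linter.all false
set_option Elab.async false

namespace H49.Order3.Fi24

theorem leaf8_0 : leafRange 736 12 = true := by decide +kernel

theorem leaf8_1 : leafRange 748 12 = true := by decide +kernel

theorem leaf8_2 : leafRange 760 12 = true := by decide +kernel

theorem leaf8_3 : leafRange 772 12 = true := by decide +kernel

theorem leaf8_4 : leafRange 784 12 = true := by decide +kernel

theorem leaf8_5 : leafRange 796 12 = true := by decide +kernel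

theorem leaf8_6 : leafRange 808 12 = true := by decide +kernel

theorem leaf8_7 : leafRange 820 4 = true := by decide +kernel

section

attribute [local irreducible] H93.Coset.allRange leafOne

theorem leafPart8 : leafRange 736 88 = true :=
  (H93.Coset.allRange_glue (H93.Coset.allRange_glue (H93.Coset.allRange_glue (H93.Coset.allRange_glue (H93.Coset.allRange_glue (H93.Coset.allRange_glue (H93.Coset.allRange_glue leaf8_0 leaf8_1) leaf8_2) leaf8_3) leaf8_4) leaf8_5) leaf8_6) leaf8_7)

end

end H49.Order3.Fi24
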