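/-
Generated: the assembled check of the witnesses.
-/
import Cfsg.Agent.H49.Order3.Fi24.Check.Leaf0
import Cfsg.Agent.H49.Order3.Fi24.Check.Leaf1
import Cfsg.Agent.H49.Order3.Fi24.Check.Leaf2
import Cfsg.Agent.H49.Order3.Fi24.Check.Leaf3
import Cfsg.Agent.H49.Order3.Fi24.Check.Leaf4
import Cfsg.Agent.H49.Order3.Fi24.Check.Leaf5
import Cfsg.Agent.H49.Order3.Fi24.Check.Leaf6
import Cfsg.Agent.H49.Order3.Fi24.Check.Leaf7
import Cfsg.Agent.H49.Order3.Fi24.Check.Leaf8

set_option autoImplicit false
set_option maxRecDepth 100000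
set_option linter.all false

namespace H49.Order3.Fi24

attribute [local irreducible] H93.Coset.allRange leafOne

theorem leaf_all : leafRange 0 824 = true :=
  (H93.Coset.allRange_glue (H93.Coset.allRange_glue (H93.Coset.allRange_glue (H93.Coset.allRange_glue (H93.Coset.allRange_glue (H93.Coset.allRange_glue (H93.Coset.allRange_glue (H93.Coset.allRange_glue leafPart0 leafPart1) leafPart2) leafPart3) leafPart4) leafPart5) leafPart6) leafPart7) leafPart8)

end H49.Order3.Fi24
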