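/-
Generated: checks of the labels.
-/
import Cfsg.Agent.H49.Order3.Fi24.LeafSetup

set_option autoImplicit false
set_option maxRecDepth 100000
set_option linter.all false
set_option Elab.async false

namespace H49.Order3.Fi24

open H93.Coset (allRange allRange_glue)

theorem phi0_0 : allRange 0 800 phiOK = true := by decide +kernel

theorem phi0_1 : allRange 800 800 phiOK = true := by decide +kernel

theorem phi0_2 : allRange 1600 800 phiOK = true := by decide +kernel

theorem phi0_3 : allRange 2400 800 phiOK = true := by decide +kernel

theorem phi0_4 : allRange 3200 800 phiOK = true := by decide +kernel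

theorem phi0_5 : allRange 4000 800 phiOK = true := by decide +kernel

theorem phi0_6 : allRange 4800 800 phiOK = true := by decide +kernel

theorem phi0_7 : allRange 5600 800 phiOK = true := by decide +kernel

theorem phi0_8 : allRange 6400 800 phiOK = true := by decide +kernel

theorem phi0_9 : allRange 7200 800 phiOK = true := by decide +kernel

theorem phi0_10 : allRange 8000 800 phiOK = true := by decide +kernel

theorem phi0_11 : allRange 8800 800 phiOK = true := by decide +kernel

theorem phi0_12 : allRange 9600 800 phiOK = true := by decide +kernel

theorem phi0_13 : allRange 10400 800 phiOK = true := by decide +kernel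

theorem phi0_14 : allRange 11200 800 phiOK = true := by decide +kernel

theorem phi0_15 : allRange 12000 800 phiOK = true := by decide +kernel

theorem phi0_16 : allRange 12800 800 phiOK = true := by decide +kernel

theorem phi0_17 : allRange 13600 800 phiOK = true := by decide +kernel

theorem phi0_18 : allRange 14400 800 phiOK = true := by decide +kernel

theorem phi0_19 : allRange 15200 800 phiOK = true := by decide +kernel

theorem phi0_20 : allRange 16000 800 phiOK = true := by decide +kernel

theorem phi0_21 : allRange 16800 800 phiOK = true := by decide +kernel

theorem phi0_22 : allRange 17600 800 phiOK = true := by decide +kernel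

theorem phi0_23 : allRange 18400 784 phiOK = true := by decide +kernel

section

attribute [local irreducible] H93.Coset.allRange phiOK

theorem phiPart0 : allRange 0 19184 phiOK = true :=
  (allRange_glue (allRange_glue (allRange_glue (allRange_glue (allRange_glue (allRange_glue (allRange_glue (allRange_glue (allRange_glue (allRange_glue (allRange_glue (allRange_glue (allRange_glue (allRange_glue (allRange_glue (allRange_glue (allRange_glue (allRange_glue (allRange_glue (allRange_glue (allRange_glue (allRange_glue (allRange_glue phi0_0 phi0_1) phi0_2) phi0_3) phi0_4) phi0_5) phi0_6) phi0_7) phi0_8) phi0_9) phi0_10) phi0_11) phi0_12) phi0_13) phi0_14) phi0_15) phi0_16) phi0_17) phi0_18) phi0_19) phi0_20) phi0_21) phi0_22) phi0_23)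

end

end H49.Order3.Fi24
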