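/-
Generated: checks of the labels.
-/
import Cfsg.Agent.H49.Order3.Fi24.LeafSetup

set_option autoImplicit false
set_option maxRecDepth 100000
set_option linter.all false
set_option Elab.async false

namespace H49.Order3.Fi24

open H93.Coset (allRange allRange_glue)

theorem phi1_0 : allRange 19184 800 phiOK = true := by decide +kernel

theorem phi1_1 : allRange 19984 800 phiOK = true := by decide +kernel

theorem phi1_2 : allRange 20784 800 phiOK = true := by decide +kernel

theorem phi1_3 : allRange 21584 800 phiOK = true := by decide +kernel

theorem phi1_4 : allRange 22384 800 phiOK = true := by decide +kernel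

theorem phi1_5 : allRange 23184 800 phiOK = true := by decide +kernel

theorem phi1_6 : allRange 23984 800 phiOK = true := by decide +kernel

theorem phi1_7 : allRange 24784 800 phiOK = true := by decide +kernel

theorem phi1_8 : allRange 25584 800 phiOK = true := by decide +kernel

theorem phi1_9 : allRange 26384 800 phiOK = true := by decide +kernel

theorem phi1_10 : allRange 27184 800 phiOK = true := by decide +kernel

theorem phi1_11 : allRange 27984 800 phiOK = true := by decide +kernel

theorem phi1_12 : allRange 28784 800 phiOK = true := by decide +kernel

theorem phi1_13 : allRange 29584 800 phiOK = true := by decide +kernel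

theorem phi1_14 : allRange 30384 800 phiOK = true := by decide +kernel

theorem phi1_15 : allRange 31184 800 phiOK = true := by decide +kernel

theorem phi1_16 : allRange 31984 800 phiOK = true := by decide +kernel

theorem phi1_17 : allRange 32784 800 phiOK = true := by decide +kernel

theorem phi1_18 : allRange 33584 800 phiOK = true := by decide +kernel

theorem phi1_19 : allRange 34384 800 phiOK = true := by decide +kernel

theorem phi1_20 : allRange 35184 800 phiOK = true := by decide +kernel

theorem phi1_21 : allRange 35984 800 phiOK = true := by decide +kernel

theorem phi1_22 : allRange 36784 800 phiOK = true := by decide +kernel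

theorem phi1_23 : allRange 37584 784 phiOK = true := by decide +kernel

section

attribute [local irreducible] H93.Coset.allRange phiOK

theorem phiPart1 : allRange 19184 19184 phiOK = true :=
  (allRange_glue (allRange_glue (allRange_glue (allRange_glue (allRange_glue (allRange_glue (allRange_glue (allRange_glue (allRange_glue (allRange_glue (allRange_glue (allRange_glue (allRange_glue (allRange_glue (allRange_glue (allRange_glue (allRange_glue (allRange_glue (allRange_glue (allRange_glue (allRange_glue (allRange_glue (allRange_glue phi1_0 phi1_1) phi1_2) phi1_3) phi1_4) phi1_5) phi1_6) phi1_7) phi1_8) phi1_9) phi1_10) phi1_11) phi1_12) phi1_13) phi1_14) phi1_15) phi1_16) phi1_17) phi1_18) phi1_19) phi1_20) phi1_21) phi1_22) phi1_23)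

end

end H49.Order3.Fi24
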