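/-
Generated: checks of the labels.
-/
import Cfsg.Agent.H49.Order3.Fi24.LeafSetup

set_option autoImplicit false
set_option maxRecDepth 100000
set_option linter.all false
set_option Elab.async false

namespace H49.Order3.Fi24

open H93.Coset (allRange allRange_glue)

theorem phi11_0 : allRange 211024 800 phiOK = true := by decide +kernel

theorem phi11_1 : allRange 211824 800 phiOK = true := by decide +kernel

theorem phi11_2 : allRange 212624 800 phiOK = true := by decide +kernel

theorem phi11_3 : allRange 213424 800 phiOK = true := by decide +kernel

theorem phi11_4 : allRange 214224 800 phiOK = true := by decide +kernel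

theorem phi11_5 : allRange 215024 800 phiOK = true := by decide +kernel

theorem phi11_6 : allRange 215824 800 phiOK = true := by decide +kernel

theorem phi11_7 : allRange 216624 800 phiOK = true := by decide +kernel

theorem phi11_8 : allRange 217424 800 phiOK = true := by decide +kernel

theorem phi11_9 : allRange 218224 800 phiOK = true := by decide +kernel

theorem phi11_10 : allRange 219024 800 phiOK = true := by decide +kernel

theorem phi11_11 : allRange 219824 800 phiOK = true := by decide +kernel

theorem phi11_12 : allRange 220624 800 phiOK = true := by decide +kernel

theorem phi11_13 : allRange 221424 800 phiOK = true := by decide +kernel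

theorem phi11_14 : allRange 222224 800 phiOK = true := by decide +kernel

theorem phi11_15 : allRange 223024 800 phiOK = true := by decide +kernel

theorem phi11_16 : allRange 223824 800 phiOK = true := by decide +kernel

theorem phi11_17 : allRange 224624 800 phiOK = true := by decide +kernel

theorem phi11_18 : allRange 225424 800 phiOK = true := by decide +kernel

theorem phi11_19 : allRange 226224 800 phiOK = true := by decide +kernel

theorem phi11_20 : allRange 227024 800 phiOK = true := by decide +kernel

theorem phi11_21 : allRange 227824 800 phiOK = true := by decide +kernel

theorem phi11_22 : allRange 228624 800 phiOK = true := by decide +kernel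

theorem phi11_23 : allRange 229424 784 phiOK = true := by decide +kernel

section

attribute [local irreducible] H93.Coset.allRange phiOK

theorem phiPart11 : allRange 211024 19184 phiOK = true :=
  (allRange_glue (allRange_glue (allRange_glue (allRange_glue (allRange_glue (allRange_glue (allRange_glue (allRange_glue (allRange_glue (allRange_glue (allRange_glue (allRange_glue (allRange_glue (allRange_glue (allRange_glue (allRange_glue (allRange_glue (allRange_glue (allRange_glue (allRange_glue (allRange_glue (allRange_glue (allRange_glue phi11_0 phi11_1) phi11_2) phi11_3) phi11_4) phi11_5) phi11_6) phi11_7) phi11_8) phi11_9) phi11_10) phi11_11) phi11_12) phi11_13) phi11_14) phi11_15) phi11_16) phi11_17) phi11_18) phi11_19) phi11_20) phi11_21) phi11_22) phi11_23)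

end

end H49.Order3.Fi24
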