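/-
Generated: checks of the labels.
-/
import Cfsg.Agent.H49.Order3.Fi24.LeafSetup

set_option autoImplicit false
set_option maxRecDepth 100000
set_option linter.all false
set_option Elab.async false

namespace H49.Order3.Fi24

open H93.Coset (allRange allRange_glue)

theorem phi12_0 : allRange 230208 800 phiOK = true := by decide +kernel

theorem phi12_1 : allRange 231008 800 phiOK = true := by decide +kernel

theorem phi12_2 : allRange 231808 800 phiOK = true := by decide +kernel

theorem phi12_3 : allRange 232608 800 phiOK = true := by decide +kernel

theorem phi12_4 : allRange 233408 800 phiOK = true := by decide +kernel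

theorem phi12_5 : allRange 234208 800 phiOK = true := by decide +kernel

theorem phi12_6 : allRange 235008 800 phiOK = true := by decide +kernel

theorem phi12_7 : allRange 235808 800 phiOK = true := by decide +kernel

theorem phi12_8 : allRange 236608 800 phiOK = true := by decide +kernel

theorem phi12_9 : allRange 237408 800 phiOK = true := by decide +kernel

theorem phi12_10 : allRange 238208 800 phiOK = true := by decide +kernel

theorem phi12_11 : allRange 239008 800 phiOK = true := by decide +kernel

theorem phi12_12 : allRange 239808 800 phiOK = true := by decide +kernel

theorem phi12_13 : allRange 240608 800 phiOK = true := by decide +kernel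

theorem phi12_14 : allRange 241408 800 phiOK = true := by decide +kernel

theorem phi12_15 : allRange 242208 800 phiOK = true := by decide +kernel

theorem phi12_16 : allRange 243008 800 phiOK = true := by decide +kernel

theorem phi12_17 : allRange 243808 800 phiOK = true := by decide +kernel

theorem phi12_18 : allRange 244608 800 phiOK = true := by decide +kernel

theorem phi12_19 : allRange 245408 800 phiOK = true := by decide +kernel

theorem phi12_20 : allRange 246208 800 phiOK = true := by decide +kernel

theorem phi12_21 : allRange 247008 800 phiOK = true := by decide +kernel

theorem phi12_22 : allRange 247808 800 phiOK = true := by decide +kernel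

theorem phi12_23 : allRange 248608 784 phiOK = true := by decide +kernel

section

attribute [local irreducible] H93.Coset.allRange phiOK

theorem phiPart12 : allRange 230208 19184 phiOK = true :=
  (allRange_glue (allRange_glue (allRange_glue (allRange_glue (allRange_glue (allRange_glue (allRange_glue (allRange_glue (allRange_glue (allRange_glue (allRange_glue (allRange_glue (allRange_glue (allRange_glue (allRange_glue (allRange_glue (allRange_glue (allRange_glue (allRange_glue (allRange_glue (allRange_glue (allRange_glue (allRange_glue phi12_0 phi12_1) phi12_2) phi12_3) phi12_4) phi12_5) phi12_6) phi12_7) phi12_8) phi12_9) phi12_10) phi12_11) phi12_12) phi12_13) phi12_14) phi12_15) phi12_16) phi12_17) phi12_18) phi12_19) phi12_20) phi12_21) phi12_22) phi12_23)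

end

end H49.Order3.Fi24
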