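/-
Generated: checks of the labels.
-/
import Cfsg.Agent.H49.Order3.Fi24.LeafSetup

set_option autoImplicit false
set_option maxRecDepth 100000
set_option linter.all false
set_option Elab.async false

namespace H49.Order3.Fi24

open H93.Coset (allRange allRange_glue)

theorem phi13_0 : allRange 249392 800 phiOK = true := by decide +kernel

theorem phi13_1 : allRange 250192 800 phiOK = true := by decide +kernel

theorem phi13_2 : allRange 250992 800 phiOK = true := by decide +kernel

theorem phi13_3 : allRange 251792 800 phiOK = true := by decide +kernel

theorem phi13_4 : allRange 252592 800 phiOK = true := by decide +kernel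

theorem phi13_5 : allRange 253392 800 phiOK = true := by decide +kernel

theorem phi13_6 : allRange 254192 800 phiOK = true := by decide +kernel

theorem phi13_7 : allRange 254992 800 phiOK = true := by decide +kernel

theorem phi13_8 : allRange 255792 800 phiOK = true := by decide +kernel

theorem phi13_9 : allRange 256592 800 phiOK = true := by decide +kernel

theorem phi13_10 : allRange 257392 800 phiOK = true := by decide +kernel

theorem phi13_11 : allRange 258192 800 phiOK = true := by decide +kernel

theorem phi13_12 : allRange 258992 800 phiOK = true := by decide +kernel

theorem phi13_13 : allRange 259792 800 phiOK = true := by decide +kernel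

theorem phi13_14 : allRange 260592 800 phiOK = true := by decide +kernel

theorem phi13_15 : allRange 261392 800 phiOK = true := by decide +kernel

theorem phi13_16 : allRange 262192 800 phiOK = true := by decide +kernel

theorem phi13_17 : allRange 262992 800 phiOK = true := by decide +kernel

theorem phi13_18 : allRange 263792 800 phiOK = true := by decide +kernel

theorem phi13_19 : allRange 264592 800 phiOK = true := by decide +kernel

theorem phi13_20 : allRange 265392 800 phiOK = true := by decide +kernel

theorem phi13_21 : allRange 266192 800 phiOK = true := by decide +kernel

theorem phi13_22 : allRange 266992 800 phiOK = true := by decide +kernel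

theorem phi13_23 : allRange 267792 784 phiOK = true := by decide +kernel

section

attribute [local irreducible] H93.Coset.allRange phiOK

theorem phiPart13 : allRange 249392 19184 phiOK = true :=
  (allRange_glue (allRange_glue (allRange_glue (allRange_glue (allRange_glue (allRange_glue (allRange_glue (allRange_glue (allRange_glue (allRange_glue (allRange_glue (allRange_glue (allRange_glue (allRange_glue (allRange_glue (allRange_glue (allRange_glue (allRange_glue (allRange_glue (allRange_glue (allRange_glue (allRange_glue (allRange_glue phi13_0 phi13_1) phi13_2) phi13_3) phi13_4) phi13_5) phi13_6) phi13_7) phi13_8) phi13_9) phi13_10) phi13_11) phi13_12) phi13_13) phi13_14) phi13_15) phi13_16) phi13_17) phi13_18) phi13_19) phi13_20) phi13_21) phi13_22) phi13_23)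

end

end H49.Order3.Fi24
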