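/-
Generated: checks of the labels.
-/
import Cfsg.Agent.H49.Order3.Fi24.LeafSetup

set_option autoImplicit false
set_option maxRecDepth 100000
set_option linter.all false
set_option Elab.async false

namespace H49.Order3.Fi24

open H93.Coset (allRange allRange_glue)

theorem phi14_0 : allRange 268576 800 phiOK = true := by decide +kernel

theorem phi14_1 : allRange 269376 800 phiOK = true := by decide +kernel

theorem phi14_2 : allRange 270176 800 phiOK = true := by decide +kernel

theorem phi14_3 : allRange 270976 800 phiOK = true := by decide +kernel

theorem phi14_4 : allRange 271776 800 phiOK = true := by decide +kernel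

theorem phi14_5 : allRange 272576 800 phiOK = true := by decide +kernel

theorem phi14_6 : allRange 273376 800 phiOK = true := by decide +kernel

theorem phi14_7 : allRange 274176 800 phiOK = true := by decide +kernel

theorem phi14_8 : allRange 274976 800 phiOK = true := by decide +kernel

theorem phi14_9 : allRange 275776 800 phiOK = true := by decide +kernel

theorem phi14_10 : allRange 276576 800 phiOK = true := by decide +kernel

theorem phi14_11 : allRange 277376 800 phiOK = true := by decide +kernel

theorem phi14_12 : allRange 278176 800 phiOK = true := by decide +kernel

theorem phi14_13 : allRange 278976 800 phiOK = true := by decide +kernel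

theorem phi14_14 : allRange 279776 800 phiOK = true := by decide +kernel

theorem phi14_15 : allRange 280576 800 phiOK = true := by decide +kernel

theorem phi14_16 : allRange 281376 800 phiOK = true := by decide +kernel

theorem phi14_17 : allRange 282176 800 phiOK = true := by decide +kernel

theorem phi14_18 : allRange 282976 800 phiOK = true := by decide +kernel

theorem phi14_19 : allRange 283776 800 phiOK = true := by decide +kernel

theorem phi14_20 : allRange 284576 800 phiOK = true := by decide +kernel

theorem phi14_21 : allRange 285376 800 phiOK = true := by decide +kernel

theorem phi14_22 : allRange 286176 800 phiOK = true := by decide +kernel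

theorem phi14_23 : allRange 286976 784 phiOK = true := by decide +kernel

section

attribute [local irreducible] H93.Coset.allRange phiOK

theorem phiPart14 : allRange 268576 19184 phiOK = true :=
  (allRange_glue (allRange_glue (allRange_glue (allRange_glue (allRange_glue (allRange_glue (allRange_glue (allRange_glue (allRange_glue (allRange_glue (allRange_glue (allRange_glue (allRange_glue (allRange_glue (allRange_glue (allRange_glue (allRange_glue (allRange_glue (allRange_glue (allRange_glue (allRange_glue (allRange_glue (allRange_glue phi14_0 phi14_1) phi14_2) phi14_3) phi14_4) phi14_5) phi14_6) phi14_7) phi14_8) phi14_9) phi14_10) phi14_11) phi14_12) phi14_13) phi14_14) phi14_15) phi14_16) phi14_17) phi14_18) phi14_19) phi14_20) phi14_21) phi14_22) phi14_23)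

end

end H49.Order3.Fi24
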