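/-
Generated: checks of the labels.
-/
import Cfsg.Agent.H49.Order3.Fi24.LeafSetup

set_option autoImplicit false
set_option maxRecDepth 100000
set_option linter.all false
set_option Elab.async false

namespace H49.Order3.Fi24

open H93.Coset (allRange allRange_glue)

theorem phi15_0 : allRange 287760 800 phiOK = true := by decide +kernel

theorem phi15_1 : allRange 288560 800 phiOK = true := by decide +kernel

theorem phi15_2 : allRange 289360 800 phiOK = true := by decide +kernel

theorem phi15_3 : allRange 290160 800 phiOK = true := by decide +kernel

theorem phi15_4 : allRange 290960 800 phiOK = true := by decide +kernel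

theorem phi15_5 : allRange 291760 800 phiOK = true := by decide +kernel

theorem phi15_6 : allRange 292560 800 phiOK = true := by decide +kernel

theorem phi15_7 : allRange 293360 800 phiOK = true := by decide +kernel

theorem phi15_8 : allRange 294160 800 phiOK = true := by decide +kernel

theorem phi15_9 : allRange 294960 800 phiOK = true := by decide +kernel

theorem phi15_10 : allRange 295760 800 phiOK = true := by decide +kernel

theorem phi15_11 : allRange 296560 800 phiOK = true := by decide +kernel

theorem phi15_12 : allRange 297360 800 phiOK = true := by decide +kernel

theorem phi15_13 : allRange 298160 800 phiOK = true := by decide +kernel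

theorem phi15_14 : allRange 298960 800 phiOK = true := by decide +kernel

theorem phi15_15 : allRange 299760 800 phiOK = true := by decide +kernel

theorem phi15_16 : allRange 300560 800 phiOK = true := by decide +kernel

theorem phi15_17 : allRange 301360 800 phiOK = true := by decide +kernel

theorem phi15_18 : allRange 302160 800 phiOK = true := by decide +kernel

theorem phi15_19 : allRange 302960 800 phiOK = true := by decide +kernel

theorem phi15_20 : allRange 303760 800 phiOK = true := by decide +kernel

theorem phi15_21 : allRange 304560 800 phiOK = true := by decide +kernel

theorem phi15_22 : allRange 305360 800 phiOK = true := by decide +kernel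

theorem phi15_23 : allRange 306160 776 phiOK = true := by decide +kernel

section

attribute [local irreducible] H93.Coset.allRange phiOK

theorem phiPart15 : allRange 287760 19176 phiOK = true :=
  (allRange_glue (allRange_glue (allRange_glue (allRange_glue (allRange_glue (allRange_glue (allRange_glue (allRange_glue (allRange_glue (allRange_glue (allRange_glue (allRange_glue (allRange_glue (allRange_glue (allRange_glue (allRange_glue (allRange_glue (allRange_glue (allRange_glue (allRange_glue (allRange_glue (allRange_glue (allRange_glue phi15_0 phi15_1) phi15_2) phi15_3) phi15_4) phi15_5) phi15_6) phi15_7) phi15_8) phi15_9) phi15_10) phi15_11) phi15_12) phi15_13) phi15_14) phi15_15) phi15_16) phi15_17) phi15_18) phi15_19) phi15_20) phi15_21) phi15_22) phi15_23)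

end

end H49.Order3.Fi24
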