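/-
Generated: checks of the labels.
-/
import Cfsg.Agent.H49.Order3.Fi24.LeafSetup

set_option autoImplicit false
set_option maxRecDepth 100000
set_option linter.all false
set_option Elab.async false

namespace H49.Order3.Fi24

open H93.Coset (allRange allRange_glue)

theorem phi2_0 : allRange 38368 800 phiOK = true := by decide +kernel

theorem phi2_1 : allRange 39168 800 phiOK = true := by decide +kernel

theorem phi2_2 : allRange 39968 800 phiOK = true := by decide +kernel

theorem phi2_3 : allRange 40768 800 phiOK = true := by decide +kernel

theorem phi2_4 : allRange 41568 800 phiOK = true := by decide +kernel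

theorem phi2_5 : allRange 42368 800 phiOK = true := by decide +kernel

theorem phi2_6 : allRange 43168 800 phiOK = true := by decide +kernel

theorem phi2_7 : allRange 43968 800 phiOK = true := by decide +kernel

theorem phi2_8 : allRange 44768 800 phiOK = true := by decide +kernel

theorem phi2_9 : allRange 45568 800 phiOK = true := by decide +kernel

theorem phi2_10 : allRange 46368 800 phiOK = true := by decide +kernel

theorem phi2_11 : allRange 47168 800 phiOK = true := by decide +kernel

theorem phi2_12 : allRange 47968 800 phiOK = true := by decide +kernel

theorem phi2_13 : allRange 48768 800 phiOK = true := by decide +kernel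

theorem phi2_14 : allRange 49568 800 phiOK = true := by decide +kernel

theorem phi2_15 : allRange 50368 800 phiOK = true := by decide +kernel

theorem phi2_16 : allRange 51168 800 phiOK = true := by decide +kernel

theorem phi2_17 : allRange 51968 800 phiOK = true := by decide +kernel

theorem phi2_18 : allRange 52768 800 phiOK = true := by decide +kernel

theorem phi2_19 : allRange 53568 800 phiOK = true := by decide +kernel

theorem phi2_20 : allRange 54368 800 phiOK = true := by decide +kernel

theorem phi2_21 : allRange 55168 800 phiOK = true := by decide +kernel

theorem phi2_22 : allRange 55968 800 phiOK = true := by decide +kernel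

theorem phi2_23 : allRange 56768 784 phiOK = true := by decide +kernel

section

attribute [local irreducible] H93.Coset.allRange phiOK

theorem phiPart2 : allRange 38368 19184 phiOK = true :=
  (allRange_glue (allRange_glue (allRange_glue (allRange_glue (allRange_glue (allRange_glue (allRange_glue (allRange_glue (allRange_glue (allRange_glue (allRange_glue (allRange_glue (allRange_glue (allRange_glue (allRange_glue (allRange_glue (allRange_glue (allRange_glue (allRange_glue (allRange_glue (allRange_glue (allRange_glue (allRange_glue phi2_0 phi2_1) phi2_2) phi2_3) phi2_4) phi2_5) phi2_6) phi2_7) phi2_8) phi2_9) phi2_10) phi2_11) phi2_12) phi2_13) phi2_14) phi2_15) phi2_16) phi2_17) phi2_18) phi2_19) phi2_20) phi2_21) phi2_22) phi2_23)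

end

end H49.Order3.Fi24
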