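/-
Generated: checks of the labels.
-/
import Cfsg.Agent.H49.Order3.Fi24.LeafSetup

set_option autoImplicit false
set_option maxRecDepth 100000
set_option linter.all false
set_option Elab.async false

namespace H49.Order3.Fi24

open H93.Coset (allRange allRange_glue)

theorem phi3_0 : allRange 57552 800 phiOK = true := by decide +kernel

theorem phi3_1 : allRange 58352 800 phiOK = true := by decide +kernel

theorem phi3_2 : allRange 59152 800 phiOK = true := by decide +kernel

theorem phi3_3 : allRange 59952 800 phiOK = true := by decide +kernel

theorem phi3_4 : allRange 60752 800 phiOK = true := by decide +kernel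

theorem phi3_5 : allRange 61552 800 phiOK = true := by decide +kernel

theorem phi3_6 : allRange 62352 800 phiOK = true := by decide +kernel

theorem phi3_7 : allRange 63152 800 phiOK = true := by decide +kernel

theorem phi3_8 : allRange 63952 800 phiOK = true := by decide +kernel

theorem phi3_9 : allRange 64752 800 phiOK = true := by decide +kernel

theorem phi3_10 : allRange 65552 800 phiOK = true := by decide +kernel

theorem phi3_11 : allRange 66352 800 phiOK = true := by decide +kernel

theorem phi3_12 : allRange 67152 800 phiOK = true := by decide +kernel

theorem phi3_13 : allRange 67952 800 phiOK = true := by decide +kernel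

theorem phi3_14 : allRange 68752 800 phiOK = true := by decide +kernel

theorem phi3_15 : allRange 69552 800 phiOK = true := by decide +kernel

theorem phi3_16 : allRange 70352 800 phiOK = true := by decide +kernel

theorem phi3_17 : allRange 71152 800 phiOK = true := by decide +kernel

theorem phi3_18 : allRange 71952 800 phiOK = true := by decide +kernel

theorem phi3_19 : allRange 72752 800 phiOK = true := by decide +kernel

theorem phi3_20 : allRange 73552 800 phiOK = true := by decide +kernel

theorem phi3_21 : allRange 74352 800 phiOK = true := by decide +kernel

theorem phi3_22 : allRange 75152 800 phiOK = true := by decide +kernel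

theorem phi3_23 : allRange 75952 784 phiOK = true := by decide +kernel

section

attribute [local irreducible] H93.Coset.allRange phiOK

theorem phiPart3 : allRange 57552 19184 phiOK = true :=
  (allRange_glue (allRange_glue (allRange_glue (allRange_glue (allRange_glue (allRange_glue (allRange_glue (allRange_glue (allRange_glue (allRange_glue (allRange_glue (allRange_glue (allRange_glue (allRange_glue (allRange_glue (allRange_glue (allRange_glue (allRange_glue (allRange_glue (allRange_glue (allRange_glue (allRange_glue (allRange_glue phi3_0 phi3_1) phi3_2) phi3_3) phi3_4) phi3_5) phi3_6) phi3_7) phi3_8) phi3_9) phi3_10) phi3_11) phi3_12) phi3_13) phi3_14) phi3_15) phi3_16) phi3_17) phi3_18) phi3_19) phi3_20) phi3_21) phi3_22) phi3_23)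

end

end H49.Order3.Fi24
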