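/-
Generated: checks of the labels.
-/
import Cfsg.Agent.H49.Order3.Fi24.LeafSetup

set_option autoImplicit false
set_option maxRecDepth 100000
set_option linter.all false
set_option Elab.async false

namespace H49.Order3.Fi24

open H93.Coset (allRange allRange_glue)

theorem phi4_0 : allRange 76736 800 phiOK = true := by decide +kernel

theorem phi4_1 : allRange 77536 800 phiOK = true := by decide +kernel

theorem phi4_2 : allRange 78336 800 phiOK = true := by decide +kernel

theorem phi4_3 : allRange 79136 800 phiOK = true := by decide +kernel

theorem phi4_4 : allRange 79936 800 phiOK = true := by decide +kernel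

theorem phi4_5 : allRange 80736 800 phiOK = true := by decide +kernel

theorem phi4_6 : allRange 81536 800 phiOK = true := by decide +kernel

theorem phi4_7 : allRange 82336 800 phiOK = true := by decide +kernel

theorem phi4_8 : allRange 83136 800 phiOK = true := by decide +kernel

theorem phi4_9 : allRange 83936 800 phiOK = true := by decide +kernel

theorem phi4_10 : allRange 84736 800 phiOK = true := by decide +kernel

theorem phi4_11 : allRange 85536 800 phiOK = true := by decide +kernel

theorem phi4_12 : allRange 86336 800 phiOK = true := by decide +kernel

theorem phi4_13 : allRange 87136 800 phiOK = true := by decide +kernel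

theorem phi4_14 : allRange 87936 800 phiOK = true := by decide +kernel

theorem phi4_15 : allRange 88736 800 phiOK = true := by decide +kernel

theorem phi4_16 : allRange 89536 800 phiOK = true := by decide +kernel

theorem phi4_17 : allRange 90336 800 phiOK = true := by decide +kernel

theorem phi4_18 : allRange 91136 800 phiOK = true := by decide +kernel

theorem phi4_19 : allRange 91936 800 phiOK = true := by decide +kernel

theorem phi4_20 : allRange 92736 800 phiOK = true := by decide +kernel

theorem phi4_21 : allRange 93536 800 phiOK = true := by decide +kernel

theorem phi4_22 : allRange 94336 800 phiOK = true := by decide +kernel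

theorem phi4_23 : allRange 95136 784 phiOK = true := by decide +kernel

section

attribute [local irreducible] H93.Coset.allRange phiOK

theorem phiPart4 : allRange 76736 19184 phiOK = true :=
  (allRange_glue (allRange_glue (allRange_glue (allRange_glue (allRange_glue (allRange_glue (allRange_glue (allRange_glue (allRange_glue (allRange_glue (allRange_glue (allRange_glue (allRange_glue (allRange_glue (allRange_glue (allRange_glue (allRange_glue (allRange_glue (allRange_glue (allRange_glue (allRange_glue (allRange_glue (allRange_glue phi4_0 phi4_1) phi4_2) phi4_3) phi4_4) phi4_5) phi4_6) phi4_7) phi4_8) phi4_9) phi4_10) phi4_11) phi4_12) phi4_13) phi4_14) phi4_15) phi4_16) phi4_17) phi4_18) phi4_19) phi4_20) phi4_21) phi4_22) phi4_23)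

end

end H49.Order3.Fi24
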