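/-
Generated: checks of the labels.
-/
import Cfsg.Agent.H49.Order3.Fi24.LeafSetup

set_option autoImplicit false
set_option maxRecDepth 100000
set_option linter.all false
set_option Elab.async false

namespace H49.Order3.Fi24

open H93.Coset (allRange allRange_glue)

theorem phi5_0 : allRange 95920 800 phiOK = true := by decide +kernel

theorem phi5_1 : allRange 96720 800 phiOK = true := by decide +kernel

theorem phi5_2 : allRange 97520 800 phiOK = true := by decide +kernel

theorem phi5_3 : allRange 98320 800 phiOK = true := by decide +kernel

theorem phi5_4 : allRange 99120 800 phiOK = true := by decide +kernel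

theorem phi5_5 : allRange 99920 800 phiOK = true := by decide +kernel

theorem phi5_6 : allRange 100720 800 phiOK = true := by decide +kernel

theorem phi5_7 : allRange 101520 800 phiOK = true := by decide +kernel

theorem phi5_8 : allRange 102320 800 phiOK = true := by decide +kernel

theorem phi5_9 : allRange 103120 800 phiOK = true := by decide +kernel

theorem phi5_10 : allRange 103920 800 phiOK = true := by decide +kernel

theorem phi5_11 : allRange 104720 800 phiOK = true := by decide +kernel

theorem phi5_12 : allRange 105520 800 phiOK = true := by decide +kernel

theorem phi5_13 : allRange 106320 800 phiOK = true := by decide +kernel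

theorem phi5_14 : allRange 107120 800 phiOK = true := by decide +kernel

theorem phi5_15 : allRange 107920 800 phiOK = true := by decide +kernel

theorem phi5_16 : allRange 108720 800 phiOK = true := by decide +kernel

theorem phi5_17 : allRange 109520 800 phiOK = true := by decide +kernel

theorem phi5_18 : allRange 110320 800 phiOK = true := by decide +kernel

theorem phi5_19 : allRange 111120 800 phiOK = true := by decide +kernel

theorem phi5_20 : allRange 111920 800 phiOK = true := by decide +kernel

theorem phi5_21 : allRange 112720 800 phiOK = true := by decide +kernel

theorem phi5_22 : allRange 113520 800 phiOK = true := by decide +kernel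

theorem phi5_23 : allRange 114320 784 phiOK = true := by decide +kernel

section

attribute [local irreducible] H93.Coset.allRange phiOK

theorem phiPart5 : allRange 95920 19184 phiOK = true :=
  (allRange_glue (allRange_glue (allRange_glue (allRange_glue (allRange_glue (allRange_glue (allRange_glue (allRange_glue (allRange_glue (allRange_glue (allRange_glue (allRange_glue (allRange_glue (allRange_glue (allRange_glue (allRange_glue (allRange_glue (allRange_glue (allRange_glue (allRange_glue (allRange_glue (allRange_glue (allRange_glue phi5_0 phi5_1) phi5_2) phi5_3) phi5_4) phi5_5) phi5_6) phi5_7) phi5_8) phi5_9) phi5_10) phi5_11) phi5_12) phi5_13) phi5_14) phi5_15) phi5_16) phi5_17) phi5_18) phi5_19) phi5_20) phi5_21) phi5_22) phi5_23)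

end

end H49.Order3.Fi24
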