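/-
Generated: checks of the labels.
-/
import Cfsg.Agent.H49.Order3.Fi24.LeafSetup

set_option autoImplicit false
set_option maxRecDepth 100000
set_option linter.all false
set_option Elab.async false

namespace H49.Order3.Fi24

open H93.Coset (allRange allRange_glue)

theorem phi6_0 : allRange 115104 800 phiOK = true := by decide +kernel

theorem phi6_1 : allRange 115904 800 phiOK = true := by decide +kernel

theorem phi6_2 : allRange 116704 800 phiOK = true := by decide +kernel

theorem phi6_3 : allRange 117504 800 phiOK = true := by decide +kernel

theorem phi6_4 : allRange 118304 800 phiOK = true := by decide +kernel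

theorem phi6_5 : allRange 119104 800 phiOK = true := by decide +kernel

theorem phi6_6 : allRange 119904 800 phiOK = true := by decide +kernel

theorem phi6_7 : allRange 120704 800 phiOK = true := by decide +kernel

theorem phi6_8 : allRange 121504 800 phiOK = true := by decide +kernel

theorem phi6_9 : allRange 122304 800 phiOK = true := by decide +kernel

theorem phi6_10 : allRange 123104 800 phiOK = true := by decide +kernel

theorem phi6_11 : allRange 123904 800 phiOK = true := by decide +kernel

theorem phi6_12 : allRange 124704 800 phiOK = true := by decide +kernel

theorem phi6_13 : allRange 125504 800 phiOK = true := by decide +kernel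

theorem phi6_14 : allRange 126304 800 phiOK = true := by decide +kernel

theorem phi6_15 : allRange 127104 800 phiOK = true := by decide +kernel

theorem phi6_16 : allRange 127904 800 phiOK = true := by decide +kernel

theorem phi6_17 : allRange 128704 800 phiOK = true := by decide +kernel

theorem phi6_18 : allRange 129504 800 phiOK = true := by decide +kernel

theorem phi6_19 : allRange 130304 800 phiOK = true := by decide +kernel

theorem phi6_20 : allRange 131104 800 phiOK = true := by decide +kernel

theorem phi6_21 : allRange 131904 800 phiOK = true := by decide +kernel

theorem phi6_22 : allRange 132704 800 phiOK = true := by decide +kernel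

theorem phi6_23 : allRange 133504 784 phiOK = true := by decide +kernel

section

attribute [local irreducible] H93.Coset.allRange phiOK

theorem phiPart6 : allRange 115104 19184 phiOK = true :=
  (allRange_glue (allRange_glue (allRange_glue (allRange_glue (allRange_glue (allRange_glue (allRange_glue (allRange_glue (allRange_glue (allRange_glue (allRange_glue (allRange_glue (allRange_glue (allRange_glue (allRange_glue (allRange_glue (allRange_glue (allRange_glue (allRange_glue (allRange_glue (allRange_glue (allRange_glue (allRange_glue phi6_0 phi6_1) phi6_2) phi6_3) phi6_4) phi6_5) phi6_6) phi6_7) phi6_8) phi6_9) phi6_10) phi6_11) phi6_12) phi6_13) phi6_14) phi6_15) phi6_16) phi6_17) phi6_18) phi6_19) phi6_20) phi6_21) phi6_22) phi6_23)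

end

end H49.Order3.Fi24
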