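/-
Generated: checks of the labels.
-/
import Cfsg.Agent.H49.Order3.Fi24.LeafSetup

set_option autoImplicit false
set_option maxRecDepth 100000
set_option linter.all false
set_option Elab.async false

namespace H49.Order3.Fi24

open H93.Coset (allRange allRange_glue)

theorem phi7_0 : allRange 134288 800 phiOK = true := by decide +kernel

theorem phi7_1 : allRange 135088 800 phiOK = true := by decide +kernel

theorem phi7_2 : allRange 135888 800 phiOK = true := by decide +kernel

theorem phi7_3 : allRange 136688 800 phiOK = true := by decide +kernel

theorem phi7_4 : allRange 137488 800 phiOK = true := by decide +kernel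

theorem phi7_5 : allRange 138288 800 phiOK = true := by decide +kernel

theorem phi7_6 : allRange 139088 800 phiOK = true := by decide +kernel

theorem phi7_7 : allRange 139888 800 phiOK = true := by decide +kernel

theorem phi7_8 : allRange 140688 800 phiOK = true := by decide +kernel

theorem phi7_9 : allRange 141488 800 phiOK = true := by decide +kernel

theorem phi7_10 : allRange 142288 800 phiOK = true := by decide +kernel

theorem phi7_11 : allRange 143088 800 phiOK = true := by decide +kernel

theorem phi7_12 : allRange 143888 800 phiOK = true := by decide +kernel

theorem phi7_13 : allRange 144688 800 phiOK = true := by decide +kernel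

theorem phi7_14 : allRange 145488 800 phiOK = true := by decide +kernel

theorem phi7_15 : allRange 146288 800 phiOK = true := by decide +kernel

theorem phi7_16 : allRange 147088 800 phiOK = true := by decide +kernel

theorem phi7_17 : allRange 147888 800 phiOK = true := by decide +kernel

theorem phi7_18 : allRange 148688 800 phiOK = true := by decide +kernel

theorem phi7_19 : allRange 149488 800 phiOK = true := by decide +kernel

theorem phi7_20 : allRange 150288 800 phiOK = true := by decide +kernel

theorem phi7_21 : allRange 151088 800 phiOK = true := by decide +kernel

theorem phi7_22 : allRange 151888 800 phiOK = true := by decide +kernel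

theorem phi7_23 : allRange 152688 784 phiOK = true := by decide +kernel

section

attribute [local irreducible] H93.Coset.allRange phiOK

theorem phiPart7 : allRange 134288 19184 phiOK = true :=
  (allRange_glue (allRange_glue (allRange_glue (allRange_glue (allRange_glue (allRange_glue (allRange_glue (allRange_glue (allRange_glue (allRange_glue (allRange_glue (allRange_glue (allRange_glue (allRange_glue (allRange_glue (allRange_glue (allRange_glue (allRange_glue (allRange_glue (allRange_glue (allRange_glue (allRange_glue (allRange_glue phi7_0 phi7_1) phi7_2) phi7_3) phi7_4) phi7_5) phi7_6) phi7_7) phi7_8) phi7_9) phi7_10) phi7_11) phi7_12) phi7_13) phi7_14) phi7_15) phi7_16) phi7_17) phi7_18) phi7_19) phi7_20) phi7_21) phi7_22) phi7_23)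

end

end H49.Order3.Fi24
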