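/-
Generated: checks of the labels.
-/
import Cfsg.Agent.H49.Order3.Fi24.LeafSetup

set_option autoImplicit false
set_option maxRecDepth 100000
set_option linter.all false
set_option Elab.async false

namespace H49.Order3.Fi24

open H93.Coset (allRange allRange_glue)

theorem phi8_0 : allRange 153472 800 phiOK = true := by decide +kernel

theorem phi8_1 : allRange 154272 800 phiOK = true := by decide +kernel

theorem phi8_2 : allRange 155072 800 phiOK = true := by decide +kernel

theorem phi8_3 : allRange 155872 800 phiOK = true := by decide +kernel

theorem phi8_4 : allRange 156672 800 phiOK = true := by decide +kernel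

theorem phi8_5 : allRange 157472 800 phiOK = true := by decide +kernel

theorem phi8_6 : allRange 158272 800 phiOK = true := by decide +kernel

theorem phi8_7 : allRange 159072 800 phiOK = true := by decide +kernel

theorem phi8_8 : allRange 159872 800 phiOK = true := by decide +kernel

theorem phi8_9 : allRange 160672 800 phiOK = true := by decide +kernel

theorem phi8_10 : allRange 161472 800 phiOK = true := by decide +kernel

theorem phi8_11 : allRange 162272 800 phiOK = true := by decide +kernel

theorem phi8_12 : allRange 163072 800 phiOK = true := by decide +kernel

theorem phi8_13 : allRange 163872 800 phiOK = true := by decide +kernel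

theorem phi8_14 : allRange 164672 800 phiOK = true := by decide +kernel

theorem phi8_15 : allRange 165472 800 phiOK = true := by decide +kernel

theorem phi8_16 : allRange 166272 800 phiOK = true := by decide +kernel

theorem phi8_17 : allRange 167072 800 phiOK = true := by decide +kernel

theorem phi8_18 : allRange 167872 800 phiOK = true := by decide +kernel

theorem phi8_19 : allRange 168672 800 phiOK = true := by decide +kernel

theorem phi8_20 : allRange 169472 800 phiOK = true := by decide +kernel

theorem phi8_21 : allRange 170272 800 phiOK = true := by decide +kernel

theorem phi8_22 : allRange 171072 800 phiOK = true := by decide +kernel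

theorem phi8_23 : allRange 171872 784 phiOK = true := by decide +kernel

section

attribute [local irreducible] H93.Coset.allRange phiOK

theorem phiPart8 : allRange 153472 19184 phiOK = true :=
  (allRange_glue (allRange_glue (allRange_glue (allRange_glue (allRange_glue (allRange_glue (allRange_glue (allRange_glue (allRange_glue (allRange_glue (allRange_glue (allRange_glue (allRange_glue (allRange_glue (allRange_glue (allRange_glue (allRange_glue (allRange_glue (allRange_glue (allRange_glue (allRange_glue (allRange_glue (allRange_glue phi8_0 phi8_1) phi8_2) phi8_3) phi8_4) phi8_5) phi8_6) phi8_7) phi8_8) phi8_9) phi8_10) phi8_11) phi8_12) phi8_13) phi8_14) phi8_15) phi8_16) phi8_17) phi8_18) phi8_19) phi8_20) phi8_21) phi8_22) phi8_23)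

end

end H49.Order3.Fi24
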