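/-
Generated: checks of the labels.
-/
import Cfsg.Agent.H49.Order3.Fi24.LeafSetup

set_option autoImplicit false
set_option maxRecDepth 100000
set_option linter.all false
set_option Elab.async false

namespace H49.Order3.Fi24

open H93.Coset (allRange allRange_glue)

theorem phi9_0 : allRange 172656 800 phiOK = true := by decide +kernel

theorem phi9_1 : allRange 173456 800 phiOK = true := by decide +kernel

theorem phi9_2 : allRange 174256 800 phiOK = true := by decide +kernel

theorem phi9_3 : allRange 175056 800 phiOK = true := by decide +kernel

theorem phi9_4 : allRange 175856 800 phiOK = true := by decide +kernel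

theorem phi9_5 : allRange 176656 800 phiOK = true := by decide +kernel

theorem phi9_6 : allRange 177456 800 phiOK = true := by decide +kernel

theorem phi9_7 : allRange 178256 800 phiOK = true := by decide +kernel

theorem phi9_8 : allRange 179056 800 phiOK = true := by decide +kernel

theorem phi9_9 : allRange 179856 800 phiOK = true := by decide +kernel

theorem phi9_10 : allRange 180656 800 phiOK = true := by decide +kernel

theorem phi9_11 : allRange 181456 800 phiOK = true := by decide +kernel

theorem phi9_12 : allRange 182256 800 phiOK = true := by decide +kernel

theorem phi9_13 : allRange 183056 800 phiOK = true := by decide +kernel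

theorem phi9_14 : allRange 183856 800 phiOK = true := by decide +kernel

theorem phi9_15 : allRange 184656 800 phiOK = true := by decide +kernel

theorem phi9_16 : allRange 185456 800 phiOK = true := by decide +kernel

theorem phi9_17 : allRange 186256 800 phiOK = true := by decide +kernel

theorem phi9_18 : allRange 187056 800 phiOK = true := by decide +kernel

theorem phi9_19 : allRange 187856 800 phiOK = true := by decide +kernel

theorem phi9_20 : allRange 188656 800 phiOK = true := by decide +kernel

theorem phi9_21 : allRange 189456 800 phiOK = true := by decide +kernel

theorem phi9_22 : allRange 190256 800 phiOK = true := by decide +kernel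

theorem phi9_23 : allRange 191056 784 phiOK = true := by decide +kernel

section

attribute [local irreducible] H93.Coset.allRange phiOK

theorem phiPart9 : allRange 172656 19184 phiOK = true :=
  (allRange_glue (allRange_glue (allRange_glue (allRange_glue (allRange_glue (allRange_glue (allRange_glue (allRange_glue (allRange_glue (allRange_glue (allRange_glue (allRange_glue (allRange_glue (allRange_glue (allRange_glue (allRange_glue (allRange_glue (allRange_glue (allRange_glue (allRange_glue (allRange_glue (allRange_glue (allRange_glue phi9_0 phi9_1) phi9_2) phi9_3) phi9_4) phi9_5) phi9_6) phi9_7) phi9_8) phi9_9) phi9_10) phi9_11) phi9_12) phi9_13) phi9_14) phi9_15) phi9_16) phi9_17) phi9_18) phi9_19) phi9_20) phi9_21) phi9_22) phi9_23)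

end

end H49.Order3.Fi24
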