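/-
Generated: the assembled check of the labels.
-/
import Cfsg.Agent.H49.Order3.Fi24.Check.Phi0
import Cfsg.Agent.H49.Order3.Fi24.Check.Phi1
import Cfsg.Agent.H49.Order3.Fi24.Check.Phi2
import Cfsg.Agent.H49.Order3.Fi24.Check.Phi3
import Cfsg.Agent.H49.Order3.Fi24.Check.Phi4
import Cfsg.Agent.H49.Order3.Fi24.Check.Phi5
import Cfsg.Agent.H49.Order3.Fi24.Check.Phi6
import Cfsg.Agent.H49.Order3.Fi24.Check.Phi7
import Cfsg.Agent.H49.Order3.Fi24.Check.Phi8
import Cfsg.Agent.H49.Order3.Fi24.Check.Phi9
import Cfsg.Agent.H49.Order3.Fi24.Check.Phi10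
import Cfsg.Agent.H49.Order3.Fi24.Check.Phi11
import Cfsg.Agent.H49.Order3.Fi24.Check.Phi12
import Cfsg.Agent.H49.Order3.Fi24.Check.Phi13
import Cfsg.Agent.H49.Order3.Fi24.Check.Phi14
import Cfsg.Agent.H49.Order3.Fi24.Check.Phi15

set_option autoImplicit false
set_option maxRecDepth 100000
set_option linter.all false

namespace H49.Order3.Fi24

open H93.Coset (allRange allRange_glue)

attribute [local irreducible] H93.Coset.allRange phiOK

theorem phi_all : allRange 0 306936 phiOK = true :=
  (allRange_glue (allRange_glue (allRange_glue (allRange_glue (allRange_glue (allRange_glue (allRange_glue (allRange_glue (allRange_glue (allRange_glue (allRange_glue (allRange_glue (allRange_glue (allRange_glue (allRange_glue phiPart0 phiPart1) phiPart2) phiPart3) phiPart4) phiPart5) phiPart6) phiPart7) phiPart8) phiPart9) phiPart10) phiPart11) phiPart12) phiPart13) phiPart14) phiPart15)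

end H49.Order3.Fi24
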