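/-
Generated: checks of the labels.
-/
import Cfsg.Agent.H49.Order3.Fi24.LeafSetup

set_option autoImplicit false
set_option maxRecDepth 100000
set_option linter.all false
set_option Elab.async false

namespace H49.Order3.Fi24

open H93.Coset (allRange allRange_glue)

theorem phi10_0 : allRange 191840 800 phiOK = true := by decide +kernel

theorem phi10_1 : allRange 192640 800 phiOK = true := by decide +kernel

theorem phi10_2 : allRange 193440 800 phiOK = true := by decide +kernel

theorem phi10_3 : allRange 194240 800 phiOK = true := by decide +kernel

theorem phi10_4 : allRange 195040 800 phiOK = true := by decide +kernel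

theorem phi10_5 : allRange 195840 800 phiOK = true := by decide +kernel

theorem phi10_6 : allRange 196640 800 phiOK = true := by decide +kernel

theorem phi10_7 : allRange 197440 800 phiOK = true := by decide +kernel

theorem phi10_8 : allRange 198240 800 phiOK = true := by decide +kernel

theorem phi10_9 : allRange 199040 800 phiOK = true := by decide +kernel

theorem phi10_10 : allRange 199840 800 phiOK = true := by decide +kernel

theorem phi10_11 : allRange 200640 800 phiOK = true := by decide +kernel

theorem phi10_12 : allRange 201440 800 phiOK = true := by decide +kernel

theorem phi10_13 : allRange 202240 800 phiOK = true := by decide +kernel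

theorem phi10_14 : allRange 203040 800 phiOK = true := by decide +kernel

theorem phi10_15 : allRange 203840 800 phiOK = true := by decide +kernel

theorem phi10_16 : allRange 204640 800 phiOK = true := by decide +kernel

theorem phi10_17 : allRange 205440 800 phiOK = true := by decide +kernel

theorem phi10_18 : allRange 206240 800 phiOK = true := by decide +kernel

theorem phi10_19 : allRange 207040 800 phiOK = true := by decide +kernel

theorem phi10_20 : allRange 207840 800 phiOK = true := by decide +kernel

theorem phi10_21 : allRange 208640 800 phiOK = true := by decide +kernel

theorem phi10_22 : allRange 209440 800 phiOK = true := by decide +kernel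

theorem phi10_23 : allRange 210240 784 phiOK = true := by decide +kernel

section

attribute [local irreducible] H93.Coset.allRange phiOK

theorem phiPart10 : allRange 191840 19184 phiOK = true :=
  (allRange_glue (allRange_glue (allRange_glue (allRange_glue (allRange_glue (allRange_glue (allRange_glue (allRange_glue (allRange_glue (allRange_glue (allRange_glue (allRange_glue (allRange_glue (allRange_glue (allRange_glue (allRange_glue (allRange_glue (allRange_glue (allRange_glue (allRange_glue (allRange_glue (allRange_glue (allRange_glue phi10_0 phi10_1) phi10_2) phi10_3) phi10_4) phi10_5) phi10_6) phi10_7) phi10_8) phi10_9) phi10_10) phi10_11) phi10_12) phi10_13) phi10_14) phi10_15) phi10_16) phi10_17) phi10_18) phi10_19) phi10_20) phi10_21) phi10_22) phi10_23)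

end

end H49.Order3.Fi24
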