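/-
Generated data: part of the certificate tree, with its check.
-/
import Cfsg.Agent.H49.Order3.Fi24.CertDef
import Cfsg.Agent.H49.Order3.Fi24.Data.Leaves

set_option autoImplicit false
set_option maxRecDepth 100000
set_option linter.all false
set_option Elab.async false

namespace H49.Order3.Fi24

def cert0 : Cert := (.split (.split (.split (.split (.split (.split (.split (.split (.split (.leaf 0) (.leaf 0) (.leaf 1)) (.fuse [1] 2 [] (.leaf 2)) (.fuse [1] 1 [] (.leaf 3))) (.fuse [0] 1 [] (.fuse [0,1,3,3,6,7,10,11,11,13,15] 1 [] (.leaf 4))) (.fuse [0] 2 [] (.fuse [0,1,3,3,6,7,10,11,11,13,15] 2 [] (.leaf 5)))) (.fuse [2] 2 [14,15] (.fuse [3,4,4,5,6,8,9,9,11,11,12,12,13,14,15] 1 [15,15] (.fuse [5,6,6,9,9,12,12,14] 2 [] (.leaf 6)))) (.fuse [2] 1 [14,14,15,15] (.fuse [3,4,4,5,6,8,9,9,11,11,12,12,13,14,15]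 2 [15] (.fuse [5,6,6,9,9,12,12,14] 1 [] (.leaf 7))))) (.fuse [2] 1 [13,14,15,15] (.split (.fuse [0] 1 [] (.fuse [0,1,3,3,6,7,10,11,11,13,15] 1 [] (.leaf 8))) (.fuse [0] 2 [] (.fuse [0,1,3,3,6,7,10,11,11,13,15] 2 [] (.leaf 9))) (.fuse [4,5,5,6,7,7,9,10,10,11,12,12,13,14,14,15] 2 [15] (.fuse [4,7,7,8,10,10,12,14,15,15] 1 [] (.leaf 10))))) (.fuse [2] 2 [13,13,14,14,15] (.split (.fuse [0] 2 [] (.fuse [0,1,3,3,6,7,10,11,11,13,15] 2 [] (.leaf 11))) (.fuse [4,5,5,6,7,7,9,10,10,11,12,12,13,14,14,15] 1 [15,15] (.fuse [4,7,7,8,10,10,12,14,15,15] 2 [] (.leaf 12))) (.fuse [0] 1 [] (.fuse [0,1,3,3,6,7,10,11,11,13,15] 1 [] (.leaf 13)))))) (.fuse [0] 2 [15] (.fuse [2] 1 [13,13,15,15] (.fuse [2,4,4,5,6,6,8,8,9,9,11,11,12,13,13,14,14,15] 1 [14,15,15] (.split (.fuse [0,1,3,3,6,7,10,11,11,13,15]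 1 [] (.leaf 14)) (.fuse [2,4,4,5,5,7,9,10,12,13,14,14,15,15] 2 [] (.leaf 15)) (.fuse [0,1,3,3,6,7,10,11,11,13,15] 2 [] (.leaf 16)))))) (.fuse [0] 1 [15,15] (.fuse [2] 2 [13,15] (.fuse [2,4,4,5,6,6,8,8,9,9,11,11,12,13,13,14,14,15] 2 [14,14,15] (.split (.fuse [0,1,3,3,6,7,10,11,11,13,15] 2 [] (.leaf 17)) (.fuse [0,1,3,3,6,7,10,11,11,13,15] 1 [] (.leaf 18)) (.fuse [2,4,4,5,5,7,9,10,12,13,14,14,15,15] 1 [] (.leaf 19))))))) (.fuse [1] 1 [11] (.fuse [1,2,2,5,5,7,7,9,10,10,12,13,15,15] 1 [12,13,15,15] (.fuse [1,2,2,3,3,6,7,8,8,10,11,11,12] 1 [13,13,14,14,15,15] (.fuse [7,10,11,11,12,13,13,15] 1 [14,14,15,15] (.fuse [1,2,2,3,3,6,6,7,7,8,8,10,10,11,11,12,12,15,15] 1 [] (.split (.leaf 20) (.leaf 21) (.leaf 22))))))) (.fuse [1] 2 [11,11] (.fuse [1,2,2,5,5,7,7,9,10,10,12,13,15,15] 2 [12,12,13,13,15]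 (.fuse [1,2,2,3,3,6,7,8,8,10,11,11,12] 2 [13,14,15] (.fuse [7,10,11,11,12,13,13,15] 2 [14,15] (.fuse [1,2,2,3,3,6,6,7,7,8,8,10,10,11,11,12,12,15,15] 2 [] (.split (.leaf 23) (.leaf 24) (.leaf 25)))))))) (.split (.split (.split (.fuse [2] 2 [13,13,14,14,15] (.split (.fuse [4,5,5,6,7,7,9,10,10,11,12,12,13,14,14,15] 1 [15,15] (.fuse [4,7,7,8,10,10,12,14,15,15] 2 [] (.leaf 26))) (.fuse [0] 1 [] (.fuse [0,1,3,3,6,7,10,11,11,13,15] 1 [] (.leaf 27))) (.fuse [0] 2 [] (.fuse [0,1,3,3,6,7,10,11,11,13,15] 2 [] (.leaf 28))))) (.split (.split (.fuse [0] 1 [] (.fuse [0,1,3,3,6,7,10,11,11,13,15] 1 [] (.leaf 29))) (.fuse [0] 2 [] (.fuse [0,1,3,3,6,7,10,11,11,13,15] 2 [] (.leaf 30))) (.fuse [9,11,11,13,14,15] 1 [] (.fuse [2] 2 [] (.leaf 31)))) (.fuse [2] 2 [14,15] (.fuse [0] 1 [] (.fuse [0,1,3,3,6,7,10,11,11,13,15]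 1 [] (.leaf 32)))) (.fuse [2] 1 [14,14,15,15] (.fuse [0] 1 [] (.fuse [0,1,3,3,6,7,10,11,11,13,15] 1 [] (.leaf 33))))) (.fuse [2] 1 [13,14,15,15] (.split (.fuse [0] 2 [] (.fuse [0,1,3,3,6,7,10,11,11,13,15] 2 [] (.leaf 34))) (.fuse [4,5,5,6,7,7,9,10,10,11,12,12,13,14,14,15] 2 [15] (.fuse [4,7,7,8,10,10,12,14,15,15] 1 [] (.leaf 35))) (.fuse [0] 1 [] (.fuse [0,1,3,3,6,7,10,11,11,13,15] 1 [] (.leaf 36)))))) (.fuse [0] 2 [15] (.fuse [4,5,5,6,7,9,10,11,14,14] 1 [13] (.fuse [2] 1 [14,14] (.fuse [9,11,11,13,14,15] 1 [] (.fuse [0,1,3,3,6,7,10,11,11,13,15] 1 [] (.leaf 37)))))) (.fuse [0] 1 [15,15] (.fuse [2] 1 [14,14,15,15] (.fuse [5,6,7,9,9,10,11,11,14,14,15,15] 1 [15] (.fuse [9,11,11,13,14,15] 1 [] (.fuse [0,1,3,3,6,7,10,11,11,13,15] 2 [] (.leaf 38))))))) (.fuse [1] 1 [11] (.fuse [1,2,2,5,5,7,7,9,10,10,12,13,15,15]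 1 [12,12,14,15,15] (.fuse [1,2,2,3,3,6,7,8,8,10,11,11,12] 2 [13,14,14,15,15] (.fuse [1,2,2,3,3,5,7,7,8,9,9,10,10,11,12,12,13,14,15,15] 2 [14,15] (.fuse [1,2,2,3,3,5,9,9,11,12,12,13,13,14,15] 1 [15] (.fuse [1,2,2,3,3,4,4,5,8,9,9,11,13,14,14,15] 1 [] (.leaf 39))))))) (.fuse [1] 2 [11,11] (.fuse [1,2,2,5,5,7,7,9,10,10,12,13,15,15] 2 [13,14,15] (.fuse [6,7,7,8,10,10,11,12,14,15] 1 [13] (.fuse [7,8,10,11,14,15] 2 [14,14,15,15] (.fuse [1,2,2,3,3,6,7,8,8,10,11,11,12] 1 [15] (.fuse [1,2,2,3,3,5,6,7,8,8,9,9,10,11,11,12,15] 1 [] (.leaf 40)))))))) (.split (.split (.split (.fuse [2] 1 [13,14,15,15] (.split (.fuse [4,5,5,6,7,7,9,10,10,11,12,12,13,14,14,15] 2 [15] (.fuse [4,7,7,8,10,10,12,14,15,15] 1 [] (.leaf 41))) (.fuse [0] 1 [] (.fuse [0,1,3,3,6,7,10,11,11,13,15] 1 [] (.leaf 42))) (.fuse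 [0] 2 [] (.fuse [0,1,3,3,6,7,10,11,11,13,15] 2 [] (.leaf 43))))) (.fuse [2] 2 [13,13,14,14,15] (.split (.fuse [0] 1 [] (.fuse [0,1,3,3,6,7,10,11,11,13,15] 1 [] (.leaf 44))) (.fuse [0] 2 [] (.fuse [0,1,3,3,6,7,10,11,11,13,15] 2 [] (.leaf 45))) (.fuse [4,5,5,6,7,7,9,10,10,11,12,12,13,14,14,15] 1 [15,15] (.fuse [4,7,7,8,10,10,12,14,15,15] 2 [] (.leaf 46))))) (.split (.split (.fuse [0] 2 [] (.fuse [0,1,3,3,6,7,10,11,11,13,15] 2 [] (.leaf 47))) (.fuse [9,11,11,13,14,15] 2 [] (.fuse [2] 1 [] (.leaf 48))) (.fuse [0] 1 [] (.fuse [0,1,3,3,6,7,10,11,11,13,15] 1 [] (.leaf 49)))) (.fuse [2] 2 [14,15] (.fuse [0] 2 [] (.fuse [0,1,3,3,6,7,10,11,11,13,15] 2 [] (.leaf 50)))) (.fuse [2] 1 [14,14,15,15] (.fuse [0] 2 [] (.fuse [0,1,3,3,6,7,10,11,11,13,15] 2 [] (.leaf 51)))))) (.fuse [0] 2 [15] (.fuse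 [2] 2 [14,15] (.fuse [5,6,7,9,9,10,11,11,14,14,15,15] 2 [15,15] (.fuse [9,11,11,13,14,15] 2 [] (.fuse [0,1,3,3,6,7,10,11,11,13,15] 1 [] (.leaf 52)))))) (.fuse [0] 1 [15,15] (.fuse [4,5,5,6,7,9,10,11,14,14] 2 [13,13] (.fuse [2] 2 [14] (.fuse [9,11,11,13,14,15] 2 [] (.fuse [0,1,3,3,6,7,10,11,11,13,15] 2 [] (.leaf 53))))))) (.fuse [1] 1 [11] (.fuse [1,2,2,5,5,7,7,9,10,10,12,13,15,15] 1 [13,13,14,14,15,15] (.fuse [6,7,7,8,10,10,11,12,14,15] 2 [13,13] (.fuse [7,8,10,11,14,15] 1 [14,15] (.fuse [1,2,2,3,3,6,7,8,8,10,11,11,12] 2 [15,15] (.fuse [1,2,2,3,3,5,6,7,8,8,9,9,10,11,11,12,15] 2 [] (.leaf 54))))))) (.fuse [1] 2 [11,11] (.fuse [1,2,2,5,5,7,7,9,10,10,12,13,15,15] 2 [12,14,14,15] (.fuse [1,2,2,3,3,6,7,8,8,10,11,11,12] 1 [13,13,14,15] (.fuse [1,2,2,3,3,5,7,7,8,9,9,10,10,11,12,12,13,14,15,15]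 1 [14,14,15,15] (.fuse [1,2,2,3,3,5,9,9,11,12,12,13,13,14,15] 2 [15,15] (.fuse [1,2,2,3,3,4,4,5,8,9,9,11,13,14,14,15] 2 [] (.leaf 55))))))))) (.fuse [0] 2 [11,11,14,15,15] (.split (.split (.split (.split (.fuse [9,11,11,13,14,15] 2 [14] (.split (.fuse [0,1,3,3,6,7,10,11,11,13,15] 1 [] (.leaf 56)) (.fuse [2] 2 [] (.leaf 57)) (.fuse [0,1,3,3,6,7,10,11,11,13,15] 2 [] (.leaf 58)))) (.fuse [2] 2 [14,15] (.fuse [4,5,5,6,7,9,10,11,14,14] 2 [] (.fuse [0,1,3,3,6,7,10,11,11,13,15] 1 [] (.leaf 59)))) (.fuse [2] 1 [14,14,15,15] (.fuse [4,5,5,6,7,9,10,11,14,14] 1 [15] (.fuse [0,1,3,3,6,7,10,11,11,13,15] 1 [] (.leaf 60))))) (.fuse [2] 1 [13,14,15,15] (.fuse [9,11,11,13,14,15] 2 [14] (.fuse [4,5,5,6,7,9,10,11,14,14] 2 [15] (.fuse [0,1,3,3,6,7,10,11,11,13,15] 2 [] (.leaf 61))))) (.fuse [2] 2 [13,13,14,14,15]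 (.fuse [9,11,11,13,14,15] 2 [14] (.fuse [4,5,5,6,7,9,10,11,14,14] 1 [] (.fuse [3,6,6,7,7,8,8,10,10,11,13,13] 1 [] (.leaf 62)))))) (.split (.fuse [2] 1 [13,13,15,15] (.fuse [2,4,4,5,6,6,8,8,9,9,11,11,12,13,13,14,14,15] 1 [14] (.fuse [5,6,7,8,9,11,11,12,12,15,15] 1 [] (.fuse [0,1,3,3,6,7,10,11,11,13,15] 2 [] (.leaf 63))))) (.fuse [2] 2 [14,15] (.fuse [5,6,7,9,9,10,11,11,14,14,15,15] 2 [15,15] (.fuse [5,6,7,9,10,13,13,14,15,15] 2 [15,15] (.fuse [2,4,6,6,7,7,10,10,12,15,15] 2 [] (.leaf 64))))) (.fuse [4,5,5,6,7,9,10,11,14,14] 1 [13,15,15] (.fuse [2] 1 [14,14] (.split (.fuse [0,1,3,3,6,7,10,11,11,13,15] 1 [] (.leaf 65)) (.fuse [2,5,6,7,8,9,9,10,11,12,13,14,14,15] 1 [] (.leaf 66)) (.fuse [0,1,3,3,6,7,10,11,11,13,15] 2 [] (.leaf 67)))))) (.split (.fuse [2] 2 [13,15] (.fuse [2,4,4,5,6,6,8,8,9,9,11,11,12,13,13,14,14,15]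 2 [14,14,15,15] (.fuse [5,6,7,7,8,8,10,11,12,14,15,15] 2 [15] (.fuse [2,4,4,5,5,7,9,10,12,13,14,14,15,15] 1 [] (.leaf 68))))) (.fuse [4,5,5,6,7,9,10,11,14,14] 2 [13,13,15,15] (.fuse [2] 2 [14] (.split (.fuse [0,1,3,3,6,7,10,11,11,13,15] 1 [] (.leaf 69)) (.fuse [3,6,6,7,7,8,8,10,10,11,13,13] 1 [] (.leaf 70)) (.fuse [0,1,3,3,6,7,10,11,11,13,15] 2 [] (.leaf 71))))) (.fuse [2] 1 [14,14,15,15] (.fuse [5,6,7,9,9,10,11,11,14,14,15,15] 1 [15] (.fuse [5,6,7,10,11,12,12,13,13,14,15] 1 [15] (.fuse [0,1,3,3,6,7,10,11,11,13,15] 2 [] (.leaf 72))))))) (.fuse [0,1,3,3,6,7,10,11,11,13,15] 1 [14,15,15] (.fuse [3,6,6,7,7,8,8,10,10,11,13,13] 1 [] (.fuse [0,1,2,2,3,3,7,8,10,11,14,14,15] 2 [13,13] (.fuse [0,1,2,2,3,3,4,4,5,6,6,9,9,11,14,14,15] 1 [14,15] (.fuse [0,1,2,2,3,3,4,4,6,6,7,7,8,10,10,11,13,14]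 1 [15,15] (.fuse [0,1,2,2,3,3,5,5,6,6,7,7,9,10,10,11,13,13] 1 [] (.leaf 73))))))) (.fuse [0,1,3,3,6,7,10,11,11,13,15] 2 [14,14] (.fuse [3,6,6,7,7,8,8,10,10,11,13,13] 2 [] (.fuse [0,1,2,2,3,3,7,8,10,11,14,14,15] 1 [13,15,15] (.fuse [0,1,2,2,3,3,4,4,5,6,6,9,9,11,14,14,15] 2 [14,14] (.fuse [0,1,2,2,3,3,4,4,6,6,7,7,8,10,10,11,13,14] 2 [15,15] (.fuse [0,1,2,2,3,3,5,5,6,6,7,7,9,10,10,11,13,13] 1 [] (.leaf 74))))))))) (.fuse [0] 1 [11,14,14] (.split (.split (.split (.split (.fuse [9,11,11,13,14,15] 1 [14,14] (.split (.fuse [0,1,3,3,6,7,10,11,11,13,15] 2 [] (.leaf 75)) (.fuse [0,1,3,3,6,7,10,11,11,13,15] 1 [] (.leaf 76)) (.fuse [2] 1 [] (.leaf 77)))) (.fuse [2] 2 [14,15] (.fuse [4,5,5,6,7,9,10,11,14,14] 2 [15,15] (.fuse [0,1,3,3,6,7,10,11,11,13,15] 2 [] (.leaf 78)))) (.fuse [2] 1 [14,14,15,15]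 (.fuse [4,5,5,6,7,9,10,11,14,14] 1 [] (.fuse [0,1,3,3,6,7,10,11,11,13,15] 2 [] (.leaf 79))))) (.fuse [2] 1 [13,14,15,15] (.fuse [9,11,11,13,14,15] 1 [14,14] (.fuse [4,5,5,6,7,9,10,11,14,14] 2 [] (.fuse [3,6,6,7,7,8,8,10,10,11,13,13] 2 [] (.leaf 80))))) (.fuse [2] 2 [13,13,14,14,15] (.fuse [9,11,11,13,14,15] 1 [14,14] (.fuse [4,5,5,6,7,9,10,11,14,14] 1 [15,15] (.fuse [0,1,3,3,6,7,10,11,11,13,15] 1 [] (.leaf 81)))))) (.split (.fuse [2] 1 [13,13,15,15] (.fuse [2,4,4,5,6,6,8,8,9,9,11,11,12,13,13,14,14,15] 1 [14,15] (.fuse [5,6,7,7,8,8,10,11,12,14,15,15] 1 [15,15] (.fuse [2,4,4,5,5,7,9,10,12,13,14,14,15,15] 2 [] (.leaf 82))))) (.fuse [2] 2 [14,15] (.fuse [5,6,7,9,9,10,11,11,14,14,15,15] 2 [15,15] (.fuse [5,6,7,10,11,12,12,13,13,14,15] 2 [15,15] (.fuse [0,1,3,3,6,7,10,11,11,13,15] 1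 [] (.leaf 83))))) (.fuse [4,5,5,6,7,9,10,11,14,14] 1 [13,15] (.fuse [2] 1 [14,14] (.split (.fuse [0,1,3,3,6,7,10,11,11,13,15] 2 [] (.leaf 84)) (.fuse [0,1,3,3,6,7,10,11,11,13,15] 1 [] (.leaf 85)) (.fuse [3,6,6,7,7,8,8,10,10,11,13,13] 2 [] (.leaf 86)))))) (.split (.fuse [2] 2 [13,15] (.fuse [2,4,4,5,6,6,8,8,9,9,11,11,12,13,13,14,14,15] 2 [14,14] (.fuse [5,6,7,8,9,11,11,12,12,15,15] 2 [] (.fuse [0,1,3,3,6,7,10,11,11,13,15] 1 [] (.leaf 87))))) (.fuse [4,5,5,6,7,9,10,11,14,14] 2 [13,13,15] (.fuse [2] 2 [14] (.split (.fuse [0,1,3,3,6,7,10,11,11,13,15] 2 [] (.leaf 88)) (.fuse [0,1,3,3,6,7,10,11,11,13,15] 1 [] (.leaf 89)) (.fuse [2,5,6,7,8,9,9,10,11,12,13,14,14,15] 2 [] (.leaf 90))))) (.fuse [2] 1 [14,14,15,15] (.fuse [5,6,7,9,9,10,11,11,14,14,15,15] 1 [15] (.fuse [5,6,7,9,10,13,13,14,15,15]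 1 [15] (.fuse [2,4,6,6,7,7,10,10,12,15,15] 1 [] (.leaf 91))))))) (.fuse [0,1,3,3,6,7,10,11,11,13,15] 1 [14] (.fuse [3,6,6,7,7,8,8,10,10,11,13,13] 1 [] (.fuse [0,1,2,2,3,3,7,8,10,11,14,14,15] 2 [13,13,15] (.fuse [0,1,2,2,3,3,4,4,5,6,6,9,9,11,14,14,15] 1 [14] (.fuse [0,1,2,2,3,3,4,4,6,6,7,7,8,10,10,11,13,14] 1 [15] (.fuse [0,1,2,2,3,3,5,5,6,6,7,7,9,10,10,11,13,13] 2 [] (.leaf 92))))))) (.fuse [0,1,3,3,6,7,10,11,11,13,15] 2 [14,14,15] (.fuse [3,6,6,7,7,8,8,10,10,11,13,13] 2 [] (.fuse [0,1,2,2,3,3,7,8,10,11,14,14,15] 1 [13] (.fuse [0,1,2,2,3,3,4,4,5,6,6,9,9,11,14,14,15] 2 [14,14,15,15] (.fuse [0,1,2,2,3,3,4,4,6,6,7,7,8,10,10,11,13,14] 2 [15] (.fuse [0,1,2,2,3,3,5,5,6,6,7,7,9,10,10,11,13,13] 2 [] (.leaf 93))))))))))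

theorem cert0_ok : certOK leafVecs cert0 [0,0,0,0,0,0,0] = true := by decide +kernel

def cert1 : Cert := (.fuse [2] 1 [10,11,11,12,12,13,13,14,14,15,15] (.fuse [3,4,4,5,6,8,9,9,11,11,12,12,13,14,15] 1 [11,11,12,13,14,15,15] (.split (.split (.split (.fuse [5,6,6,9,9,12,12,14] 1 [15] (.split (.split (.fuse [5,6,6,9,11,12,12,13,13] 2 [] (.leaf 94)) (.fuse [1] 2 [] (.leaf 95)) (.fuse [1] 1 [] (.leaf 96))) (.fuse [0] 1 [] (.fuse [0,1,3,3,6,7,10,11,11,13,15] 1 [] (.leaf 97))) (.fuse [0] 2 [] (.fuse [0,1,3,3,6,7,10,11,11,13,15] 2 [] (.leaf 98))))) (.fuse [5,6,6,9,9,12,12,14] 1 [14,15] (.split (.fuse [0] 1 [] (.fuse [0,1,3,3,6,7,10,11,11,13,15] 1 [] (.leaf 99))) (.fuse [0] 2 [] (.fuse [0,1,3,3,6,7,10,11,11,13,15] 2 [] (.leaf 100))) (.fuse [5,6,6,9,11,12,12,13,13] 1 [15,15] (.fuse [7,8,11,11,14,14,15]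 2 [] (.leaf 101))))) (.fuse [5,6,6,9,9,12,12,14] 1 [14,14,15] (.split (.fuse [0] 2 [] (.fuse [0,1,3,3,6,7,10,11,11,13,15] 2 [] (.leaf 102))) (.fuse [5,6,6,9,11,12,12,13,13] 2 [15,15] (.fuse [6,7,7,8,8,10,10,11,11,12,15] 1 [] (.leaf 103))) (.fuse [0] 1 [] (.fuse [0,1,3,3,6,7,10,11,11,13,15] 1 [] (.leaf 104)))))) (.fuse [0] 2 [15] (.fuse [5,6,6,9,9,12,12,14] 1 [13,13,14,14,15,15] (.fuse [5,6,6,9,11,12,12,13,13] 2 [14,14] (.split (.fuse [0,1,3,3,6,7,10,11,11,13,15] 1 [] (.leaf 105)) (.fuse [3,6,6,7,7,8,8,10,10,11,13,13] 1 [] (.leaf 106)) (.fuse [0,1,3,3,6,7,10,11,11,13,15] 2 [] (.leaf 107)))))) (.fuse [0] 1 [15,15] (.fuse [5,6,6,9,9,12,12,14] 1 [13,14] (.fuse [5,6,6,9,11,12,12,13,13] 1 [14,15] (.split (.fuse [0,1,3,3,6,7,10,11,11,13,15] 2 [] (.leaf 108)) (.fuse [0,1,3,3,6,7,10,11,11,13,15]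 1 [] (.leaf 109)) (.fuse [3,6,6,7,7,8,8,10,10,11,13,13] 2 [] (.leaf 110))))))) (.fuse [1] 1 [11] (.fuse [3,6,6,7,7,10,10,11,13,13,15,15] 1 [14,14] (.fuse [5,6,6,9,9,12,12,14] 2 [15,15] (.fuse [5,6,7,8,9,9,10,11,13,13,15] 1 [14,15] (.fuse [6,8,9,11,12,12,13,13,14,14,15,15] 2 [15] (.fuse [6,9,11,11,12,12,13,13,14,14,15,15] 1 [] (.prune [0,0,0,0,0,0,0,0,0,0,0,0,0,0,0,2]))))))) (.fuse [1] 2 [11,11] (.fuse [3,6,6,7,7,10,10,11,13,13,15,15] 2 [14] (.fuse [6,7,7,8,8,10,10,11,11,12,15] 1 [13,14] (.fuse [6,7,7,8,8,9,9,10,10,12,13,13,14,14,15,15] 1 [14,15] (.fuse [6,8,9,9,12,13,14] 1 [15,15] (.fuse [6,9,9,11,12,13,15] 2 [] (.prune [0,0,0,0,0,0,0,0,0,0,0,0,0,0,0,1]))))))))))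

theorem cert1_ok : certOK leafVecs cert1 [0,0,0,0,0,0,1] = true := by decide +kernel

def cert2 : Cert := (.fuse [2] 2 [10,10,11,12,13,14] (.fuse [3,4,4,5,6,8,9,9,11,11,12,12,13,14,15] 2 [11,12,12,13,13,14,14,15,15] (.split (.split (.split (.fuse [5,6,6,9,9,12,12,14] 2 [] (.split (.split (.fuse [5,6,6,9,11,12,12,13,13] 1 [] (.leaf 111)) (.fuse [1] 2 [] (.leaf 112)) (.fuse [1] 1 [] (.leaf 113))) (.fuse [0] 1 [] (.fuse [0,1,3,3,6,7,10,11,11,13,15] 1 [] (.leaf 114))) (.fuse [0] 2 [] (.fuse [0,1,3,3,6,7,10,11,11,13,15] 2 [] (.leaf 115))))) (.fuse [5,6,6,9,9,12,12,14] 2 [14] (.split (.fuse [0] 1 [] (.fuse [0,1,3,3,6,7,10,11,11,13,15] 1 [] (.leaf 116))) (.fuse [0] 2 [] (.fuse [0,1,3,3,6,7,10,11,11,13,15] 2 [] (.leaf 117))) (.fuse [5,6,6,9,11,12,12,13,13] 1 [15] (.fuse [6,7,7,8,8,10,10,11,11,12,15]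 2 [] (.leaf 118))))) (.fuse [5,6,6,9,9,12,12,14] 2 [14,14] (.split (.fuse [0] 2 [] (.fuse [0,1,3,3,6,7,10,11,11,13,15] 2 [] (.leaf 119))) (.fuse [5,6,6,9,11,12,12,13,13] 2 [15] (.fuse [7,8,11,11,14,14,15] 1 [] (.leaf 120))) (.fuse [0] 1 [] (.fuse [0,1,3,3,6,7,10,11,11,13,15] 1 [] (.leaf 121)))))) (.fuse [0] 2 [15] (.fuse [5,6,6,9,9,12,12,14] 2 [13,13,14,14,15] (.fuse [5,6,6,9,11,12,12,13,13] 2 [14,14,15,15] (.split (.fuse [0,1,3,3,6,7,10,11,11,13,15] 1 [] (.leaf 122)) (.fuse [3,6,6,7,7,8,8,10,10,11,13,13] 1 [] (.leaf 123)) (.fuse [0,1,3,3,6,7,10,11,11,13,15] 2 [] (.leaf 124)))))) (.fuse [0] 1 [15,15] (.fuse [5,6,6,9,9,12,12,14] 2 [13,14,15,15] (.fuse [5,6,6,9,11,12,12,13,13] 1 [14] (.split (.fuse [0,1,3,3,6,7,10,11,11,13,15] 2 [] (.leaf 125)) (.fuse [0,1,3,3,6,7,10,11,11,13,15]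 1 [] (.leaf 126)) (.fuse [3,6,6,7,7,8,8,10,10,11,13,13] 2 [] (.leaf 127))))))) (.fuse [1] 1 [11] (.fuse [3,6,6,7,7,10,10,11,13,13,15,15] 1 [14,14] (.fuse [6,7,7,8,8,10,10,11,11,12,15] 2 [13,13,14,14] (.fuse [6,7,7,8,8,9,9,10,10,12,13,13,14,14,15,15] 2 [14,14,15] (.fuse [6,8,9,9,12,13,14] 2 [] (.fuse [5,6,6,9,9,12,12,14] 1 [] (.prune [0,0,0,0,0,0,0,0,0,0,0,0,0,0,0,2]))))))) (.fuse [1] 2 [11,11] (.fuse [3,6,6,7,7,10,10,11,13,13,15,15] 2 [14] (.fuse [5,6,6,9,9,12,12,14] 1 [15,15] (.fuse [5,6,7,8,9,9,10,11,13,13,15] 2 [14,14] (.fuse [6,8,9,11,12,12,13,13,14,14,15,15] 1 [] (.fuse [5,6,6,11,11,14,14,15] 2 [] (.prune [0,0,0,0,0,0,0,0,0,0,0,0,0,0,0,1]))))))))))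

theorem cert2_ok : certOK leafVecs cert2 [0,0,0,0,0,0,2] = true := by decide +kernel

def cert3 : Cert := (.split (.fuse [1] 1 [8,8,10,10,11,13,14,14,15,15] (.fuse [1,2,2,5,5,7,7,9,10,10,12,13,15,15] 1 [12,12,13] (.split (.split (.split (.fuse [1,2,2,3,3,6,7,8,8,10,11,11,12] 2 [14,14,15,15] (.fuse [1,2,2,3,3,6,6,7,7,8,8,10,10,11,11,12,12,15,15] 2 [14,14,15] (.fuse [1,2,2,3,3,5,6,6,7,8,8,9,9,10,12,12,15] 1 [] (.split (.leaf 128) (.leaf 129) (.leaf 130))))) (.fuse [1,2,2,3,3,6,7,8,8,10,11,11,12] 1 [13,14] (.fuse [7,8,10,11,12,12,14,14,15] 2 [14,14] (.fuse [0] 1 [] (.fuse [0,7,10,10,11,11,12,12,14,14] 2 [] (.leaf 131))))) (.fuse [6,7,7,8,10,10,11,12,14,15] 1 [13,14,14] (.fuse [1,2,2,3,3,6,7,8,8,10,11,11,12] 2 [15] (.fuse [0] 2 [] (.fuse [0,1,2,2,3,3,4,4,6,13,13,14,15,15] 2 [] (.leaf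 132)))))) (.fuse [0] 2 [15] (.fuse [4,5,8,9,9,11,13] 1 [13,13,14,14,15,15] (.fuse [0,1,2,2,3,3,4,4,5,5,6,7,8,8,9,10,12,14] 1 [14,15] (.fuse [0,1,2,2,3,3,4,5,6,6,8,9,9,11,13,14,14] 1 [15,15] (.fuse [0,1,2,2,3,3,4,5,6,6,9,9,11,11,14] 1 [] (.leaf 133)))))) (.fuse [0] 1 [15,15] (.fuse [0,1,2,2,3,3,4,4,5,5,6,7,8,8,9,10,12,14] 1 [13,13] (.fuse [0,1,2,2,3,3,5,5,6,7,8,9,10,12,13,13,14,14,15] 2 [14,14] (.fuse [4,5,5,6,7,7,8,8,9,10,10,11,11,14] 2 [15] (.fuse [0,1,2,2,3,3,4,5,5,6,6,9,11,11,13,15,15] 2 [] (.leaf 134))))))) (.split (.split (.split (.fuse [1,2,2,3,3,6,7,8,8,10,11,11,12] 2 [14,15] (.fuse [4,5,8,9,9,11,14,14,15,15] 1 [] (.split (.leaf 135) (.leaf 136) (.leaf 137)))) (.fuse [10,11,15,15] 1 [15,15] (.fuse [6,7,7,8,10,10,11,12,14,15] 2 [15] (.fuse [1,2,2,3,3,6,7,8,8,10,11,11,12]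 2 [] (.leaf 138)))) (.fuse [1,2,2,3,3,6,7,8,8,10,11,11,12] 1 [14,14] (.fuse [1,2,2,3,3,5,6,7,9,9,13,14,14] 2 [15] (.fuse [1,2,2,3,3,4,4,5,6,7,8,9,9,12,12,14,14] 1 [] (.leaf 139))))) (.fuse [1,2,2,3,3,6,7,8,8,10,11,11,12] 2 [15,15] (.fuse [10,11,15,15] 1 [15,15] (.fuse [0] 1 [] (.fuse [5,6,7,7,9,9,10,10,11,11,13,13,15] 1 [] (.leaf 140))))) (.fuse [1,2,2,3,3,6,7,8,8,10,11,11,12] 1 [13,14,14] (.fuse [10,11,15,15] 1 [15,15] (.fuse [0] 2 [] (.fuse [5,6,6,7,8,9,9,10,12,13,13,15] 1 [] (.leaf 141)))))) (.fuse [0] 2 [15] (.fuse [0,1,2,2,3,3,4,4,5,5,6,7,8,8,9,10,12,14] 1 [14,14] (.fuse [0,1,2,2,3,3,4,5,6,7,8,8,9,9,10,11,12,13,14,14,15] 1 [14,15] (.fuse [5,8,9,9,10,12,12,13] 2 [15] (.fuse [5,6,6,7,9,9,10,10,11,11,14,14,15,15] 2 [] (.leaf 142)))))) (.fuse [0] 1 [15,15] (.fuse [0,1,2,2,3,3,4,4,5,5,6,7,8,8,9,10,12,14]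 2 [13,14,15,15] (.fuse [5,8,9,9,11,11,12,15] 1 [14,15] (.fuse [5,8,9,9,10,10,11,12,15,15] 1 [15,15] (.fuse [0,1,2,2,3,3,4,5,6,7,8,8,9,9,10,11,12,13,14,14,15] 1 [] (.leaf 143))))))) (.split (.split (.fuse [1,2,2,3,3,6,7,8,8,10,11,11,12] 1 [13] (.fuse [1,2,2,3,3,6,6,7,7,8,8,10,10,11,11,12,12,15,15] 2 [14,15] (.fuse [1,2,2,3,3,6,6,12,12,14,14,15,15] 2 [] (.split (.leaf 144) (.leaf 145) (.leaf 146))))) (.fuse [6,7,7,8,10,10,11,12,14,15] 2 [13,13,14,14] (.fuse [1,2,2,3,3,6,7,8,8,10,11,11,12] 2 [14,14,15] (.fuse [0] 1 [] (.fuse [0,1,2,2,3,3,4,4,5,5,6,7,7,9,10,10,11,12,12,13,13,14,14,15,15] 2 [] (.leaf 147))))) (.fuse [1,2,2,3,3,6,7,8,8,10,11,11,12] 2 [14,15,15] (.fuse [1,2,2,3,3,5,7,7,8,9,9,10,10,11,12,12,13,14,15,15] 1 [14,15] (.fuse [0] 2 [] (.fuse [1,2,2,3,3,5,5,7,8,8,9,10,11,12,15]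 1 [] (.leaf 148)))))) (.fuse [0] 2 [15] (.fuse [0,1,2,2,3,3,4,4,5,5,6,7,8,8,9,10,12,14] 2 [13,13,15,15] (.fuse [0,1,2,2,3,3,5,5,6,7,8,9,10,12,13,13,14,14,15] 2 [15,15] (.fuse [0,1,2,2,3,3,4,4,5,7,9,9,10,11] 1 [15] (.fuse [0,1,2,2,3,3,4,6,6,8,11,12,12,14,15,15] 2 [] (.leaf 149)))))) (.fuse [0] 1 [15,15] (.fuse [4,5,8,9,9,11,13] 2 [13,15] (.fuse [4,5,6,6,7,9,9,10,12,14] 2 [14,15] (.fuse [0,1,2,2,3,3,4,4,5,5,6,7,8,8,9,10,12,14] 2 [15] (.fuse [4,5,5,6,6,7,8,8,9,10,11,12,12,13,13,15] 1 [] (.leaf 150)))))))))) (.fuse [1] 1 [8,8,10,10,11,13,14,14,15,15] (.fuse [1,2,3,4,4,5,6,6,7,9,9,10,13,13,14,14] 2 [10,10,12,13,13,15] (.split (.fuse [1,2,3,3,4,4,5,7,9,9,10,11,12,12,15] 2 [13,15] (.fuse [3,4,5,5,6,8,8,9,11,11,12,12,14,15,15] 1 [12,13] (.fuse [5,6,8,9,9,12,12,13,13,15] 2 [15,15] (.fuse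 [7,8,10,11,13,14,15] 2 [14,14,15] (.fuse [5,6,6,8,9,9,11,13,13,14,15,15] 2 [15] (.fuse [6,8,8,9,9,12,12,13,13,14,15] 2 [] (.prune [0,0,0,0,0,0,0,0,0,0,0,0,0,0,0,1]))))))) (.fuse [1,2,3,3,4,4,5,7,9,9,10,11,12,12,15] 1 [12,12,13,13,14,14,15,15] (.fuse [3,4,5,5,6,8,8,9,11,11,12,12,14,15,15] 2 [12,12,13,13,14,14,15,15] (.fuse [5,6,8,9,9,12,12,13,13,15] 1 [14,14] (.fuse [10,12,12,14,15,15] 1 [14] (.fuse [5,6,8,9,11,12,12,13,14,14,15] 1 [15] (.fuse [6,12,12,15,15] 2 [] (.leaf 151))))))) (.split (.split (.fuse [1,2,3,3,4,4,5,7,9,9,10,11,12,12,15] 1 [14] (.fuse [1,2,3,3,4,4,5,6,7,7,8,9,9,10,10,12,12,15] 1 [14] (.fuse [1,2,3,3,4,4,5,5,6,7,7,8,10,11,13,14,15,15] 2 [15,15] (.fuse [1,2,5,5,7,7,8,10] 1 [] (.prune [0,0,0,0,0,0,0,0,0,0,0,0,0,0,0,2]))))) (.fuse [1,2,3,3,4,4,5,7,9,9,10,11,12,12,15]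 2 [13,15,15] (.fuse [1,2,3,3,4,4,5,5,7,8,9,10,11,13,13,15,15] 1 [14,14] (.fuse [0] 1 [] (.fuse [3,4,5,8,8,9,9,11,12,13,13,14,14,15,15] 2 [] (.prune [0,0,0,0,0,0,0,0,0,0,0,0,0,0,0,2]))))) (.fuse [6,11,12,12,15,15] 2 [14,14] (.fuse [1,2,3,3,4,4,5,7,9,9,10,11,12,12,15] 2 [14,14,15] (.fuse [0] 2 [] (.fuse [3,4,5,8,8,9,9,11,11,14,14,15,15] 1 [] (.prune [0,0,0,0,0,0,0,0,0,0,0,0,0,0,0,2])))))) (.fuse [0] 2 [15] (.fuse [0,1,2,6,7,8,8,10,13,13,15] 2 [13,13,14,15] (.fuse [0,1,2,3,4,7,10,11,11,13,14,15,15] 2 [14,14] (.fuse [0,1,2,3,4,5,5,6,6,7,8,9,10,11,12,13,14,14,15] 2 [15,15] (.fuse [0,1,2,3,4,5,5,7,8,9,9,10,12,12,13,14,14] 1 [] (.prune [0,0,0,0,0,0,0,0,0,0,0,0,0,0,0,2])))))) (.fuse [0] 1 [15,15] (.fuse [3,4,5,5,6,9,12,12,13,14,15] 2 [13,13,14,14] (.fuse [0,1,2,6,7,8,8,10,13,13,15] 1 [14,15,15]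 (.fuse [0,1,2,3,4,6,6,11,11,12,15] 1 [15] (.fuse [0,1,2,3,3,4,4,5,6,7,7,9,9,10,10,11,11,13,14,14,15] 1 [] (.prune [0,0,0,0,0,0,0,0,0,0,0,0,0,0,0,2])))))))))) (.fuse [1] 1 [8,8,10,10,11,13,14,14,15,15] (.fuse [2] 1 [10,11,11,14,14,15,15] (.split (.fuse [2,3,3,6,7,7,10,10,11,12,13,14,14] 1 [11,11,13,13,15] (.fuse [3,4,4,5,6,9,9,11,11,13,13,14,14,15,15] 1 [12,13,14,15,15] (.fuse [5,6,6,8,9,9,11,11,12,12,13,14,15] 1 [14] (.fuse [5,6,7,7,8,8,9,9,10,10,11,11,14,14] 1 [14] (.fuse [5,6,6,8,11,14,15,15] 2 [] (.fuse [6,8,8,9,12,13,15] 1 [] (.prune [0,0,0,0,0,0,0,0,0,0,0,0,0,0,0,1]))))))) (.fuse [2,3,3,6,7,7,10,10,11,12,13,14,14] 2 [11,12,14,14,15] (.fuse [3,4,4,5,6,9,9,11,11,13,13,14,14,15,15] 2 [12,12,13,13,14,14,15] (.fuse [5,6,6,8,9,9,11,11,12,12,13,14,15] 2 [15] (.fuse [10,11,11,14,15]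 1 [14,14,15,15] (.fuse [5,6,6,8,9,12,12,15] 2 [15,15] (.fuse [5,6,6,8,9,11,11,12,12,14,14,15,15] 2 [] (.leaf 152))))))) (.split (.split (.fuse [2,3,3,6,7,7,10,10,11,12,13,14,14] 2 [13,14,15] (.fuse [6,8,8,9,9,10,11,12,13,14,14,15] 1 [14,14,15] (.fuse [2,3,3,7,8,10,11,13,14,15] 1 [15] (.fuse [2,3,3,7,8,10,11,11,12,13,13,15,15] 2 [] (.prune [0,0,0,0,0,0,0,0,0,0,0,0,0,0,0,2]))))) (.fuse [6,7,8,8,10,12,13,13,14,14,15,15] 2 [13,15,15] (.fuse [2,3,3,6,7,7,10,10,11,12,13,14,14] 2 [14,14,15] (.fuse [0] 1 [] (.fuse [0,2,2,3,5,6,7,7,8,10,10,11,11,13,13] 2 [] (.prune [0,0,0,0,0,0,0,0,0,0,0,0,0,0,0,2]))))) (.fuse [2,3,3,6,7,7,10,10,11,12,13,14,14] 1 [15] (.fuse [2,3,3,6,6,7,8,8,10,13,14,14] 2 [14,14,15] (.fuse [0] 2 [] (.fuse [3,4,4,5,5,8,8,9,11,11,13,14] 1 [] (.prune [0,0,0,0,0,0,0,0,0,0,0,0,0,0,0,2]))))))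 (.fuse [0] 2 [15] (.fuse [3,4,4,5,6,9,9,11,11,14,14,15,15] 2 [13,13,15] (.fuse [3,4,4,5,7,7,8,9,9,10,10,11,11,12,13,13,15] 1 [] (.fuse [2,3,3,6,7,7,10,10,11,12,13,14,14] 1 [15,15] (.fuse [3,4,4,5,5,6,6,7,7,8,8,9,10,10,11,11,12,12,14,15,15] 1 [] (.prune [0,0,0,0,0,0,0,0,0,0,0,0,0,0,0,2])))))) (.fuse [0] 1 [15,15] (.fuse [2,3,3,6,7,7,10,10,11,12,13,14,14] 1 [13,13,14] (.fuse [2,3,4,5,5,7,7,9,10,10,11,11,12,13,15] 1 [14,15,15] (.fuse [2,3,4,5,6,7,7,8,8,9,9,10,10,12,13,14] 1 [15,15] (.fuse [5,6,6,7,7,8,8,9,9,10,10,11,11,12,12,13,13,14,15,15] 2 [] (.prune [0,0,0,0,0,0,0,0,0,0,0,0,0,0,0,2])))))))))))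

theorem cert3_ok : certOK leafVecs cert3 [0,0,0,0,0,1] = true := by decide +kernel


end H49.Order3.Fi24
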