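/-
Generated data: part of the certificate tree, with its check.
-/
import Cfsg.Agent.H49.Order3.Fi24.CertDef
import Cfsg.Agent.H49.Order3.Fi24.Data.Leaves

set_option autoImplicit false
set_option maxRecDepth 100000
set_option linter.all false
set_option Elab.async false

namespace H49.Order3.Fi24

def cert4 : Cert := (.split (.fuse [1] 2 [8,10,11,11,13,13,14] (.fuse [1,2,2,5,5,7,7,9,10,10,12,13,15,15] 2 [12,13,13] (.split (.split (.split (.fuse [1,2,2,3,3,6,7,8,8,10,11,11,12] 1 [14,15] (.fuse [1,2,2,3,3,6,6,7,7,8,8,10,10,11,11,12,12,15,15] 1 [14,15,15] (.fuse [1,2,2,3,3,5,6,6,7,8,8,9,9,10,12,12,15] 2 [] (.split (.leaf 153) (.leaf 154) (.leaf 155))))) (.fuse [6,7,7,8,10,10,11,12,14,15] 2 [13,13,14] (.fuse [1,2,2,3,3,6,7,8,8,10,11,11,12] 1 [15,15] (.fuse [0] 1 [] (.fuse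 [0,1,2,2,3,3,4,4,6,13,13,14,15,15] 1 [] (.leaf 156))))) (.fuse [1,2,2,3,3,6,7,8,8,10,11,11,12] 2 [13,13,14,14] (.fuse [7,8,10,11,12,12,14,14,15] 1 [14] (.fuse [0] 2 [] (.fuse [0,7,10,10,11,11,12,12,14,14] 1 [] (.leaf 157)))))) (.fuse [0] 2 [15] (.fuse [0,1,2,2,3,3,4,4,5,5,6,7,8,8,9,10,12,14] 2 [13] (.fuse [0,1,2,2,3,3,5,5,6,7,8,9,10,12,13,13,14,14,15] 1 [14] (.fuse [4,5,5,6,7,7,8,8,9,10,10,11,11,14] 1 [15,15] (.fuse [0,1,2,2,3,3,4,5,5,6,6,9,11,11,13,15,15] 1 [] (.leaf 158)))))) (.fuse [0] 1 [15,15] (.fuse [4,5,8,9,9,11,13] 2 [13,14,15] (.fuse [0,1,2,2,3,3,4,4,5,5,6,7,8,8,9,10,12,14] 2 [14,14,15,15] (.fuse [0,1,2,2,3,3,4,5,6,6,8,9,9,11,13,14,14] 2 [15] (.fuse [0,1,2,2,3,3,4,5,6,6,9,9,11,11,14] 2 [] (.leaf 159))))))) (.split (.split (.fuse [1,2,2,3,3,6,7,8,8,10,11,11,12]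 2 [13,13] (.fuse [1,2,2,3,3,6,6,7,7,8,8,10,10,11,11,12,12,15,15] 1 [14,14,15,15] (.fuse [1,2,2,3,3,6,6,12,12,14,14,15,15] 1 [] (.split (.leaf 160) (.leaf 161) (.leaf 162))))) (.fuse [1,2,2,3,3,6,7,8,8,10,11,11,12] 1 [14,14,15] (.fuse [1,2,2,3,3,5,7,7,8,9,9,10,10,11,12,12,13,14,15,15] 2 [14,14,15,15] (.fuse [0] 1 [] (.fuse [1,2,2,3,3,5,5,7,8,8,9,10,11,12,15] 2 [] (.leaf 163))))) (.fuse [6,7,7,8,10,10,11,12,14,15] 1 [13,14] (.fuse [1,2,2,3,3,6,7,8,8,10,11,11,12] 1 [14,15,15] (.fuse [0] 2 [] (.fuse [0,1,2,2,3,3,4,4,5,5,6,7,7,9,10,10,11,12,12,13,13,14,14,15,15] 1 [] (.leaf 164)))))) (.fuse [0] 2 [15] (.fuse [4,5,8,9,9,11,13] 1 [13,13,15,15] (.fuse [4,5,6,6,7,9,9,10,12,14] 1 [14,14,15,15] (.fuse [0,1,2,2,3,3,4,4,5,5,6,7,8,8,9,10,12,14] 1 [15,15] (.fuse [4,5,5,6,6,7,8,8,9,10,11,12,12,13,13,15]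 2 [] (.leaf 165)))))) (.fuse [0] 1 [15,15] (.fuse [0,1,2,2,3,3,4,4,5,5,6,7,8,8,9,10,12,14] 1 [13,15] (.fuse [0,1,2,2,3,3,5,5,6,7,8,9,10,12,13,13,14,14,15] 1 [15] (.fuse [0,1,2,2,3,3,4,4,5,7,9,9,10,11] 2 [15,15] (.fuse [0,1,2,2,3,3,4,6,6,8,11,12,12,14,15,15] 1 [] (.leaf 166))))))) (.split (.split (.split (.fuse [1,2,2,3,3,6,7,8,8,10,11,11,12] 1 [14,14,15,15] (.fuse [4,5,8,9,9,11,14,14,15,15] 2 [] (.split (.leaf 167) (.leaf 168) (.leaf 169)))) (.fuse [1,2,2,3,3,6,7,8,8,10,11,11,12] 2 [14] (.fuse [1,2,2,3,3,5,6,7,9,9,13,14,14] 1 [15,15] (.fuse [1,2,2,3,3,4,4,5,6,7,8,9,9,12,12,14,14] 2 [] (.leaf 170)))) (.fuse [10,11,15,15] 2 [15] (.fuse [6,7,7,8,10,10,11,12,14,15] 1 [15,15] (.fuse [1,2,2,3,3,6,7,8,8,10,11,11,12] 1 [] (.leaf 171))))) (.fuse [1,2,2,3,3,6,7,8,8,10,11,11,12] 2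 [13,13,14] (.fuse [10,11,15,15] 2 [15] (.fuse [0] 1 [] (.fuse [5,6,6,7,8,9,9,10,12,13,13,15] 2 [] (.leaf 172))))) (.fuse [1,2,2,3,3,6,7,8,8,10,11,11,12] 1 [15] (.fuse [10,11,15,15] 2 [15] (.fuse [0] 2 [] (.fuse [5,6,7,7,9,9,10,10,11,11,13,13,15] 2 [] (.leaf 173)))))) (.fuse [0] 2 [15] (.fuse [0,1,2,2,3,3,4,4,5,5,6,7,8,8,9,10,12,14] 1 [13,13,14,14,15] (.fuse [5,8,9,9,11,11,12,15] 2 [14,14,15,15] (.fuse [5,8,9,9,10,10,11,12,15,15] 2 [15] (.fuse [0,1,2,2,3,3,4,5,6,7,8,8,9,9,10,11,12,13,14,14,15] 2 [] (.leaf 174)))))) (.fuse [0] 1 [15,15] (.fuse [0,1,2,2,3,3,4,4,5,5,6,7,8,8,9,10,12,14] 2 [14] (.fuse [0,1,2,2,3,3,4,5,6,7,8,8,9,9,10,11,12,13,14,14,15] 2 [14,14,15,15] (.fuse [5,8,9,9,10,12,12,13] 1 [15,15] (.fuse [5,6,6,7,9,9,10,10,11,11,14,14,15,15] 1 [] (.leaf 175))))))))))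 (.fuse [1] 2 [8,10,11,11,13,13,14] (.fuse [2] 2 [10,10,11,14,15,15] (.split (.fuse [2,3,3,6,7,7,10,10,11,12,13,14,14] 2 [11,13] (.fuse [3,4,4,5,6,9,9,11,11,13,13,14,14,15,15] 2 [12,12,13,13,14,14,15] (.fuse [5,6,6,8,9,9,11,11,12,12,13,14,15] 2 [14,14] (.fuse [5,6,7,7,8,8,9,9,10,10,11,11,14,14] 2 [14,14,15,15] (.fuse [5,6,6,8,11,14,15,15] 1 [15] (.fuse [5,6,6,8,8,15,15] 1 [] (.prune [0,0,0,0,0,0,0,0,0,0,0,0,0,0,0,2]))))))) (.split (.split (.fuse [2,3,3,6,7,7,10,10,11,12,13,14,14] 1 [13,13,14,14] (.fuse [6,8,8,9,9,10,11,12,13,14,14,15] 2 [14,15,15] (.fuse [2,3,3,7,8,10,11,13,14,15] 2 [15,15] (.fuse [2,3,3,7,8,10,11,11,12,13,13,15,15] 1 [] (.prune [0,0,0,0,0,0,0,0,0,0,0,0,0,0,0,1]))))) (.fuse [2,3,3,6,7,7,10,10,11,12,13,14,14] 2 [] (.fuse [2,3,3,6,6,7,8,8,10,13,14,14] 1 [14,15]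 (.fuse [0] 1 [] (.fuse [0,2,3,4,5,5,6,6,7,8,8,10,10,14,15,15] 2 [] (.prune [0,0,0,0,0,0,0,0,0,0,0,0,0,0,0,1]))))) (.fuse [6,7,8,8,10,12,13,13,14,14,15,15] 1 [13,13,15,15] (.fuse [2,3,3,6,7,7,10,10,11,12,13,14,14] 1 [14] (.fuse [0] 2 [] (.fuse [2,3,3,6,6,7,8,9,9,11,11,12,12,13,13,14,14,15] 1 [] (.prune [0,0,0,0,0,0,0,0,0,0,0,0,0,0,0,1])))))) (.fuse [0] 2 [15] (.fuse [2,3,3,6,7,7,10,10,11,12,13,14,14] 2 [13,14,14,15] (.fuse [2,3,4,5,5,7,7,9,10,10,11,11,12,13,15] 2 [14,14,15,15] (.fuse [2,3,4,5,6,7,7,8,8,9,9,10,10,12,13,14] 2 [15,15] (.fuse [2,3,3,5,6,7,7,8,8,9,9,10,10,11,11,12,15] 2 [] (.prune [0,0,0,0,0,0,0,0,0,0,0,0,0,0,0,1])))))) (.fuse [0] 1 [15,15] (.fuse [3,4,4,5,6,9,9,11,11,14,14,15,15] 1 [13,15,15] (.fuse [3,4,4,5,7,7,8,9,9,10,10,11,11,12,13,13,15] 2 [15,15] (.fuse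 [2,3,3,6,7,7,10,10,11,12,13,14,14] 2 [15,15] (.fuse [2,3,4,5,6,6,9,9,11,12,12,13,13,14,14,15,15] 2 [] (.prune [0,0,0,0,0,0,0,0,0,0,0,0,0,0,0,1]))))))) (.fuse [2,3,3,6,7,7,10,10,11,12,13,14,14] 1 [11,11,12,12,14] (.fuse [3,4,4,5,6,9,9,11,11,13,13,14,14,15,15] 1 [12,13,14,15,15] (.fuse [5,6,6,8,9,9,11,11,12,12,13,14,15] 1 [15,15] (.fuse [10,11,11,14,15] 2 [14,15] (.fuse [5,6,6,8,9,12,12,15] 1 [] (.fuse [6,7,8,8,10,12,13,13,14,14,15,15] 1 [] (.leaf 176)))))))))) (.fuse [1] 2 [8,10,11,11,13,13,14] (.fuse [1,2,3,4,4,5,6,6,7,9,9,10,13,13,14,14] 1 [10,12,12,13,15,15] (.split (.fuse [1,2,3,3,4,4,5,7,9,9,10,11,12,12,15] 1 [13,13] (.fuse [3,4,5,5,6,8,8,9,11,11,12,12,14,15,15] 2 [12,12,13,13] (.fuse [5,6,8,9,9,12,12,13,13,15] 1 [15] (.fuse [7,8,10,11,13,14,15] 1 [14,15,15] (.fuse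 [5,6,6,8,9,9,11,13,13,14,15,15] 1 [15] (.fuse [6,8,8,9,9,12,12,13,13,14,15] 2 [] (.prune [0,0,0,0,0,0,0,0,0,0,0,0,0,0,0,2]))))))) (.split (.split (.fuse [1,2,3,3,4,4,5,7,9,9,10,11,12,12,15] 2 [14,14,15] (.fuse [1,2,3,3,4,4,5,6,7,7,8,9,9,10,10,12,12,15] 2 [14,14] (.fuse [1,2,3,3,4,4,5,5,6,7,7,8,10,11,13,14,15,15] 1 [15] (.fuse [1,2,5,5,7,7,8,10] 2 [] (.prune [0,0,0,0,0,0,0,0,0,0,0,0,0,0,0,1]))))) (.fuse [6,11,12,12,15,15] 1 [14,15,15] (.fuse [1,2,3,3,4,4,5,7,9,9,10,11,12,12,15] 1 [14] (.fuse [0] 1 [] (.fuse [0,1,1,2,2,3,3,5,5,7,9,10,12,14,15,15] 2 [] (.prune [0,0,0,0,0,0,0,0,0,0,0,0,0,0,0,1]))))) (.fuse [1,2,3,3,4,4,5,7,9,9,10,11,12,12,15] 1 [13,13,15,15] (.fuse [1,2,3,3,4,4,5,5,7,8,9,10,11,13,13,15,15] 2 [14,15,15] (.fuse [0] 2 [] (.fuse [0,1,1,2,2,3,3,5,6,6,7,8,8,9,10,10,11,12,12,13,13,14]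 1 [] (.prune [0,0,0,0,0,0,0,0,0,0,0,0,0,0,0,1])))))) (.fuse [0] 2 [15] (.fuse [3,4,5,5,6,9,12,12,13,14,15] 1 [13,14] (.fuse [0,1,2,6,7,8,8,10,13,13,15] 2 [14,14,15,15] (.fuse [0,1,2,3,4,6,6,11,11,12,15] 2 [15] (.fuse [0,1,2,3,3,4,4,5,6,7,7,9,9,10,10,11,11,13,14,14,15] 2 [] (.prune [0,0,0,0,0,0,0,0,0,0,0,0,0,0,0,1])))))) (.fuse [0] 1 [15,15] (.fuse [0,1,2,6,7,8,8,10,13,13,15] 1 [13,14,14] (.fuse [0,1,2,3,4,7,10,11,11,13,14,15,15] 1 [14,15] (.fuse [0,1,2,3,4,5,5,6,6,7,8,9,10,11,12,13,14,14,15] 1 [15,15] (.fuse [6,7,7,8,9,11,12,13,14] 1 [] (.prune [0,0,0,0,0,0,0,0,0,0,0,0,0,0,0,1]))))))) (.fuse [1,2,3,3,4,4,5,7,9,9,10,11,12,12,15] 2 [12,13,14,15,15] (.fuse [3,4,5,5,6,8,8,9,11,11,12,12,14,15,15] 1 [12,13,14,15] (.fuse [5,6,8,9,9,12,12,13,13,15] 2 [14] (.fuse [10,12,12,14,15,15]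 2 [14,14] (.fuse [5,6,8,9,11,12,12,13,14,14,15] 2 [15] (.fuse [5,6,6,8,9,11,11,13,15,15] 1 [] (.leaf 177)))))))))))

theorem cert4_ok : certOK leafVecs cert4 [0,0,0,0,0,2] = true := by decide +kernel

def cert5 : Cert := (.fuse [2] 1 [6,7,8,9,9,10,11,12,12,13,13,14] (.fuse [1] 1 [8,11,11,13] (.split (.fuse [4,5,5,6,7,7,9,10,10,11,12,12,13,14,14,15] 1 [11,11,12,13,14,15] (.split (.split (.split (.fuse [4,7,7,8,10,10,12,14,15,15] 1 [14,14] (.split (.fuse [4,5,5,8,8,9,11,11,12,13] 1 [] (.split (.leaf 178) (.leaf 179) (.leaf 180))) (.fuse [0] 1 [] (.fuse [3,6,6,7,7,10,10,11,13,13,15,15] 2 [] (.leaf 181))) (.fuse [0] 2 [] (.fuse [3,6,6,7,7,10,10,11,13,13,15,15] 1 [] (.leaf 182))))) (.fuse [4,7,7,8,10,10,12,14,15,15] 1 [14,14,15] (.split (.fuse [0] 1 [] (.fuse [3,6,6,7,7,10,10,11,13,13,15,15]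 2 [] (.leaf 183))) (.fuse [0] 2 [] (.fuse [3,6,6,7,7,10,10,11,13,13,15,15] 1 [] (.leaf 184))) (.fuse [5,8,9,9,11,12,13,15,15] 2 [] (.fuse [7,8,8,11,11,13,13,14,14] 2 [] (.leaf 185))))) (.fuse [4,7,7,8,10,10,12,14,15,15] 1 [14,14,15,15] (.split (.fuse [0] 2 [] (.fuse [3,6,6,7,7,10,10,11,13,13,15,15] 1 [] (.leaf 186))) (.fuse [4,5,5,8,8,9,11,11,12,13] 2 [] (.fuse [7,8,8,11,11,13,13,14,14] 1 [] (.leaf 187))) (.fuse [0] 1 [] (.fuse [3,6,6,7,7,10,10,11,13,13,15,15] 2 [] (.leaf 188)))))) (.fuse [0] 2 [15] (.fuse [4,7,7,8,10,10,12,14,15,15] 2 [15,15] (.fuse [4,5,7,9,9,10,11,13,14,14,15,15] 2 [14,14] (.fuse [4,7,8,8,10,12,13,13,14] 1 [15] (.prune [0,0,0,0,0,0,0,0,0,0,0,0,0,0,2,0]))))) (.fuse [0] 1 [15,15] (.fuse [5,7,7,8,8,9,9,10,10,11,14,14] 1 [13,14,14,15,15] (.fuse [5,8,9,9,11,14]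 1 [14,15] (.fuse [4,7,7,8,10,10,12,14,15,15] 1 [15] (.prune [0,0,0,0,0,0,0,0,0,0,0,0,0,0,1,0])))))) (.split (.fuse [3,6,6,7,7,10,10,11,13,13,15,15] 1 [14,14] (.fuse [4,7,7,8,10,10,12,14,15,15] 1 [13,13,14,14,15] (.fuse [7,8,8,11,11,13,13,14,14] 1 [15,15] (.fuse [4,5,5,8,8,9,11,11,12,13] 2 [] (.split (.leaf 189) (.leaf 190) (.leaf 191)))))) (.fuse [0] 2 [15] (.fuse [4,7,7,8,10,10,12,14,15,15] 2 [13,13] (.fuse [5,8,9,9,11,12,12,13,15,15] 2 [15,15] (.fuse [4,5,7,9,9,10,11,13,14,14,15,15] 1 [15,15] (.prune [0,0,0,0,0,0,0,0,0,0,0,0,0,0,2,0]))))) (.fuse [0] 1 [15,15] (.fuse [5,7,7,8,8,9,9,10,10,11,14,14] 1 [14] (.fuse [4,7,7,8,10,10,12,14,15,15] 2 [14,15,15] (.fuse [0,3,3,6,7,10,11,11,13,15] 1 [15] (.prune [0,0,0,0,0,0,0,0,0,0,0,0,0,0,1,0])))))) (.split (.fuse [3,6,6,7,7,10,10,11,13,13,15,15]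 2 [14] (.fuse [4,7,7,8,10,10,12,14,15,15] 1 [13,14,14,15,15] (.fuse [7,8,8,11,11,13,13,14,14] 2 [15] (.fuse [5,8,9,9,11,12,13,15,15] 2 [] (.split (.leaf 192) (.leaf 193) (.leaf 194)))))) (.fuse [0] 2 [15] (.fuse [4,7,7,8,10,10,12,14,15,15] 2 [13,15] (.fuse [4,5,7,9,9,10,11,13,14,14,15,15] 1 [15] (.fuse [0,3,3,6,7,10,11,11,13,15] 2 [15,15] (.prune [0,0,0,0,0,0,0,0,0,0,0,0,0,0,2,0]))))) (.fuse [0] 1 [15,15] (.fuse [5,7,7,8,8,9,9,10,10,11,14,14] 1 [13,13,15] (.fuse [4,7,7,8,10,10,12,14,15,15] 1 [14] (.fuse [4,5,5,7,7,9,10,10,11,11,12,13,15,15] 2 [15,15] (.prune [0,0,0,0,0,0,0,0,0,0,0,0,0,0,1,0])))))))) (.fuse [0] 2 [11,11,14,15,15] (.split (.split (.fuse [0,4,5,5,6,7,7,8,9,10,10,12,12,13] 1 [12,13,14,14] (.fuse [4,7,7,10,10,11,12,14] 1 [14,14] (.fuse [9,11,11,13,14,15] 2 [14]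 (.fuse [5,8,8,9,9,12,12,13,13,14,15] 2 [15,15] (.fuse [3,6,6,7,7,10,10,11,13,13,15,15] 1 [] (.leaf 195)))))) (.split (.fuse [0,4,5,5,6,7,7,8,9,10,10,12,12,13] 2 [13,13,14,14,15,15] (.fuse [0,5,5,6,8,8,9,11,12,14,14,15,15] 2 [14,14,15] (.fuse [4,7,8,10,11,12,14,14,15] 1 [] (.prune [0,0,0,0,0,0,0,0,0,0,0,0,0,0,2,0])))) (.fuse [0,4,5,5,6,7,7,8,9,10,10,12,12,13] 2 [13,13,14,14] (.fuse [0,5,5,6,8,8,9,11,12,14,14,15,15] 2 [14,14,15] (.fuse [0,4,4,5,6,7,7,8,8,9,9,10,10,13,13,14,15,15] 2 [15,15] (.prune [0,0,0,0,0,0,0,0,0,0,0,0,0,0,2,0])))) (.fuse [0,4,5,5,6,7,7,8,9,10,10,12,12,13] 2 [13,13,14,14,15] (.fuse [0,5,5,6,8,8,9,11,12,14,14,15,15] 2 [14,14,15] (.fuse [0,4,4,5,6,7,7,8,8,9,9,10,10,13,13,14,15,15] 1 [] (.prune [0,0,0,0,0,0,0,0,0,0,0,0,0,0,2,0]))))) (.fuse [0,4,5,5,6,7,7,8,9,10,10,12,12,13]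 2 [14,14,15] (.fuse [5,7,7,9,9,10,10,12,13] 1 [13] (.fuse [5,8,8,9,9,12,13,14,14,15] 1 [14,14,15,15] (.fuse [4,7,7,10,10,11,12,14] 1 [15,15] (.prune [0,0,0,0,0,0,0,0,0,0,0,0,0,0,1,0])))))) (.split (.fuse [0,4,5,5,6,7,7,8,9,10,10,12,12,13] 1 [14,14,15,15] (.fuse [4,7,7,10,10,11,12,14] 1 [13,13,15] (.fuse [7,8,8,11,11,13,13,14,14] 1 [] (.fuse [7,8,8,9,11,13,15] 1 [] (.fuse [0,3,3,4,5,5,6,6,8,9,11,11,12,14,14,15,15] 1 [] (.leaf 196)))))) (.fuse [3,6,6,7,7,10,10,11,13,13,15,15] 1 [14,14] (.fuse [0,4,5,5,6,7,7,8,9,10,10,12,12,13] 1 [13,14,14,15] (.fuse [5,8,9,9,11,12,12,14,14] 2 [15] (.fuse [5,7,8,8,9,9,11,11,12,12,13,14,14] 1 [15,15] (.prune [0,0,0,0,0,0,0,0,0,0,0,0,0,0,2,0]))))) (.fuse [0,4,5,5,6,7,7,8,9,10,10,12,12,13] 2 [12,12,13,13,14,14] (.fuse [0,3,4,5,5,7,8,9,10,13,13,14,14]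 2 [13,13,14] (.fuse [0,3,4,11,12,12,13,14,14] 2 [14,15,15] (.fuse [0,3,7,10,13,14] 2 [15,15] (.prune [0,0,0,0,0,0,0,0,0,0,0,0,0,0,1,0])))))) (.split (.fuse [0,4,5,5,6,7,7,8,9,10,10,12,12,13] 1 [12,12,13,13,14,14,15] (.fuse [0,3,4,5,5,7,8,9,10,13,13,14,14] 2 [13,13,15] (.fuse [7,13,13,14,14,15,15] 2 [14,15] (.fuse [0,3,4,4,5,5,9,11,11,12,12,13,14,14,15,15] 1 [] (.fuse [0,3,4,4,5,5,8,8,9,11,12,12,13] 1 [] (.leaf 197)))))) (.fuse [3,6,6,7,7,10,10,11,13,13,15,15] 2 [14] (.fuse [4,7,7,10,10,11,12,14] 2 [13,14,14] (.fuse [4,5,7,9,9,10,11,12,13,13,14,15] 1 [14] (.fuse [0,4,5,5,6,7,7,8,9,10,10,12,12,13] 2 [] (.prune [0,0,0,0,0,0,0,0,0,0,0,0,0,0,2,0]))))) (.fuse [0,4,5,5,6,7,7,8,9,10,10,12,12,13] 2 [12,13,14,14,15,15] (.fuse [0,3,3,4,5,5,6,6,8,9,11,11,12,14,14,15,15] 1 [13,14,15]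 (.fuse [0,3,3,4,5,6,6,7,8,9,9,10,11,11,12,12,14] 2 [14,14,15,15] (.fuse [4,5,5,7,7,8,8,9,10,10,12,12,13,14,15,15] 2 [15] (.prune [0,0,0,0,0,0,0,0,0,0,0,0,0,0,1,0])))))))) (.fuse [0] 1 [11,14,14] (.split (.split (.fuse [0,4,4,5,6,6,7,8,8,9,9,10,13,14,15,15] 2 [12,12,13,13,14,14,15] (.fuse [4,7,7,10,10,11,12,14,14,15] 1 [14,14] (.fuse [9,11,11,13,14,15] 1 [14,14] (.fuse [5,8,8,9,9,12,12,13,13,14,15] 2 [15] (.fuse [3,6,6,7,7,10,10,11,13,13,15,15] 2 [] (.leaf 198)))))) (.fuse [0,4,4,5,6,6,7,8,8,9,9,10,13,14,15,15] 1 [12,13,14] (.fuse [4,7,7,10,10,11,12,14,14,15] 2 [15] (.fuse [4,5,7,9,9,10,11,12,13,13,14,14,15,15] 2 [15] (.fuse [4,7,8,10,11,12,13,13,14,14,15] 1 [] (.prune [0,0,0,0,0,0,0,0,0,0,0,0,0,0,2,0]))))) (.split (.fuse [5,7,7,9,9,10,10,12,13] 1 [13,15,15] (.fuse [5,8,8,9,9,12,13,14,14,15]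 1 [14,14,15] (.fuse [4,7,7,10,10,11,12,14,14,15] 1 [15,15] (.prune [0,0,0,0,0,0,0,0,0,0,0,0,0,0,1,0])))) (.fuse [5,7,7,9,9,10,10,12,13] 1 [13,14] (.fuse [5,8,8,9,9,12,13,14,14,15] 1 [15] (.fuse [0,4,4,5,6,6,7,8,8,9,9,10,13,14,15,15] 2 [15] (.prune [0,0,0,0,0,0,0,0,0,0,0,0,0,0,1,0])))) (.fuse [5,7,7,9,9,10,10,12,13] 1 [13,14,14,15] (.fuse [5,8,8,9,9,12,13,14,14,15] 1 [14,15] (.fuse [0,4,4,5,6,6,7,8,8,9,9,10,13,14,15,15] 1 [] (.prune [0,0,0,0,0,0,0,0,0,0,0,0,0,0,1,0])))))) (.split (.fuse [0,4,4,5,6,6,7,8,8,9,9,10,13,14,15,15] 2 [14,14,15] (.fuse [4,7,7,10,10,11,12,14,14,15] 1 [13,13,15] (.fuse [7,8,8,11,11,13,13,14,14] 1 [15] (.fuse [7,8,8,9,9,13,14,15,15] 1 [15] (.fuse [0,3,4,4,5,6,9,9,11,11,12,12,13,14,14,15] 2 [] (.leaf 199)))))) (.fuse [0,4,4,5,6,6,7,8,8,9,9,10,13,14,15,15]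 1 [12,12,13,13,14] (.fuse [0,3,3,4,4,5,7,7,8,8,9,9,10,10,11,11,12,13,14,14,15] 2 [13,13,14,14,15] (.fuse [5,9,9,11,11,12,12,14,15] 2 [14,15,15] (.fuse [0,3,3,4,5,8,8,9,9,11,15] 1 [15,15] (.prune [0,0,0,0,0,0,0,0,0,0,0,0,0,0,2,0]))))) (.fuse [3,6,6,7,7,10,10,11,13,13,15,15] 1 [14,14] (.fuse [0,4,4,5,6,6,7,8,8,9,9,10,13,14,15,15] 1 [13,15,15] (.fuse [0,4,4,6,6,7,7,8,8,10,10,12,13,14,14,15,15] 1 [14,14,15,15] (.fuse [4,5,7,7,8,9,9,10,10,11,11,13] 1 [15,15] (.prune [0,0,0,0,0,0,0,0,0,0,0,0,0,0,1,0])))))) (.split (.fuse [0,4,4,5,6,6,7,8,8,9,9,10,13,14,15,15] 2 [12,13,14,14,15] (.fuse [0,3,3,4,4,5,7,7,8,8,9,9,10,10,11,11,12,13,14,14,15] 1 [13,14] (.fuse [7,8,11,13,13,14,15] 2 [14,14,15,15] (.fuse [5,8,9,9,11,13,15] 1 [15] (.fuse [0,3,3,4,5,8,8,9,9,11,15] 1 [] (.leaf 200))))))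 (.fuse [0,4,4,5,6,6,7,8,8,9,9,10,13,14,15,15] 1 [14] (.fuse [4,7,7,10,10,11,12,14,14,15] 2 [13,14,14] (.fuse [4,5,7,9,9,10,11,12,13,13,14,14,15,15] 1 [14,15,15] (.fuse [4,5,5,7,8,8,9,10,11,12,14,15] 2 [] (.prune [0,0,0,0,0,0,0,0,0,0,0,0,0,0,2,0]))))) (.fuse [3,6,6,7,7,10,10,11,13,13,15,15] 2 [14] (.fuse [0,4,4,5,6,6,7,8,8,9,9,10,13,14,15,15] 2 [13,13,15,15] (.fuse [0,4,4,5,5,6,6,9,11,11,12,15,15] 1 [14,14,15,15] (.fuse [0,4,5,5,6,6,7,8,8,9,10,11,11,12,12,14,14,15] 2 [15] (.prune [0,0,0,0,0,0,0,0,0,0,0,0,0,0,1,0])))))))))))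

theorem cert5_ok : certOK leafVecs cert5 [0,0,0,0,1] = true := by decide +kernel

def cert6 : Cert := (.fuse [2] 2 [6,6,7,7,8,9,10,10,12,12,14,14] (.fuse [1] 2 [8,11,11,13] (.split (.fuse [4,5,5,6,7,7,9,10,10,11,12,12,13,14,14,15] 2 [11,12,12,13,13,14,15,15] (.split (.split (.split (.fuse [4,7,7,8,10,10,12,14,15,15] 2 [] (.split (.fuse [4,5,5,8,8,9,11,11,12,13] 2 [] (.split (.leaf 201) (.leaf 202) (.leaf 203))) (.fuse [0] 1 [] (.fuse [3,6,6,7,7,10,10,11,13,13,15,15] 2 [] (.leaf 204))) (.fuse [0] 2 [] (.fuse [3,6,6,7,7,10,10,11,13,13,15,15] 1 [] (.leaf 205))))) (.fuse [4,7,7,8,10,10,12,14,15,15] 2 [15] (.split (.fuse [0] 1 [] (.fuse [3,6,6,7,7,10,10,11,13,13,15,15] 2 [] (.leaf 206))) (.fuse [0] 2 [] (.fuse [3,6,6,7,7,10,10,11,13,13,15,15] 1 [] (.leaf 207))) (.fuse [4,5,5,8,8,9,11,11,12,13]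 1 [] (.fuse [7,8,8,11,11,13,13,14,14] 2 [] (.leaf 208))))) (.fuse [4,7,7,8,10,10,12,14,15,15] 2 [15,15] (.split (.fuse [0] 2 [] (.fuse [3,6,6,7,7,10,10,11,13,13,15,15] 1 [] (.leaf 209))) (.fuse [5,8,9,9,11,12,13,15,15] 1 [] (.fuse [7,8,8,11,11,13,13,14,14] 1 [] (.leaf 210))) (.fuse [0] 1 [] (.fuse [3,6,6,7,7,10,10,11,13,13,15,15] 2 [] (.leaf 211)))))) (.fuse [0] 2 [15] (.fuse [5,7,7,8,8,9,9,10,10,11,14,14] 2 [13,13,15] (.fuse [5,8,9,9,11,14] 2 [14,14,15,15] (.fuse [4,7,7,8,10,10,12,14,15,15] 1 [15,15] (.prune [0,0,0,0,0,0,0,0,0,0,0,0,0,0,2,0]))))) (.fuse [0] 1 [15,15] (.fuse [4,7,7,8,10,10,12,14,15,15] 1 [14,14,15] (.fuse [4,5,7,9,9,10,11,13,14,14,15,15] 1 [14,14] (.fuse [12,13,14,15,15] 2 [] (.prune [0,0,0,0,0,0,0,0,0,0,0,0,0,0,1,0])))))) (.split (.fuse [3,6,6,7,7,10,10,11,13,13,15,15]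 1 [14,14] (.fuse [4,7,7,8,10,10,12,14,15,15] 2 [13,13,15] (.fuse [7,8,8,11,11,13,13,14,14] 1 [15,15] (.fuse [5,8,9,9,11,12,13,15,15] 1 [] (.split (.leaf 212) (.leaf 213) (.leaf 214)))))) (.fuse [0] 2 [15] (.fuse [5,7,7,8,8,9,9,10,10,11,14,14] 2 [13,14,14,15,15] (.fuse [4,7,7,8,10,10,12,14,15,15] 2 [14] (.fuse [5,7,9,9,13,15] 1 [15,15] (.prune [0,0,0,0,0,0,0,0,0,0,0,0,0,0,2,0]))))) (.fuse [0] 1 [15,15] (.fuse [4,7,7,8,10,10,12,14,15,15] 1 [13,13,14,14,15,15] (.fuse [4,5,7,9,9,10,11,13,14,14,15,15] 2 [14,15,15] (.fuse [0,3,3,6,7,10,11,11,13,15] 1 [15] (.prune [0,0,0,0,0,0,0,0,0,0,0,0,0,0,1,0])))))) (.split (.fuse [3,6,6,7,7,10,10,11,13,13,15,15] 2 [14] (.fuse [4,7,7,8,10,10,12,14,15,15] 2 [13,15,15] (.fuse [7,8,8,11,11,13,13,14,14] 2 [15] (.fuse [4,5,5,8,8,9,11,11,12,13]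 1 [] (.split (.leaf 215) (.leaf 216) (.leaf 217)))))) (.fuse [0] 2 [15] (.fuse [5,7,7,8,8,9,9,10,10,11,14,14] 2 [14] (.fuse [4,7,7,8,10,10,12,14,15,15] 1 [14,15] (.fuse [0,3,3,6,7,10,11,11,13,15] 2 [15,15] (.prune [0,0,0,0,0,0,0,0,0,0,0,0,0,0,2,0]))))) (.fuse [0] 1 [15,15] (.fuse [4,7,7,8,10,10,12,14,15,15] 1 [13,14,14] (.fuse [5,8,9,9,11,12,12,13,15,15] 1 [15] (.fuse [8,11,11,14,15] 1 [15,15] (.prune [0,0,0,0,0,0,0,0,0,0,0,0,0,0,1,0])))))))) (.fuse [0] 2 [11,11,14,15,15] (.split (.split (.fuse [0,4,4,5,6,6,7,8,8,9,9,10,13,14,15,15] 1 [12,13,14,14,15] (.fuse [4,7,7,10,10,11,12,14,14,15] 2 [] (.fuse [9,11,11,13,14,15] 2 [14] (.fuse [5,8,8,9,9,12,12,13,13,14,15] 1 [15,15] (.fuse [3,6,6,7,7,10,10,11,13,13,15,15] 1 [] (.leaf 218)))))) (.split (.fuse [5,7,7,9,9,10,10,12,13]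 2 [13,13,14,14,15] (.fuse [5,8,8,9,9,12,13,14,14,15] 2 [14,15,15] (.fuse [0,4,4,5,6,6,7,8,8,9,9,10,13,14,15,15] 1 [] (.prune [0,0,0,0,0,0,0,0,0,0,0,0,0,0,2,0])))) (.fuse [5,7,7,9,9,10,10,12,13] 2 [13,13,15,15] (.fuse [5,8,8,9,9,12,13,14,14,15] 2 [14,14,15,15] (.fuse [4,7,7,10,10,11,12,14,14,15] 1 [15,15] (.prune [0,0,0,0,0,0,0,0,0,0,0,0,0,0,2,0])))) (.fuse [5,7,7,9,9,10,10,12,13] 2 [13,13,14] (.fuse [5,8,8,9,9,12,13,14,14,15] 2 [15,15] (.fuse [0,4,4,5,6,6,7,8,8,9,9,10,13,14,15,15] 2 [15] (.prune [0,0,0,0,0,0,0,0,0,0,0,0,0,0,2,0]))))) (.fuse [0,4,4,5,6,6,7,8,8,9,9,10,13,14,15,15] 2 [12,12,13,13,15,15] (.fuse [4,7,7,10,10,11,12,14,14,15] 1 [14,14,15,15] (.fuse [4,5,7,9,9,10,11,12,13,13,14,14,15,15] 1 [14,15,15] (.fuse [5,8,8,11,11,13,15] 2 [15,15] (.prune [0,0,0,0,0,0,0,0,0,0,0,0,0,0,1,0]))))))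 (.split (.fuse [0,4,4,5,6,6,7,8,8,9,9,10,13,14,15,15] 1 [12,12,13,13,14,14,15] (.fuse [0,3,3,4,4,5,7,7,8,8,9,9,10,10,11,11,12,13,14,14,15] 2 [13,13,15,15] (.fuse [7,8,11,13,13,14,15] 1 [14,15] (.fuse [0,3,3,4,5,8,8,9,9,11,15] 2 [15] (.fuse [0,3,3,4,8,13,13,15] 2 [] (.leaf 219)))))) (.fuse [3,6,6,7,7,10,10,11,13,13,15,15] 1 [14,14] (.fuse [0,4,4,5,6,6,7,8,8,9,9,10,13,14,15,15] 1 [13,14] (.fuse [0,4,4,5,5,6,6,9,11,11,12,15,15] 2 [14] (.fuse [0,4,5,5,6,6,7,8,8,9,10,11,11,12,12,14,14,15] 2 [15] (.prune [0,0,0,0,0,0,0,0,0,0,0,0,0,0,2,0]))))) (.fuse [0,4,4,5,6,6,7,8,8,9,9,10,13,14,15,15] 2 [15,15] (.fuse [4,7,7,10,10,11,12,14,14,15] 1 [13,13] (.fuse [4,5,7,9,9,10,11,12,13,13,14,14,15,15] 2 [15] (.fuse [0,3,4,4,5,6,9,9,11,11,12,12,13,14,14,15] 1 [] (.prune [0,0,0,0,0,0,0,0,0,0,0,0,0,0,1,0]))))))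 (.split (.fuse [0,4,4,5,6,6,7,8,8,9,9,10,13,14,15,15] 1 [14,14,15] (.fuse [4,7,7,10,10,11,12,14,14,15] 2 [13,14,14,15,15] (.fuse [7,8,8,11,11,13,13,14,14] 2 [15,15] (.fuse [0,3,4,4,5,6,9,9,11,11,12,12,13,14,14,15] 1 [] (.fuse [0,3,4,4,5,6,7,8,9,12,14,15] 2 [] (.leaf 220)))))) (.fuse [3,6,6,7,7,10,10,11,13,13,15,15] 2 [14] (.fuse [0,4,4,5,6,6,7,8,8,9,9,10,13,14,15,15] 2 [13,13,14] (.fuse [0,4,4,6,6,7,7,8,8,10,10,12,13,14,14,15,15] 2 [] (.fuse [0,6,6,7,10,13,14,15] 1 [] (.prune [0,0,0,0,0,0,0,0,0,0,0,0,0,0,2,0]))))) (.fuse [0,4,4,5,6,6,7,8,8,9,9,10,13,14,15,15] 2 [12,13,15,15] (.fuse [0,3,3,4,4,5,7,7,8,8,9,9,10,10,11,11,12,13,14,14,15] 1 [13,14,14,15] (.fuse [5,9,9,11,11,12,12,14,15] 1 [14,14,15] (.fuse [0,3,3,4,5,8,8,9,9,11,15] 1 [] (.prune [0,0,0,0,0,0,0,0,0,0,0,0,0,0,1,0]))))))))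 (.fuse [0] 1 [11,14,14] (.split (.split (.fuse [0,4,5,5,6,7,7,8,9,10,10,12,12,13] 2 [12,12,13,13,15,15] (.fuse [4,7,7,10,10,11,12,14] 2 [] (.fuse [9,11,11,13,14,15] 1 [14,14] (.fuse [5,8,8,9,9,12,12,13,13,14,15] 1 [15] (.fuse [3,6,6,7,7,10,10,11,13,13,15,15] 2 [] (.leaf 221)))))) (.fuse [0,4,5,5,6,7,7,8,9,10,10,12,12,13] 1 [15] (.fuse [5,7,7,9,9,10,10,12,13] 2 [13,13,14,14] (.fuse [5,8,8,9,9,12,13,14,14,15] 2 [14,15] (.fuse [4,7,7,10,10,11,12,14] 1 [15] (.prune [0,0,0,0,0,0,0,0,0,0,0,0,0,0,2,0]))))) (.split (.fuse [0,4,5,5,6,7,7,8,9,10,10,12,12,13] 1 [13] (.fuse [0,5,5,6,8,8,9,11,12,14,14,15,15] 1 [14,15] (.fuse [0,4,4,5,6,7,7,8,8,9,9,10,10,13,13,14,15,15] 2 [15] (.prune [0,0,0,0,0,0,0,0,0,0,0,0,0,0,1,0])))) (.fuse [0,4,5,5,6,7,7,8,9,10,10,12,12,13] 1 [13,15] (.fuse [0,5,5,6,8,8,9,11,12,14,14,15,15]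 1 [14,15] (.fuse [0,4,4,5,6,7,7,8,8,9,9,10,10,13,13,14,15,15] 1 [15,15] (.prune [0,0,0,0,0,0,0,0,0,0,0,0,0,0,1,0])))) (.fuse [0,4,5,5,6,7,7,8,9,10,10,12,12,13] 1 [13,15,15] (.fuse [0,5,5,6,8,8,9,11,12,14,14,15,15] 1 [14,15] (.fuse [5,9,12,12,13,13,14,15,15] 2 [] (.prune [0,0,0,0,0,0,0,0,0,0,0,0,0,0,1,0])))))) (.split (.fuse [0,4,5,5,6,7,7,8,9,10,10,12,12,13] 2 [12,13,15] (.fuse [0,3,4,5,5,7,8,9,10,13,13,14,14] 1 [13,14,14,15] (.fuse [7,13,13,14,14,15,15] 1 [14,14,15,15] (.fuse [8,11,15] 2 [15] (.fuse [0,3,4,4,5,5,9,11,11,12,12,13,14,14,15,15] 2 [] (.leaf 222)))))) (.fuse [0,4,5,5,6,7,7,8,9,10,10,12,12,13] 1 [12,12,13,13] (.fuse [0,3,3,4,5,5,6,6,8,9,11,11,12,14,14,15,15] 2 [13,13,14,15] (.fuse [0,3,3,4,5,6,6,7,8,9,9,10,11,11,12,12,14] 1 [14] (.fuse [0,3,3,4,4,5,6,6,8,9,9,13,14]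 2 [15] (.prune [0,0,0,0,0,0,0,0,0,0,0,0,0,0,2,0]))))) (.fuse [3,6,6,7,7,10,10,11,13,13,15,15] 1 [14,14] (.fuse [4,7,7,10,10,11,12,14] 1 [13,13] (.fuse [4,5,7,9,9,10,11,12,13,13,14,15] 2 [] (.fuse [4,5,5,7,8,8,9,10,11,12] 2 [15] (.prune [0,0,0,0,0,0,0,0,0,0,0,0,0,0,1,0])))))) (.split (.fuse [0,4,5,5,6,7,7,8,9,10,10,12,12,13] 2 [] (.fuse [4,7,7,10,10,11,12,14] 2 [13,14,14,15,15] (.fuse [7,8,8,11,11,13,13,14,14] 2 [] (.fuse [0,3,3,4,5,5,6,6,8,9,11,11,12,14,14,15,15] 2 [15] (.fuse [0,3,3,4,5,5,6,6,7,7,8,8,11,12,13,13,15] 1 [] (.leaf 223)))))) (.fuse [0,4,5,5,6,7,7,8,9,10,10,12,12,13] 1 [12,13,15,15] (.fuse [0,3,4,5,5,7,8,9,10,13,13,14,14] 1 [13,14,15,15] (.fuse [0,3,4,11,12,12,13,14,14] 1 [] (.fuse [4,5,7,7,8,9,9,10,10,11,11,13,15] 1 [] (.prune [0,0,0,0,0,0,0,0,0,0,0,0,0,0,2,0])))))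 (.fuse [3,6,6,7,7,10,10,11,13,13,15,15] 2 [14] (.fuse [0,4,5,5,6,7,7,8,9,10,10,12,12,13] 2 [13,13,15] (.fuse [5,8,9,9,11,12,12,14,14] 1 [15,15] (.fuse [0,4,4,5,5,6,7,8,8,9,10,12,12,13,13,14,14] 1 [] (.prune [0,0,0,0,0,0,0,0,0,0,0,0,0,0,1,0])))))))))))

theorem cert6_ok : certOK leafVecs cert6 [0,0,0,0,2] = true := by decide +kernel


end H49.Order3.Fi24
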