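/-
Generated data: part of the certificate tree, with its check.
-/
import Cfsg.Agent.H49.Order3.Fi24.CertDef
import Cfsg.Agent.H49.Order3.Fi24.Data.Leaves

set_option autoImplicit false
set_option maxRecDepth 100000
set_option linter.all false
set_option Elab.async false

namespace H49.Order3.Fi24

def cert45 : Cert := (.split (.fuse [0] 1 [5,5,8,8,9,12,13,14,15] (.fuse [4,5,5,6,7,9,10,11,14,14] 2 [7,7,9,10,10,11,12,12,13,13,14,15] (.fuse [0,1,3,3,6,7,10,11,11,13,15] 1 [7,8,8,10,13,13,15] (.fuse [0,1,2,2,3,3,7,8,10,11,14,14,15] 2 [10,10,11,13,13,14] (.split (.split (.split (.split (.fuse [0,1,2,2,3,3,5,5,6,6,7,7,8,9,10,10,12,12,13,13,15] 2 [13,13] (.fuse [0,1,2,5,5,6,9,11,11,14] 1 [15] (.prune [0,0,0,0,0,0,0,0,0,0,0,0,0,1,2,2]))) (.fuse [0,1,2,2,3,3,5,5,6,6,7,7,8,9,10,10,12,12,13,13,15]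 1 [14,14,15,15] (.fuse [0,1,2,2,3,3,6,6,8,8,11,13,14,14,15] 2 [14,15,15] (.fuse [8,9,11,12,14,14,15,15] 2 [15] (.fuse [0,1,2,6,8,11,14,14,15] 2 [] (.leaf 792))))) (.fuse [2,3,3,6,7,7,8,10,10,11,12,13,13,14] 1 [14,14] (.fuse [0,1,2,2,3,3,5,5,6,6,7,7,8,9,10,10,12,12,13,13,15] 1 [14,15] (.prune [0,0,0,0,0,0,0,0,0,0,0,0,0,2,1,1])))) (.split (.fuse [0,1,2,2,3,3,5,5,6,6,7,7,8,9,10,10,12,12,13,13,15] 1 [14,14] (.fuse [0,1,2,2,3,3,6,6,8,8,11,13,14,14,15] 1 [14,14,15,15] (.fuse [8,9,11,12,14,14,15,15] 2 [15,15] (.fuse [2,3,3,6,7,7,8,10,10,11,12,13,13,14] 2 [] (.leaf 793))))) (.fuse [2,3,3,6,7,7,8,10,10,11,12,13,13,14] 1 [13,14,15,15] (.fuse [0,1,2,2,3,3,5,5,6,6,7,7,8,9,10,10,12,12,13,13,15] 1 [14,15,15] (.prune [0,0,0,0,0,0,0,0,0,0,0,0,0,2,1,1]))) (.fuse [0,1,2,2,3,3,5,5,6,6,7,7,8,9,10,10,12,12,13,13,15]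 2 [13,13,15] (.fuse [5,7,9,9,10,11,11,12,12,13,13,14,15,15] 1 [14] (.prune [0,0,0,0,0,0,0,0,0,0,0,0,0,1,2,2])))) (.split (.fuse [2,3,3,6,7,7,8,10,10,11,12,13,13,14] 1 [13,13,15] (.fuse [0,1,2,2,3,3,5,5,6,6,7,7,8,9,10,10,12,12,13,13,15] 1 [14] (.prune [0,0,0,0,0,0,0,0,0,0,0,0,0,2,1,1]))) (.fuse [0,1,2,2,3,3,5,5,6,6,7,7,8,9,10,10,12,12,13,13,15] 2 [13,13,15,15] (.fuse [0,1,2,5,5,6,9,11,11,14] 2 [14,14,15,15] (.prune [0,0,0,0,0,0,0,0,0,0,0,0,0,1,2,2]))) (.fuse [0,1,2,2,3,3,5,5,6,6,7,7,8,9,10,10,12,12,13,13,15] 1 [14,14,15] (.fuse [2,3,3,6,7,7,8,10,10,11,12,13,13,14] 1 [14,14,15] (.fuse [8,9,11,12,14,14,15,15] 2 [] (.fuse [0,1,2,2,3,3,6,6,8,8,11,13,14,14,15] 2 [] (.leaf 794))))))) (.fuse [2,3,3,6,7,7,8,10,10,11,12,13,13,14] 1 [11,11,13,13,14,15] (.split (.fuse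 [0,1,2,2,3,3,5,5,6,6,7,7,8,9,10,10,12,12,13,13,15] 2 [13,13,14,14] (.fuse [0,1,2,2,3,3,5,6,6,7,9,9,10,11,11,13,14,15] 1 [14,15] (.prune [0,0,0,0,0,0,0,0,0,0,0,0,0,1,2,2]))) (.fuse [0,1,2,2,3,3,5,5,6,6,7,7,8,9,10,10,12,12,13,13,15] 1 [14,15,15] (.fuse [7,10,11,11,12,12,13,14,14,15,15] 2 [14,15] (.fuse [0,1,2,2,3,3,6,6,8,8,11,13,14,14,15] 1 [15] (.fuse [0,1,2,2,3,3,6,6,7,8,8,9,10,12,13,13,14,15,15] 1 [] (.leaf 795))))) (.fuse [5,7,8,9,9,10,11,12,13,14,15] 2 [13] (.fuse [0,1,2,2,3,3,5,5,6,6,7,7,8,9,10,10,12,12,13,13,15] 1 [15] (.prune [0,0,0,0,0,0,0,0,0,0,0,0,0,2,1,1]))))) (.fuse [2,3,3,6,7,7,8,10,10,11,12,13,13,14] 2 [11,12,14,14,15,15] (.split (.fuse [0,1,2,2,3,3,5,5,6,6,7,7,8,9,10,10,12,12,13,13,15] 2 [13,13,14] (.fuse [5,7,9,9,10,11,11,12,12,13,13,14,15]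 1 [14] (.prune [0,0,0,0,0,0,0,0,0,0,0,0,0,1,2,2]))) (.fuse [0,1,2,2,3,3,5,5,6,6,7,7,8,9,10,10,12,12,13,13,15] 1 [15,15] (.fuse [0,1,2,2,3,3,6,6,8,8,11,13,14,14,15] 1 [14] (.fuse [0,1,2,2,3,3,5,5,6,6,7,7,8,8,9,10,10,11,11,13,13,14,15] 2 [15] (.fuse [0,1,2,2,3,3,6,6,8,8,9,9,11,12,14] 1 [] (.leaf 796))))) (.fuse [5,7,8,9,9,10,11,12,13,14,15] 2 [13,13,14,15,15] (.fuse [0,1,2,2,3,3,5,5,6,6,7,7,8,9,10,10,12,12,13,13,15] 1 [14,14,15] (.prune [0,0,0,0,0,0,0,0,0,0,0,0,0,2,1,1])))))) (.split (.split (.split (.fuse [2,3,3,6,7,7,8,10,10,11,12,13,13,14] 1 [14,14,15] (.fuse [0,1,2,2,3,3,5,5,6,6,7,7,8,9,10,10,12,12,13,13,15] 1 [14,15,15] (.prune [0,0,0,0,0,0,0,0,0,0,0,0,0,2,1,1]))) (.fuse [0,1,2,2,3,3,5,5,6,6,7,7,8,9,10,10,12,12,13,13,15] 2 [13,13,15] (.fuse [0,1,2,5,5,6,9,11,11,14]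 1 [15] (.prune [0,0,0,0,0,0,0,0,0,0,0,0,0,1,2,2]))) (.fuse [0,1,2,2,3,3,5,5,6,6,7,7,8,9,10,10,12,12,13,13,15] 1 [14,14] (.fuse [0,1,2,2,3,3,6,6,8,8,11,13,14,14,15] 2 [14] (.split (.fuse [0,1,2,6,8,11,14,14,15] 2 [] (.leaf 797)) (.fuse [2,3,3,5,5,6,8,9,12,12,13,14,14] 2 [] (.leaf 798)) (.fuse [0,1,2,6,8,11,14,14,15] 1 [] (.leaf 799)))))) (.split (.fuse [0,1,2,2,3,3,5,5,6,6,7,7,8,9,10,10,12,12,13,13,15] 2 [13,13,15,15] (.fuse [5,7,9,9,10,11,11,12,12,13,13,14,15,15] 1 [14] (.prune [0,0,0,0,0,0,0,0,0,0,0,0,0,1,2,2]))) (.fuse [0,1,2,2,3,3,5,5,6,6,7,7,8,9,10,10,12,12,13,13,15] 1 [14,14,15] (.fuse [0,1,2,2,3,3,6,6,8,8,11,13,14,14,15] 1 [14,14] (.split (.fuse [0,1,2,2,3,3,5,5,6,6,7,7,8,8,9,10,10,11,11,13,13,14,15] 1 [] (.leaf 800)) (.fuse [0,1,2,2,3,3,5,5,6,6,7,7,8,8,9,10,10,11,11,13,13,14,15]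 1 [] (.leaf 801)) (.fuse [0,1,2,2,3,3,5,5,6,6,7,7,8,8,9,10,10,11,11,13,13,14,15] 1 [] (.leaf 802))))) (.fuse [2,3,3,6,7,7,8,10,10,11,12,13,13,14] 1 [13,14] (.fuse [0,1,2,2,3,3,5,5,6,6,7,7,8,9,10,10,12,12,13,13,15] 1 [14] (.prune [0,0,0,0,0,0,0,0,0,0,0,0,0,2,1,1])))) (.split (.fuse [0,1,2,2,3,3,5,5,6,6,7,7,8,9,10,10,12,12,13,13,15] 1 [14,14,15,15] (.fuse [2,3,3,6,7,7,8,10,10,11,12,13,13,14] 1 [14,14,15,15] (.split (.split (.leaf 803) (.leaf 804) (.leaf 805)) (.fuse [2,3,3,6,7,8,10,11,11,12,12] 2 [] (.leaf 806)) (.fuse [2,3,3,6,7,8,10,11,11,12,12] 1 [] (.leaf 807))))) (.fuse [2,3,3,6,7,7,8,10,10,11,12,13,13,14] 1 [13,13,15,15] (.fuse [0,1,2,2,3,3,5,5,6,6,7,7,8,9,10,10,12,12,13,13,15] 1 [14,15] (.prune [0,0,0,0,0,0,0,0,0,0,0,0,0,2,1,1]))) (.fuse [0,1,2,2,3,3,5,5,6,6,7,7,8,9,10,10,12,12,13,13,15]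 2 [13,13] (.fuse [0,1,2,5,5,6,9,11,11,14] 2 [14,14,15,15] (.prune [0,0,0,0,0,0,0,0,0,0,0,0,0,1,2,2]))))) (.fuse [2,3,3,6,7,7,8,10,10,11,12,13,13,14] 1 [11,11,12,12,13,15,15] (.split (.fuse [5,7,8,9,9,10,11,12,13,14,15] 2 [13] (.fuse [0,1,2,2,3,3,5,5,6,6,7,7,8,9,10,10,12,12,13,13,15] 1 [15,15] (.prune [0,0,0,0,0,0,0,0,0,0,0,0,0,2,1,1]))) (.fuse [0,1,2,2,3,3,5,5,6,6,7,7,8,9,10,10,12,12,13,13,15] 2 [13,13,14,14,15] (.fuse [0,1,2,2,3,3,5,6,6,7,9,9,10,11,11,13,14,15] 1 [14,15,15] (.prune [0,0,0,0,0,0,0,0,0,0,0,0,0,1,2,2]))) (.fuse [0,1,2,2,3,3,5,5,6,6,7,7,8,9,10,10,12,12,13,13,15] 1 [14] (.fuse [7,10,11,11,12,12,13,14,14,15,15] 2 [14,15] (.fuse [0,1,2,2,3,3,6,6,8,8,11,13,14,14,15] 1 [15,15] (.split (.leaf 808) (.leaf 809) (.leaf 810))))))) (.fuse [2,3,3,6,7,7,8,10,10,11,12,13,13,14]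 2 [11,13,13,14] (.split (.fuse [5,7,8,9,9,10,11,12,13,14,15] 2 [13,13,14,15,15] (.fuse [0,1,2,2,3,3,5,5,6,6,7,7,8,9,10,10,12,12,13,13,15] 1 [14,14,15,15] (.prune [0,0,0,0,0,0,0,0,0,0,0,0,0,2,1,1]))) (.fuse [0,1,2,2,3,3,5,5,6,6,7,7,8,9,10,10,12,12,13,13,15] 2 [13,13,14,15] (.fuse [5,7,9,9,10,11,11,12,12,13,13,14,15] 1 [14] (.prune [0,0,0,0,0,0,0,0,0,0,0,0,0,1,2,2]))) (.fuse [0,1,2,2,3,3,5,5,6,6,7,7,8,9,10,10,12,12,13,13,15] 1 [] (.fuse [0,1,2,2,3,3,6,6,8,8,11,13,14,14,15] 1 [14,15] (.fuse [0,1,2,2,3,3,5,5,6,6,7,7,8,8,9,10,10,11,11,13,13,14,15] 2 [15,15] (.split (.leaf 811) (.leaf 812) (.leaf 813)))))))) (.split (.split (.split (.fuse [0,1,2,2,3,3,5,5,6,6,7,7,8,9,10,10,12,12,13,13,15] 1 [14,14,15] (.fuse [0,1,2,2,3,3,6,6,8,8,11,13,14,14,15] 2 [14,15] (.fuse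 [8,9,11,12,14,14,15,15] 1 [15] (.fuse [0,1,2,6,8,11,14,14,15] 2 [] (.leaf 814))))) (.fuse [2,3,3,6,7,7,8,10,10,11,12,13,13,14] 1 [14,14,15,15] (.fuse [0,1,2,2,3,3,5,5,6,6,7,7,8,9,10,10,12,12,13,13,15] 1 [14] (.prune [0,0,0,0,0,0,0,0,0,0,0,0,0,2,1,1]))) (.fuse [0,1,2,2,3,3,5,5,6,6,7,7,8,9,10,10,12,12,13,13,15] 2 [13,13,15,15] (.fuse [0,1,2,5,5,6,9,11,11,14] 1 [15] (.prune [0,0,0,0,0,0,0,0,0,0,0,0,0,1,2,2])))) (.split (.fuse [2,3,3,6,7,7,8,10,10,11,12,13,13,14] 1 [13,14,15] (.fuse [0,1,2,2,3,3,5,5,6,6,7,7,8,9,10,10,12,12,13,13,15] 1 [14,15] (.prune [0,0,0,0,0,0,0,0,0,0,0,0,0,2,1,1]))) (.fuse [0,1,2,2,3,3,5,5,6,6,7,7,8,9,10,10,12,12,13,13,15] 2 [13,13] (.fuse [5,7,9,9,10,11,11,12,12,13,13,14,15,15] 1 [14] (.prune [0,0,0,0,0,0,0,0,0,0,0,0,0,1,2,2]))) (.fuse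 [0,1,2,2,3,3,5,5,6,6,7,7,8,9,10,10,12,12,13,13,15] 1 [14,14,15,15] (.fuse [0,1,2,2,3,3,6,6,8,8,11,13,14,14,15] 1 [14,14,15] (.fuse [8,9,11,12,14,14,15,15] 1 [15,15] (.fuse [0,1,2,2,3,3,5,5,6,6,7,7,8,8,9,10,10,11,11,13,13,14,15] 2 [] (.leaf 815)))))) (.split (.fuse [0,1,2,2,3,3,5,5,6,6,7,7,8,9,10,10,12,12,13,13,15] 2 [13,13,15] (.fuse [0,1,2,5,5,6,9,11,11,14] 2 [14,14,15,15] (.prune [0,0,0,0,0,0,0,0,0,0,0,0,0,1,2,2]))) (.fuse [0,1,2,2,3,3,5,5,6,6,7,7,8,9,10,10,12,12,13,13,15] 1 [14,14] (.fuse [2,3,3,6,7,7,8,10,10,11,12,13,13,14] 1 [14,14] (.fuse [8,9,11,12,14,14,15,15] 1 [] (.fuse [0,1,2,2,3,3,6,6,8,8,11,13,14,14,15] 1 [] (.leaf 816))))) (.fuse [2,3,3,6,7,7,8,10,10,11,12,13,13,14] 1 [13,13] (.fuse [0,1,2,2,3,3,5,5,6,6,7,7,8,9,10,10,12,12,13,13,15] 1 [14,15,15]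 (.prune [0,0,0,0,0,0,0,0,0,0,0,0,0,2,1,1]))))) (.fuse [2,3,3,6,7,7,8,10,10,11,12,13,13,14] 1 [11,11,12,14,14] (.split (.fuse [0,1,2,2,3,3,5,5,6,6,7,7,8,9,10,10,12,12,13,13,15] 1 [14,15] (.fuse [7,10,11,11,12,12,13,14,14,15,15] 2 [14,15] (.fuse [0,1,2,2,3,3,6,6,8,8,11,13,14,14,15] 1 [] (.fuse [7,12,12,13,13,14,15] 1 [] (.leaf 817))))) (.fuse [5,7,8,9,9,10,11,12,13,14,15] 2 [13] (.fuse [0,1,2,2,3,3,5,5,6,6,7,7,8,9,10,10,12,12,13,13,15] 1 [] (.prune [0,0,0,0,0,0,0,0,0,0,0,0,0,2,1,1]))) (.fuse [0,1,2,2,3,3,5,5,6,6,7,7,8,9,10,10,12,12,13,13,15] 2 [13,13,14,14,15,15] (.fuse [0,1,2,2,3,3,5,6,6,7,9,9,10,11,11,13,14,15] 1 [14] (.prune [0,0,0,0,0,0,0,0,0,0,0,0,0,1,2,2]))))) (.fuse [2,3,3,6,7,7,8,10,10,11,12,13,13,14] 2 [11,12,12,13,15] (.split (.fuse [0,1,2,2,3,3,5,5,6,6,7,7,8,9,10,10,12,12,13,13,15]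 1 [15] (.fuse [0,1,2,2,3,3,6,6,8,8,11,13,14,14,15] 1 [14,15,15] (.fuse [0,1,2,2,3,3,5,5,6,6,7,7,8,8,9,10,10,11,11,13,13,14,15] 2 [] (.fuse [5,7,8,8,10,11,12,12,14,14] 2 [] (.leaf 818))))) (.fuse [5,7,8,9,9,10,11,12,13,14,15] 2 [13,13,14,15,15] (.fuse [0,1,2,2,3,3,5,5,6,6,7,7,8,9,10,10,12,12,13,13,15] 1 [14,14] (.prune [0,0,0,0,0,0,0,0,0,0,0,0,0,2,1,1]))) (.fuse [0,1,2,2,3,3,5,5,6,6,7,7,8,9,10,10,12,12,13,13,15] 2 [13,13,14,15,15] (.fuse [5,7,9,9,10,11,11,12,12,13,13,14,15] 1 [14] (.prune [0,0,0,0,0,0,0,0,0,0,0,0,0,1,2,2]))))))))))) (.fuse [0] 1 [5,5,9,11,12,13,14] (.fuse [4,5,5,6,7,9,10,11,14,14] 2 [7,7,8,8,9,10,10,11,11,13,14,15] (.fuse [0,1,3,3,6,7,10,11,11,13,15] 1 [7,8,8,10,13,13,15,15] (.fuse [0,1,3,6,6,7,7,8,10,10,11,13,13,15] 2 [10,10,11,12,12,13,13,14,14]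 (.prune [0,0,0,0,0,0,0,2,0,0,2,1,2,2,2,0]))))) (.fuse [0] 1 [5,5,8,9,11,11,12,13,14,15] (.fuse [4,5,5,6,7,9,10,11,14,14] 2 [7,7,8,9,10,10,12,14] (.fuse [0,1,3,3,6,7,10,11,11,13,15] 1 [7,8,8,10,13,13] (.fuse [0,1,2,3,3,7,8,10,11,12,12,13,14,14] 1 [10,11,11,13,14,14,15,15] (.prune [0,0,0,0,0,0,0,1,0,0,1,2,1,0,2,1]))))))

theorem cert45_ok : certOK leafVecs cert45 [2,2,1] = true := by decide +kernel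

def cert46 : Cert := (.fuse [0] 2 [4,4,5,5,9,11,11,12,13,13,14,14] (.split (.fuse [4,5,5,6,7,9,10,11,14,14] 1 [6,6,8,8,9,9,11,12,12,14,14,15,15] (.fuse [0,1,3,3,6,7,10,11,11,13,15] 2 [8,11,11,12,15,15] (.fuse [2,3,6,6,7,7,8,8,10,10,11,13,13] 2 [10,10,11,12,14,14] (.prune [0,0,0,0,0,0,0,2,0,0,2,1,2,2,2,0])))) (.fuse [2] 1 [6,6,7,8,8,9,9,10,12,12,13,13,14,14] (.fuse [3,6,6,7,7,8,8,10,10,11,13,13] 2 [7,7,8,8,10,10,11,11,12,12,14,15,15] (.fuse [2,4,4,5,6,6,8,8,9,9,11,11,12,13,13,14,14,15] 1 [8,10,11,12,12,13,14,15] (.split (.split (.fuse [9,11,11,13,14,15] 2 [14,14] (.split (.fuse [0,1,3,3,6,7,10,11,11,13,15] 1 [13,13,14,14] (.fuse [2,4,4,5,6,7,8,9,9,10,11,11,13,13,15,15] 2 [15] (.prune [0,0,0,0,0,0,0,0,0,0,0,0,0,2,2,0]))) (.fuse [0,1,3,3,6,7,10,11,11,13,15]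 1 [13,13,14,14,15] (.fuse [0,1,2,2,3,3,4,5,6,8,8,9,9,12,13,15,15] 2 [14,14,15] (.prune [0,0,0,0,0,0,0,0,0,0,0,0,0,1,1,0]))) (.fuse [0,1,3,3,6,7,10,11,11,13,15] 1 [13,13,14,14,15,15] (.fuse [7,8,10,11,12,13,14] 2 [14,14,15] (.fuse [0,1,2,3,3,4,4,5,8,9,9,12,12] 2 [15,15] (.fuse [0,1,2,3,3,4,4,5,5,6,7,8,9,10,11,11,12,13,14,15] 2 [] (.leaf 819))))))) (.fuse [0,1,3,3,6,7,10,11,11,13,15] 1 [12,13,13,15] (.split (.fuse [0,1,2,2,3,3,4,5,6,8,8,9,9,12,13,15,15] 2 [13,13,14,15,15] (.fuse [2,4,4,5,6,7,8,8,10,10,12,12,13,13,14,15,15] 2 [14,14] (.prune [0,0,0,0,0,0,0,0,0,0,0,0,0,1,1,0]))) (.fuse [0,1,2,2,3,3,4,5,6,8,8,9,9,12,13,15,15] 1 [15] (.fuse [0,1,2,2,3,3,4,5,6,8,9,9,11,12,14,14,15,15] 1 [14,14,15,15] (.fuse [0,1,2,2,3,3,4,7,8,8,10,11,11,13,13,14,14,15] 1 [15] (.fuse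 [0,1,2,2,3,3,4,7,10,14,14,15,15] 1 [] (.leaf 820))))) (.fuse [2,4,4,5,6,7,8,10,10,11,14,14] 1 [13,15] (.fuse [0,1,2,2,3,3,4,5,6,8,8,9,9,12,13,15,15] 1 [14,14] (.prune [0,0,0,0,0,0,0,0,0,0,0,0,0,2,2,0]))))) (.fuse [0,1,3,3,6,7,10,11,11,13,15] 2 [12,13,13,14,15,15] (.split (.fuse [2,4,4,5,6,7,7,8,8,9,10,10,11,13,13,14,14,15] 1 [13,14,14,15,15] (.fuse [2,4,4,5,5,6,6,11,11,12,12,13,13,14] 2 [14,14] (.fuse [0,1,2,2,3,3,4,5,6,8,8,9,9,12,13,15,15] 2 [15,15] (.fuse [7,8,10,11,12,12,13,14,14,15,15] 2 [] (.leaf 821))))) (.fuse [0,1,2,2,3,3,4,5,6,8,8,9,9,12,13,15,15] 2 [13,14,15] (.fuse [0,1,2,3,3,4,4,5,8,10,10,11,11,12,12,14,14] 2 [14,14,15] (.prune [0,0,0,0,0,0,0,0,0,0,0,0,0,2,2,0]))) (.fuse [0,1,2,2,3,3,4,5,6,8,8,9,9,12,13,15,15] 1 [13,13] (.fuse [0,1,2,2,3,3,4,5,5,6,6,7,9,10,11,12,13,14,15,15]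 1 [] (.prune [0,0,0,0,0,0,0,0,0,0,0,0,0,1,1,0])))))) (.split (.fuse [9,11,11,13,14,15] 2 [15,15] (.split (.fuse [0,1,3,3,6,7,10,11,11,13,15] 1 [13,13,14,14] (.fuse [7,8,10,11,12,13,14] 2 [14,14,15] (.fuse [0,1,2,3,3,4,4,5,8,9,9,12,12] 2 [] (.fuse [7,8,10,11,13,14] 1 [] (.leaf 822))))) (.fuse [0,1,3,3,6,7,10,11,11,13,15] 1 [13,13,14,14,15] (.fuse [2,4,4,5,6,7,8,9,9,10,11,11,13,13,15,15] 2 [15] (.prune [0,0,0,0,0,0,0,0,0,0,0,0,0,2,2,0]))) (.fuse [0,1,3,3,6,7,10,11,11,13,15] 1 [13,13,14,14,15,15] (.fuse [0,1,2,2,3,3,4,5,6,8,8,9,9,12,13,15,15] 2 [14,14,15,15] (.prune [0,0,0,0,0,0,0,0,0,0,0,0,0,1,1,0]))))) (.fuse [0,1,3,3,6,7,10,11,11,13,15] 1 [12,13,13,15] (.split (.fuse [2,4,4,5,6,7,8,10,10,11,14,14] 1 [13,14,15,15] (.fuse [0,1,2,2,3,3,4,5,6,8,8,9,9,12,13,15,15]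 1 [14,14,15] (.prune [0,0,0,0,0,0,0,0,0,0,0,0,0,2,2,2]))) (.fuse [0,1,2,2,3,3,4,5,6,8,8,9,9,12,13,15,15] 2 [13,13,14] (.fuse [2,4,4,5,6,7,8,8,10,10,12,12,13,13,14,15,15] 2 [15] (.prune [0,0,0,0,0,0,0,0,0,0,0,0,0,1,1,2]))) (.fuse [0,1,2,2,3,3,4,5,6,8,8,9,9,12,13,15,15] 1 [15,15] (.fuse [0,1,2,2,3,3,4,5,6,8,9,9,11,12,14,14,15,15] 1 [14,14] (.fuse [0,1,2,2,3,3,4,7,8,8,10,11,11,13,13,14,14,15] 1 [15,15] (.fuse [0,1,2,3,3,4,4,6,6,7,8,9,9,10,12,14] 2 [] (.prune [0,0,0,0,0,0,0,0,0,0,0,0,0,0,0,2]))))))) (.fuse [0,1,3,3,6,7,10,11,11,13,15] 2 [12,13,13,14,15,15] (.split (.fuse [0,1,2,2,3,3,4,5,6,8,8,9,9,12,13,15,15] 1 [13,13,15] (.fuse [0,1,2,2,3,3,4,5,5,6,6,7,9,10,11,12,13,14,15,15] 1 [15] (.prune [0,0,0,0,0,0,0,0,0,0,0,0,0,1,1,1]))) (.fuse [2,4,4,5,6,7,7,8,8,9,10,10,11,13,13,14,14,15]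 1 [13,14] (.fuse [2,4,4,5,5,6,6,11,11,12,12,13,13,14] 2 [14,15] (.fuse [0,1,2,2,3,3,4,5,6,8,8,9,9,12,13,15,15] 2 [] (.fuse [0,1,2,3,3,4,4,6,6,7,7,9,10,11,12,13,14,14] 2 [] (.prune [0,0,0,0,0,0,0,0,0,0,0,0,0,0,0,1]))))) (.fuse [0,1,2,2,3,3,4,5,6,8,8,9,9,12,13,15,15] 2 [13,14,15,15] (.fuse [0,1,2,3,3,4,4,5,8,10,10,11,11,12,12,14,14] 2 [15,15] (.prune [0,0,0,0,0,0,0,0,0,0,0,0,0,2,2,1])))))) (.split (.fuse [9,11,11,13,14,15] 2 [14,15] (.split (.fuse [0,1,3,3,6,7,10,11,11,13,15] 1 [13,13,14,14] (.fuse [0,1,2,2,3,3,4,5,6,8,8,9,9,12,13,15,15] 2 [14,14] (.prune [0,0,0,0,0,0,0,0,0,0,0,0,0,1,1,0]))) (.fuse [0,1,3,3,6,7,10,11,11,13,15] 1 [13,13,14,14,15] (.fuse [7,8,10,11,12,13,14] 2 [14,14,15] (.fuse [0,1,2,3,3,4,4,5,8,9,9,12,12] 2 [15] (.fuse [0,1,2,3,3,4,4,5,5,6,7,8,9,10,11,11,12,13,14,15]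 1 [] (.leaf 823))))) (.fuse [0,1,3,3,6,7,10,11,11,13,15] 1 [13,13,14,14,15,15] (.fuse [2,4,4,5,6,7,8,9,9,10,11,11,13,13,15,15] 2 [15] (.prune [0,0,0,0,0,0,0,0,0,0,0,0,0,2,2,0]))))) (.fuse [0,1,3,3,6,7,10,11,11,13,15] 1 [12,13,13,15] (.split (.fuse [0,1,2,2,3,3,4,5,6,8,8,9,9,12,13,15,15] 1 [] (.fuse [0,1,2,2,3,3,4,5,6,8,9,9,11,12,14,14,15,15] 1 [14,14,15] (.fuse [0,1,2,2,3,3,4,7,8,8,10,11,11,13,13,14,14,15] 1 [] (.fuse [0,1,3,3,5,5,7,8,8,9,9,10,10,11,11,12,12,13,15] 1 [] (.prune [0,0,0,0,0,0,0,0,0,0,0,0,0,0,0,1]))))) (.fuse [2,4,4,5,6,7,8,10,10,11,14,14] 1 [13,14,14] (.fuse [0,1,2,2,3,3,4,5,6,8,8,9,9,12,13,15,15] 1 [14,14,15,15] (.prune [0,0,0,0,0,0,0,0,0,0,0,0,0,2,2,1]))) (.fuse [0,1,2,2,3,3,4,5,6,8,8,9,9,12,13,15,15] 2 [13,13,14,15] (.fuse [2,4,4,5,6,7,8,8,10,10,12,12,13,13,14,15,15]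 2 [14,15,15] (.prune [0,0,0,0,0,0,0,0,0,0,0,0,0,1,1,1]))))) (.fuse [0,1,3,3,6,7,10,11,11,13,15] 2 [12,13,13,14,15,15] (.split (.fuse [0,1,2,2,3,3,4,5,6,8,8,9,9,12,13,15,15] 2 [13,14] (.fuse [0,1,2,3,3,4,4,5,8,10,10,11,11,12,12,14,14] 2 [14] (.prune [0,0,0,0,0,0,0,0,0,0,0,0,0,2,2,2]))) (.fuse [0,1,2,2,3,3,4,5,6,8,8,9,9,12,13,15,15] 1 [13,13,15,15] (.fuse [0,1,2,2,3,3,4,5,5,6,6,7,9,10,11,12,13,14,15,15] 1 [15,15] (.prune [0,0,0,0,0,0,0,0,0,0,0,0,0,1,1,2]))) (.fuse [2,4,4,5,6,7,7,8,8,9,10,10,11,13,13,14,14,15] 1 [13,15] (.fuse [2,4,4,5,5,6,6,11,11,12,12,13,13,14] 2 [15,15] (.fuse [0,1,2,2,3,3,4,5,6,8,8,9,9,12,13,15,15] 2 [15] (.fuse [2,4,4,5,5,6,6,8,8,11,12,13] 1 [] (.prune [0,0,0,0,0,0,0,0,0,0,0,0,0,0,0,2])))))))))))) (.fuse [2] 2 [7,7,8,9,10,10,12,13,13,15,15]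 (.fuse [0,1,3,3,6,7,10,11,11,13,15] 1 [8,11,11,12,14,15] (.fuse [0,1,2,3,3,4,8,8,12,13,13,14,15] 2 [10,10,11,12,12,13,13,14,15,15] (.prune [0,0,0,0,0,0,0,1,2,0,1,0,2,2,2,1]))))))

theorem cert46_ok : certOK leafVecs cert46 [2,2,2] = true := by decide +kernel


end H49.Order3.Fi24
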