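/-
Generated data: part of the certificate tree, with its check.
-/
import Cfsg.Agent.H49.Order3.Fi24.CertDef
import Cfsg.Agent.H49.Order3.Fi24.Data.Leaves

set_option autoImplicit false
set_option maxRecDepth 100000
set_option linter.all false
set_option Elab.async false

namespace H49.Order3.Fi24

def cert7 : Cert := (.split (.fuse [2] 2 [7,7,8,10,10,13,13,14,14] (.split (.fuse [0] 1 [11,14] (.split (.split (.fuse [1,3,3,5,5,6,6,8,8,9,12,12,13] 1 [12,12,13,14,15,15] (.split (.split (.split (.fuse [0,1,3,3,6,7,10,11,11,13,15] 2 [] (.leaf 224)) (.fuse [0,1,3,3,6,7,10,11,11,13,15] 1 [] (.leaf 225)) (.fuse [7,10,14,14,15] 1 [] (.leaf 226))) (.fuse [1,3,3,5,5,6,6,8,8,9,9,10,11,11,12,13,13,15] 2 [15] (.fuse [3,6,6,8,8,10,10,13,14,14,15] 2 [] (.leaf 227))) (.fuse [1,3,3,5,5,6,6,8,8,9,9,10,11,11,12,13,13,15]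 1 [] (.fuse [0,1,3,3,6,7,10,11,11,13,15] 1 [] (.leaf 228)))) (.split (.fuse [4,5,5,6,7,7,9,10,10,11,12,12,13,14,14,15] 2 [15] (.fuse [0,1,3,3,6,7,10,11,11,13,15] 2 [] (.leaf 229))) (.fuse [1,3,3,5,5,6,6,8,8,9,9,10,11,11,12,13,13,15] 2 [15,15] (.fuse [1,3,3,4,4,6,7,8,9,10,10,11,12,15,15] 1 [] (.leaf 230))) (.fuse [1,3,3,5,5,6,6,8,8,9,9,10,11,11,12,13,13,15] 1 [15] (.fuse [0,1,3,3,6,7,10,11,11,13,15] 1 [] (.leaf 231)))) (.split (.fuse [4,5,5,6,7,7,9,10,10,11,12,12,13,14,14,15] 1 [15,15] (.fuse [0,1,3,3,6,7,10,11,11,13,15] 2 [] (.leaf 232))) (.fuse [1,3,3,5,5,6,6,8,8,9,9,10,11,11,12,13,13,15] 2 [] (.fuse [1,3,3,4,5,6,7,10,10,12,13,13,14,14,15,15] 1 [] (.leaf 233))) (.fuse [1,3,3,5,5,6,6,8,8,9,9,10,11,11,12,13,13,15] 1 [15,15] (.fuse [0,1,3,3,6,7,10,11,11,13,15] 1 []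 (.leaf 234)))))) (.fuse [1,3,3,5,5,6,6,8,8,9,12,12,13] 2 [12,12,13,13,15] (.fuse [1,3,3,5,5,6,6,8,8,12,12,13,13] 1 [14,15] (.fuse [1,3,3,4,4,6,7,8,9,9,10,12,12,13] 2 [14,14,15] (.split (.fuse [3,7,7,8,8,12,12,13,14,15,15] 2 [] (.leaf 235)) (.fuse [0,1,3,3,6,7,10,11,11,13,15] 2 [] (.leaf 236)) (.fuse [0,1,3,3,6,7,10,11,11,13,15] 1 [] (.leaf 237)))))) (.fuse [9,11,11,13,14,15] 2 [12,13,13,14,14] (.fuse [1,3,3,5,5,6,6,8,8,9,12,12,13] 2 [14,14] (.fuse [1,3,3,4,4,6,7,8,10,11,12,15] 1 [14] (.split (.fuse [0,1,3,3,6,7,10,11,11,13,15] 1 [] (.leaf 238)) (.fuse [3,7,7,8,8,10,10,11,11,13] 1 [] (.leaf 239)) (.fuse [0,1,3,3,6,7,10,11,11,13,15] 2 [] (.leaf 240))))))) (.fuse [0,1,3,3,6,7,10,11,11,13,15] 1 [14] (.fuse [0,5,6,6,9,9,11,12,12,13] 2 [12,12,13,13,14,14,15] (.fuse [0,3,5,6,9,9,14,14,15]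 2 [14,15] (.fuse [3,4,5,5,7,7,8,9,9,10,10,11,11,13,13] 2 [15] (.fuse [0,3,3,5,11,11,12,13,14] 2 [15] (.fuse [0,3,4,4,5,5,8,9,11,12,13,13,14] 1 [] (.prune [0,0,0,0,0,0,0,0,0,0,0,0,0,0,0,2]))))))) (.fuse [0,1,3,3,6,7,10,11,11,13,15] 2 [14,14,15] (.fuse [0,5,6,6,9,9,11,12,12,13] 2 [13,13,14,14,15,15] (.fuse [3,6,6,8,8,9,9,11,11,12,13] 2 [14,14] (.fuse [3,4,5,5,7,7,8,8,10,10,12,13,13,15] 1 [14] (.fuse [0,3,3,5,9,9,11,12,13,14,14,15,15] 1 [15] (.fuse [0,4,9,9,12,12,15,15] 1 [] (.prune [0,0,0,0,0,0,0,0,0,0,0,0,0,0,0,1]))))))))) (.fuse [5,6,6,9,9,12,12,14] 2 [11,12,13,13,14] (.split (.split (.fuse [9,11,11,13,14,15] 2 [12,13,15] (.split (.split (.fuse [0] 2 [] (.fuse [3,6,6,7,7,8,8,10,10,11,13,13] 1 [] (.leaf 241))) (.split (.fuse [1] 1 [] (.leaf 242)) (.fuse [7,8,10,13,13,14,14,15,15]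 1 [] (.leaf 243)) (.fuse [1] 2 [] (.leaf 244))) (.fuse [0] 1 [] (.fuse [0,1,3,3,6,7,10,11,11,13,15] 2 [] (.leaf 245)))) (.split (.fuse [0] 2 [] (.fuse [1,4,5,5,6,7,7,8,8,9,10,10,11,11,12,12,13,15,15] 1 [] (.leaf 246))) (.fuse [4,5,5,6,7,7,9,10,10,11,12,12,13,14,14,15] 2 [15] (.fuse [1] 1 [] (.leaf 247))) (.fuse [0] 1 [] (.fuse [0,1,3,3,6,7,10,11,11,13,15] 2 [] (.leaf 248)))) (.split (.fuse [0] 2 [] (.fuse [1,3,3,4,4,5,6,6,8,8,9,9,13,14,14] 1 [] (.leaf 249))) (.fuse [4,5,5,6,7,7,9,10,10,11,12,12,13,14,14,15] 1 [15,15] (.fuse [1] 1 [] (.leaf 250))) (.fuse [0] 1 [] (.fuse [0,1,3,3,6,7,10,11,11,13,15] 2 [] (.leaf 251)))))) (.fuse [0] 2 [14,14,15] (.fuse [1,9,11,11,13,14,15] 1 [13,15] (.split (.fuse [1,4,4,5,6,6,7,8,10,11,11,13,13,14,14,15,15] 1 [15,15] (.fuse [0,1,3,3,6,7,10,11,11,13,15]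 1 [] (.leaf 252))) (.split (.fuse [0,1,3,3,6,7,10,11,11,13,15] 2 [] (.leaf 253)) (.fuse [0,1,3,3,6,7,10,11,11,13,15] 1 [] (.leaf 254)) (.fuse [1,4,4,5,6,6,7,8,10,11,11,13,13,14,14,15,15] 1 [] (.leaf 255))) (.fuse [1,4,4,5,6,6,7,8,10,11,11,13,13,14,14,15,15] 2 [15] (.fuse [3,7,11,12,12,14,14,15,15] 2 [] (.leaf 256)))))) (.fuse [0] 1 [14,14,15,15] (.fuse [1,3,3,6,7,8,8,9,9,11,14,15] 2 [13,13,14,14] (.split (.fuse [1,3,3,4,4,5,7,7,8,9,10,11,12,15] 1 [15,15] (.fuse [0,1,3,3,6,7,10,11,11,13,15] 2 [] (.leaf 257))) (.split (.fuse [1,3,3,4,4,5,7,7,8,9,10,11,12,15] 1 [] (.leaf 258)) (.fuse [0,1,3,3,6,7,10,11,11,13,15] 2 [] (.leaf 259)) (.fuse [0,1,3,3,6,7,10,11,11,13,15] 1 [] (.leaf 260))) (.fuse [1,3,3,4,4,5,7,7,8,9,10,11,12,15] 2 [] (.fuse [0,1,3,3,6,7,10,11,11,13,15] 1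 [] (.leaf 261))))))) (.fuse [1] 1 [11,14] (.fuse [3,6,6,7,7,10,10,11,13,13,15,15] 1 [14,14,15] (.fuse [3,6,6,7,7,9,10,10,11] 1 [13,14,14,15,15] (.fuse [7,8,10,13,13,14,14,15,15] 1 [14] (.fuse [0] 2 [] (.fuse [3,4,5,5,7,9,9,10,11,11,15] 2 [] (.leaf 262))))))) (.fuse [1] 2 [11,11,14] (.fuse [3,6,6,7,7,10,10,11,13,13,15,15] 2 [14,15] (.fuse [3,6,6,7,7,9,9,10,10,11,11,13,14,14] 2 [13,13,14] (.fuse [7,8,10,13,13,14,14,15,15] 2 [14,14,15,15] (.fuse [0] 2 [] (.fuse [13,14,15,15] 1 [] (.leaf 263))))))))) (.fuse [0] 2 [11,11,15,15] (.split (.split (.fuse [1,5,6,6,9,9,12,12,14] 2 [12,13,13,15,15] (.split (.fuse [1,5,6,6,8,8,9,11,12,12,13,13] 2 [14,14,15,15] (.split (.fuse [0,1,3,3,6,7,10,11,11,13,15] 1 [] (.leaf 264)) (.fuse [3,6,6,7,8,10,10,11,11,13,13,14,15,15] 2 [] (.leaf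 265)) (.fuse [0,1,3,3,6,7,10,11,11,13,15] 2 [] (.leaf 266)))) (.fuse [1,5,6,6,8,8,9,11,12,12,13,13] 2 [14,14,15] (.fuse [4,5,5,6,7,7,9,10,10,11,12,12,13,14,14,15] 2 [15] (.fuse [0,1,3,3,6,7,10,11,11,13,15] 1 [] (.leaf 267)))) (.fuse [1,5,6,6,8,8,9,11,12,12,13,13] 2 [14,14] (.fuse [4,5,5,6,7,7,9,10,10,11,12,12,13,14,14,15] 1 [15,15] (.fuse [0,1,3,3,6,7,10,11,11,13,15] 1 [] (.leaf 268)))))) (.fuse [9,11,11,13,14,15] 2 [12,14,15,15] (.fuse [1,5,6,6,9,9,12,12,14] 1 [13,14,14] (.split (.split (.fuse [0,1,3,3,6,7,10,11,11,13,15] 2 [] (.leaf 269)) (.fuse [0,1,3,3,6,7,10,11,11,13,15] 1 [] (.leaf 270)) (.fuse [1,4,4,5,5,6,7,8,9,10,11,11,12,13,13,15,15] 2 [] (.leaf 271))) (.fuse [1,4,4,5,5,6,7,8,9,10,11,11,12,13,13,15,15] 2 [15,15] (.fuse [3,8,11,11,12,12,13,15,15] 2 [] (.leaf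 272))) (.fuse [1,4,4,5,5,6,7,8,9,10,11,11,12,13,13,15,15] 1 [] (.fuse [0,1,3,3,6,7,10,11,11,13,15] 1 [] (.leaf 273)))))) (.fuse [1,5,6,6,9,9,12,12,14] 1 [12,14,15] (.fuse [1,5,6,6,10,14,15,15] 2 [14,14] (.fuse [1,4,4,5,5,6,7,8,9,9,10,10,13,13,15,15] 1 [14] (.split (.fuse [3,8,10,10,11,14,14,15,15] 1 [] (.leaf 274)) (.fuse [0,1,3,3,6,7,10,11,11,13,15] 2 [] (.leaf 275)) (.fuse [0,1,3,3,6,7,10,11,11,13,15] 1 [] (.leaf 276))))))) (.fuse [0,1,3,3,6,7,10,11,11,13,15] 1 [14,15,15] (.fuse [3,6,6,7,8,10,11,14] 1 [13,13,14,14] (.fuse [0,3,3,5,5,6,6,7,7,8,8,9,10,10,12,12,13,14,15] 1 [13,13] (.fuse [3,4,5,5,8,8,9,9,11,13,13,14,14,15] 1 [15,15] (.fuse [3,4,5,5,7,7,8,9,9,10,10,11,13] 2 [] (.fuse [0,3,5,5,7,8,8,10,11,11,15,15] 1 [] (.prune [0,0,0,0,0,0,0,0,0,0,0,0,0,0,0,1])))))))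 (.fuse [0,1,3,3,6,7,10,11,11,13,15] 2 [14,14] (.fuse [0,3,3,5,5,6,6,7,7,8,8,9,10,10,12,12,13,14,15] 2 [14,14] (.fuse [3,6,6,7,9,9,10,11,11,12,12,13,13,14,14,15,15] 2 [13,14,14] (.fuse [0,3,5,5,7,8,8,9,10,11,13,14,14] 2 [14] (.fuse [3,4,5,5,7,7,8,8,10,10,11,11,12,12,14,15] 2 [15,15] (.fuse [3,4,5,5,7,7,10,10,13,13,14,14,15,15] 2 [] (.prune [0,0,0,0,0,0,0,0,0,0,0,0,0,0,0,2]))))))))))) (.fuse [2] 2 [8,8,10,11,15] (.fuse [1] 1 [8,10,10,13,14] (.fuse [0] 1 [11,14,14] (.split (.split (.fuse [0,3,3,6,7,10,11,11,13,15] 1 [14,14,15] (.fuse [3,5,6,7,7,10,10,11,11,13,13,14] 1 [13,14] (.fuse [0,3,5,5,7,7,8,9,10,10,14,14,15] 1 [14] (.fuse [3,4,4,5,5,9,9,11,14,15,15] 2 [15,15] (.fuse [3,5,8,8,12,12,13,13,14,15] 1 [] (.leaf 277)))))) (.fuse [3,5,6,7,7,9,9,10,10,11,13,14,14] 1 [13,15,15]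 (.fuse [3,5,6,7,7,10,10,11,12,13,13,14,14,15,15] 1 [14] (.fuse [3,4,6,6,7,9,10,11,11,12,13,15,15] 2 [14,14,15] (.fuse [0,3,3,6,7,10,11,11,13,15] 2 [15,15] (.fuse [0,3,4,4,6,6,7,8,8,9,9,10,11,13,14] 1 [] (.prune [0,0,0,0,0,0,0,0,0,0,0,0,0,0,0,1])))))) (.fuse [0,3,3,6,7,10,11,11,13,15] 2 [14,14] (.fuse [3,5,6,7,7,10,10,11,13,13,14,15] 1 [13,13,15] (.fuse [3,5,8,8,11,11,12,12,13,13,14] 1 [14,14,15] (.fuse [0,5,6,6,8,9,9,11,12,12,15] 2 [] (.fuse [7,8,8,10,10,11,14,14] 2 [] (.prune [0,0,0,0,0,0,0,0,0,0,0,0,0,0,0,2]))))))) (.split (.fuse [3,5,6,7,7,9,9,10,10,11,13,14,14] 2 [12,13,13,14] (.split (.fuse [10,11,15,15] 1 [] (.fuse [3,5,6,7,7,9,10,10,11,11,14] 2 [] (.prune [0,0,0,0,0,0,0,0,0,0,0,0,0,0,1,2]))) (.fuse [10,11,15,15] 1 [] (.fuse [3,5,6,7,7,9,10,10,11,11,14] 2 [15,15]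 (.prune [0,0,0,0,0,0,0,0,0,0,0,0,0,0,1,2]))) (.fuse [10,11,15,15] 1 [] (.fuse [3,5,6,7,7,9,10,10,11,11,14] 2 [15] (.prune [0,0,0,0,0,0,0,0,0,0,0,0,0,0,1,2]))))) (.fuse [0,3,3,6,7,10,11,11,13,15] 2 [15] (.fuse [0,3,5,5,7,7,8,9,10,10,14,14,15] 2 [13,13,15,15] (.fuse [3,5,6,7,7,8,8,9,10,10,11,11,12,12,15] 2 [14,14,15] (.fuse [3,5,6,7,7,8,8,9,12,12,13,13,15] 2 [] (.prune [0,0,0,0,0,0,0,0,0,0,0,0,0,0,1,0]))))) (.fuse [0,3,3,6,7,10,11,11,13,15] 1 [15,15] (.fuse [0,5,6,6,8,9,9,11,12,12,15] 1 [14,15] (.fuse [0,4,7,7,8,8,10,10,11,12,14,14,15,15] 2 [14,15] (.fuse [3,5,6,7,7,8,9,10,11,11,12,13,13,14,15] 1 [15] (.prune [0,0,0,0,0,0,0,0,0,0,0,0,0,0,1,1])))))) (.split (.fuse [0,3,3,6,7,10,11,11,13,15] 2 [14,15,15] (.fuse [0,3,3,6,7,9,9,10,14,15,15] 2 [13,14,14,15,15] (.fuse [0,3,5,5,7,7,8,10,10,11,11,12,13,13,15,15]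 2 [14] (.fuse [0,3,5,5,8,8,12,14,15,15] 2 [15,15] (.prune [0,0,0,0,0,0,0,0,0,0,0,0,0,0,2,1]))))) (.fuse [0,3,3,6,7,10,11,11,13,15] 1 [14] (.fuse [0,3,3,6,7,9,10,13,13,14,14,15] 1 [13,13,14,15] (.fuse [3,5,8,8,9,9,12,13,14,14] 2 [14,15,15] (.fuse [0,5,6,6,8,11,11,12,12,13,14,14,15] 2 [] (.prune [0,0,0,0,0,0,0,0,0,0,0,0,0,0,2,2]))))) (.fuse [9,11,11,13,14,15] 2 [12,13,13,14,14] (.fuse [3,5,6,7,7,9,9,10,10,11,13,14,14] 2 [14,14,15] (.fuse [3,4,6,6,7,10,11,11] 1 [14] (.fuse [0,3,3,6,7,10,11,11,13,15] 1 [15] (.prune [0,0,0,0,0,0,0,0,0,0,0,0,0,0,2,0])))))))))) (.fuse [2] 2 [7,11,11,13,14] (.fuse [1] 2 [10,11,13,13,14,14] (.fuse [0] 1 [11] (.split (.split (.fuse [0,3,6,6,7,7,8,8,10,10,11,13,13] 1 [] (.fuse [0,3,3,5,5,6,6,7,8,9,10,11,12,12,14,14] 1 [13,14,14,15] (.fuse [3,5,5,7,7,8,8,10,10,11,11,12,13,13]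 2 [14,14] (.fuse [0,3,3,4,5,8,8,9,9,11] 2 [15] (.fuse [0,3,4,5,5,8,9,9,11,13,13,14] 2 [] (.leaf 278)))))) (.fuse [3,5,5,7,7,8,9,10,10,11,11,14,14,15,15] 2 [12,13,13] (.fuse [6,7,7,8,10,10,11,11,12] 2 [13,13,14,14,15,15] (.fuse [7,8,8,10,13,13,14,14,15,15] 1 [15] (.fuse [3,5,5,7,7,8,10,10,13,13,14,14,15,15] 1 [] (.fuse [3,5,5,7,7,8,8,10,10,11,11,13,13] 1 [] (.prune [0,0,0,0,0,0,0,0,0,0,0,0,0,0,0,2])))))) (.fuse [0,3,6,6,7,7,8,8,10,10,11,13,13] 2 [] (.fuse [0,5,6,6,9,9,12,12,15] 2 [14,14,15,15] (.fuse [0,4,7,7,8,10,10,12] 1 [14,14,15,15] (.fuse [0,3,3,4,5,8,8,11,11,13,15,15] 1 [15] (.fuse [0,3,4,5,5,7,7,10,10,11,13] 2 [] (.prune [0,0,0,0,0,0,0,0,0,0,0,0,0,0,0,1]))))))) (.split (.fuse [0,3,6,6,7,7,8,8,10,10,11,13,13] 2 [] (.fuse [0,3,6,6,7,7,8,8,9,9,10,10,11,11,13,15]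 2 [13,14] (.fuse [0,3,4,5,5,7,10,11,11,13,14,14,15,15] 2 [14] (.fuse [0,3,3,4,5,8,8,9,11,11,13,13,14,14,15,15] 1 [15] (.prune [0,0,0,0,0,0,0,0,0,0,0,0,0,0,2,2]))))) (.fuse [0,3,6,6,7,7,8,8,10,10,11,13,13] 1 [] (.fuse [0,3,6,6,7,7,8,8,9,10,10,11,14,15] 1 [13,13,15,15] (.fuse [0,3,4,5,5,7,9,9,10,11,15,15] 1 [15,15] (.fuse [0,3,3,4,5,8,8,11,13,15,15] 2 [15] (.prune [0,0,0,0,0,0,0,0,0,0,0,0,0,0,2,1]))))) (.fuse [9,11,11,13,14,15] 2 [12,13,13,14,14] (.fuse [6,7,7,8,10,10,11,11,12] 1 [13,14,14] (.fuse [7,8,8,10,13,13,14,14,15,15] 2 [15] (.fuse [3,5,5,7,7,8,9,10,10,11,11,14,14,15,15] 1 [] (.prune [0,0,0,0,0,0,0,0,0,0,0,0,0,0,2,0])))))) (.split (.fuse [3,5,5,7,7,8,9,10,10,11,11,14,14,15,15] 1 [12,12,13,14,14] (.split (.fuse [10,11,15,15] 2 [15,15] (.fuse [3,5,5,7,7,8,9,9,10,10,11,11,12,12,13,14,15]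 2 [] (.prune [0,0,0,0,0,0,0,0,0,0,0,0,0,0,1,1]))) (.fuse [10,11,15,15] 2 [15,15] (.fuse [3,5,5,7,7,8,9,9,10,10,11,11,12,12,13,14,15] 2 [15] (.prune [0,0,0,0,0,0,0,0,0,0,0,0,0,0,1,1]))) (.fuse [10,11,15,15] 2 [15,15] (.fuse [3,5,5,7,7,8,9,9,10,10,11,11,12,12,13,14,15] 2 [15,15] (.prune [0,0,0,0,0,0,0,0,0,0,0,0,0,0,1,1]))))) (.fuse [0,3,6,6,7,7,8,8,10,10,11,13,13] 2 [] (.fuse [0,3,3,5,5,6,6,7,8,9,10,11,12,12,14,14] 2 [13,13,15,15] (.fuse [3,5,5,7,7,8,9,9,10,10,13,14,15,15] 1 [14] (.fuse [3,5,5,7,7,8,9,9,11,13,13,14,15,15] 1 [] (.prune [0,0,0,0,0,0,0,0,0,0,0,0,0,0,1,0]))))) (.fuse [0,3,6,6,7,7,8,8,10,10,11,13,13] 1 [] (.fuse [0,5,6,6,9,9,12,12,15] 1 [14,14,15] (.fuse [0,4,7,7,8,10,10,12] 2 [14,14,15] (.fuse [0,3,3,4,5,8,9,11,12,12,13,13,15,15] 1 [15] (.prune [0,0,0,0,0,0,0,0,0,0,0,0,0,0,1,2])))))))))))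

theorem cert7_ok : certOK leafVecs cert7 [0,0,0,1,0] = true := by decide +kernel

def cert8 : Cert := (.fuse [2] 1 [9,9,12,12,13,14,15] (.fuse [1] 1 [11,13,15,15] (.split (.fuse [0] 1 [11,14] (.split (.split (.fuse [0,4,4,5,6,6,7,8,8,9,9,10,13,14,15,15] 2 [12,12,13,13,14,15] (.fuse [0,4,4,5,6,6,7,8,8,9,10,11,14,15,15] 1 [15] (.split (.fuse [0,4,4,5,6,6,7,7,9,10,10,11,11,12,12,14,14] 1 [] (.prune [0,0,0,0,0,0,0,0,0,0,0,0,0,0,2,1])) (.fuse [0,4,4,5,6,6,7,7,9,10,10,11,11,12,12,14,14] 2 [] (.prune [0,0,0,0,0,0,0,0,0,0,0,0,0,0,2,1])) (.fuse [4,5,6,6,7,7,8,9,9,10,10,13,13,14,15,15] 1 [15] (.prune [0,0,0,0,0,0,0,0,0,0,0,0,0,0,2,1]))))) (.fuse [0,4,4,5,6,6,7,8,8,9,9,10,13,14,15,15] 1 [12,13] (.fuse [0,4,4,5,6,6,7,8,8,10,11,11,12,14,15] 2 [14,14] (.fuse [0,5,5,6,9,9,11,11,12,12,13,13,14,14]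 2 [15,15] (.fuse [0,4,4,5,6,6,8,11,13,13,14] 2 [15] (.prune [0,0,0,0,0,0,0,0,0,0,0,0,0,0,1,2]))))) (.fuse [9,11,11,13,14,15] 2 [12,13,13,14] (.fuse [4,5,6,6,7,7,8,9,9,10,10,13,13,14,15,15] 2 [13,14,15,15] (.fuse [4,5,6,6,7,8,8,9,9,10,13,14,15,15] 1 [14,14,15,15] (.fuse [0,4,4,5,6,6,7,8,8,9,9,10,13,14,15,15] 2 [15,15] (.fuse [3,6,6,7,7,10,10,11,13,13,15,15] 1 [] (.leaf 279))))))) (.split (.fuse [0,4,4,5,6,6,7,8,8,9,9,10,13,14,15,15] 2 [14,15] (.fuse [3,6,6,7,7,9,10,10,12,12,13,13] 1 [13,13,14,14] (.fuse [7,8,8,11,11,13,14,14,15,15] 1 [15] (.fuse [0,3,4,4,5,6,9,9,11,11,12,12,13,14,14,15] 2 [] (.fuse [3,4,4,5,5,9,9,11,13,13,14] 1 [] (.leaf 280)))))) (.fuse [0,4,4,5,6,6,7,8,8,9,9,10,13,14,15,15] 1 [12,12,13,13] (.fuse [0,3,3,4,4,5,7,7,8,8,9,9,10,10,11,11,12,13,14,14,15]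 2 [13,13,14] (.fuse [0,4,4,5,6,6,7,10,11,11,12,12,13] 1 [14,14] (.fuse [3,4,5,6,7,8,10,12,12,13,13,14,15] 2 [15,15] (.prune [0,0,0,0,0,0,0,0,0,0,0,0,0,0,2,1]))))) (.fuse [3,6,6,7,7,10,10,11,13,13,15,15] 1 [14,14,15] (.fuse [0,4,4,5,6,6,7,8,8,9,9,10,13,14,15,15] 1 [13,14,14,15,15] (.fuse [0,3,3,4,4,5,7,7,8,8,9,10,10,12,14] 2 [14,14,15] (.fuse [0,4,4,5,5,7,7,8,8,9,10,10,11,11,14,14,15,15] 1 [15] (.prune [0,0,0,0,0,0,0,0,0,0,0,0,0,0,1,2])))))) (.split (.fuse [0,4,4,5,6,6,7,8,8,9,9,10,13,14,15,15] 2 [12,13,14,15] (.fuse [0,3,3,4,4,5,7,7,8,8,9,9,10,10,11,11,12,13,14,14,15] 1 [13,15,15] (.fuse [0,4,4,5,6,6,7,8,8,9,10,11,14,15] 2 [15] (.fuse [0,4,4,5,5,8,11,12,13,13] 2 [15,15] (.prune [0,0,0,0,0,0,0,0,0,0,0,0,0,0,1,2]))))) (.fuse [0,4,4,5,6,6,7,8,8,9,9,10,13,14,15,15] 1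 [] (.fuse [3,6,6,7,7,8,9,9,10,10,11,11,12,12,15] 2 [13,15,15] (.fuse [3,5,8,8,9,11,12,12,15,15] 2 [15,15] (.fuse [0,3,4,4,5,6,9,9,11,11,12,12,13,14,14,15] 2 [] (.fuse [0,3,5,5,7,7,9,10,10,15,15] 1 [] (.leaf 281)))))) (.fuse [3,6,6,7,7,10,10,11,13,13,15,15] 2 [14,15] (.fuse [0,4,4,5,6,6,7,8,8,9,9,10,13,14,15,15] 2 [13,13,14,14,15,15] (.fuse [0,3,3,4,4,5,7,7,8,8,10,10,12,13,13,14,15,15] 1 [14,14,15,15] (.fuse [0,3,3,5,6,8,8,11,12,13,13,15,15] 2 [] (.prune [0,0,0,0,0,0,0,0,0,0,0,0,0,0,2,1])))))))) (.fuse [4,5,5,6,7,7,9,10,10,11,12,12,13,14,14,15] 1 [11,11,12,13,14,15] (.split (.split (.fuse [9,11,11,13,14,15] 2 [12,13,14,14,15] (.fuse [7,8,8,10,13,13,14,14,15,15] 2 [14,14,15] (.split (.fuse [0] 2 [] (.prune [0,0,0,0,0,0,0,0,0,0,0,0,0,0,2,1])) (.fuse [4,5,6,6,7,7,9,9,10,10,11,13,13,15]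 1 [15] (.prune [0,0,0,0,0,0,0,0,0,0,0,0,0,0,2,1])) (.fuse [0] 1 [] (.prune [0,0,0,0,0,0,0,0,0,0,0,0,0,0,2,1]))))) (.fuse [0] 2 [14,14,15] (.fuse [0,9,9,11,13,13,14,14,15,15] 2 [13,13] (.fuse [0,4,5,6,6,7,7,8,9,10,10,11,13,14,15,15] 1 [15,15] (.fuse [0,4,4,5,5,6,7,7,8,8,10,10,13,13,14,15] 2 [] (.prune [0,0,0,0,0,0,0,0,0,0,0,0,0,0,1,2]))))) (.fuse [0] 1 [14,14,15,15] (.fuse [0,9,11,11,13,14,15] 1 [13,14] (.fuse [0,4,5,6,6,7,7,8,10,10,11,11,15] 2 [] (.fuse [0,4,4,5,5,6,8,9,9,11,12,12,13] 1 [] (.fuse [0,4,5,5,8,8,9,9,11,12,12,14,15] 2 [] (.leaf 282))))))) (.split (.fuse [3,6,6,7,7,10,10,11,13,13,15,15] 1 [14,14,15] (.fuse [3,6,6,7,7,9,10,10,11] 1 [13,14,15,15] (.fuse [3,4,4,5,5,9,9,12,14,14] 2 [14,14,15,15] (.fuse [0] 2 [] (.fuse [3,4,7,8,9,11,11,12,14,15] 2 [] (.prune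 [0,0,0,0,0,0,0,0,0,0,0,0,0,0,0,1])))))) (.fuse [0] 2 [14,14,15] (.fuse [3,6,6,7,7,9,10,10,14] 1 [13,14,15] (.fuse [3,4,5,6,7,8,8,10,11,11,13,13,14] 2 [15] (.fuse [0,3,6,6,7,7,8,8,10,10,11,13,13] 2 [15] (.prune [0,0,0,0,0,0,0,0,0,0,0,0,0,0,2,2]))))) (.fuse [0] 1 [14,14,15,15] (.fuse [3,6,6,7,7,9,10,10,14] 1 [13,14] (.fuse [5,6,8,8,9,9,11,11,12,13,13,15,15] 1 [14,14,15,15] (.fuse [3,5,8,11,11,12,13,14,15,15] 2 [] (.prune [0,0,0,0,0,0,0,0,0,0,0,0,0,0,1,0])))))) (.split (.fuse [3,6,6,7,7,10,10,11,13,13,15,15] 2 [14,15] (.fuse [3,6,6,7,7,9,9,10,10,11,11,13,14,14] 2 [13,13,14,14] (.fuse [3,4,4,5,5,11,13,13,15] 1 [14,14,15] (.fuse [0] 2 [] (.prune [0,0,0,0,0,0,0,0,0,0,0,0,0,0,1,1]))))) (.fuse [0] 2 [14,14,15] (.fuse [3,6,6,7,7,8,9,9,10,10,11,13,14,15,15] 2 [13,13] (.fuse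 [7,8,8,11,11,13,14,14] 2 [15,15] (.fuse [0,3,3,6,7,10,11,11,13,15] 1 [15] (.fuse [5,6,7,7,8,8,9,9,10,10,13,13,15,15] 1 [] (.prune [0,0,0,0,0,0,0,0,0,0,0,0,0,0,0,2])))))) (.fuse [0] 1 [14,14,15,15] (.fuse [3,6,6,7,7,8,8,9,9,10,10,11,13,14,14,15] 2 [13,13,14,15,15] (.fuse [3,4,5,6,7,8,9,10,14,15,15] 1 [14,15] (.fuse [0,3,6,6,7,7,8,8,10,10,11,13,13] 2 [15] (.prune [0,0,0,0,0,0,0,0,0,0,0,0,0,0,2,0])))))))) (.fuse [0] 2 [11,11,15,15] (.split (.split (.fuse [0,4,5,5,6,7,7,8,9,10,10,12,12,13] 1 [12,13,14] (.fuse [0,4,5,5,6,7,7,8,9,9,10,10,11,11,12,13,14,14,15,15] 2 [13,15,15] (.fuse [0,4,5,5,6,7,8,8,9,9,10,11,11,12,15] 1 [14,15] (.fuse [4,5,6,6,7,7,9,9,10,10,11,13,13,15,15] 1 [15] (.prune [0,0,0,0,0,0,0,0,0,0,0,0,0,0,2,1]))))) (.fuse [9,11,11,13,14,15] 2 [12,15,15] (.fuse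 [0,4,5,5,6,7,7,8,9,10,10,12,12,13] 2 [13,13,14,15,15] (.fuse [0,4,4,7,10,11,11,12,14,14] 1 [15,15] (.fuse [0,5,6,6,7,8,8,9,9,10,14] 1 [15] (.prune [0,0,0,0,0,0,0,0,0,0,0,0,0,0,1,2]))))) (.fuse [0,4,5,5,6,7,7,8,9,10,10,12,12,13] 2 [14,15] (.fuse [0,4,5,5,6,7,7,8,10,10,11,12,12,14,14] 2 [14,15,15] (.fuse [0,5,6,6,9,11,13,14,15] 2 [15,15] (.fuse [0,4,5,5,6,7,8,8,10,11,12,12,13,14,14,15,15] 2 [15,15] (.fuse [4,6,8,8,12,13,14,15] 1 [] (.leaf 283))))))) (.split (.fuse [0,4,5,5,6,7,7,8,9,10,10,12,12,13] 1 [14,15,15] (.fuse [3,6,6,7,7,9,10,10,12,12,13,13,14,14,15] 1 [14,15] (.fuse [3,4,4,5,5,9,9,11,11,13,13,14] 1 [14,14,15] (.fuse [0,3,3,4,5,5,6,6,8,9,11,11,12,14,14,15,15] 2 [] (.fuse [0,3,4,4,6,6,7,8,8,9,9,11,13,13,14] 2 [] (.prune [0,0,0,0,0,0,0,0,0,0,0,0,0,0,0,2]))))))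 (.fuse [3,6,6,7,7,10,10,11,13,13,15,15] 1 [14,14,15] (.fuse [0,4,5,5,6,7,7,8,9,10,10,12,12,13] 1 [13,14,15] (.fuse [0,3,3,4,5,5,6,6,8,12,13,13,14] 1 [14,14,15] (.fuse [0,3,5,6,7,7,10,10,11,12,13,14,15] 2 [] (.prune [0,0,0,0,0,0,0,0,0,0,0,0,0,0,2,0]))))) (.fuse [0,4,5,5,6,7,7,8,9,10,10,12,12,13] 2 [12,12,13,13,14] (.fuse [0,3,4,5,5,7,8,9,10,13,13,14,14] 2 [13,13,15] (.fuse [0,3,3,4,5,5,6,6,8,9,9,12,13,14] 2 [14,14,15] (.fuse [3,5,5,6,8,8,9,9,11,11,12,13,14] 2 [] (.prune [0,0,0,0,0,0,0,0,0,0,0,0,0,0,1,1])))))) (.split (.fuse [0,4,5,5,6,7,7,8,9,10,10,12,12,13] 1 [12,12,13,13,14,15] (.fuse [0,3,4,5,5,7,8,9,10,13,13,14,14] 2 [13,13,14,14,15,15] (.fuse [0,4,5,5,6,7,7,8,9,9,10,10,11,11,12,13,14,14,15,15] 2 [] (.fuse [3,4,4,6,7,7,8,8,9,9,10,10,11,11,12,12,13,15] 1 [15] (.prune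 [0,0,0,0,0,0,0,0,0,0,0,0,0,0,1,0]))))) (.fuse [3,6,6,7,7,10,10,11,13,13,15,15] 2 [14,15] (.fuse [3,6,6,7,7,9,9,10,10,11,11,13,14,14] 2 [14,15,15] (.fuse [3,5,8,8,9,13] 1 [14,14,15,15] (.fuse [0,4,5,5,6,7,7,8,9,10,10,12,12,13] 1 [] (.fuse [11,15] 1 [] (.prune [0,0,0,0,0,0,0,0,0,0,0,0,0,0,0,1])))))) (.fuse [0,4,5,5,6,7,7,8,9,10,10,12,12,13] 2 [12,13,14,15,15] (.fuse [0,3,3,4,5,5,6,6,8,9,11,11,12,14,14,15,15] 1 [13] (.fuse [0,4,5,5,6,7,7,8,10,10,11,12,12,14,14,15,15] 1 [14] (.fuse [0,3,4,4,6,6,8,8,9,11,11,12,15,15] 2 [15,15] (.prune [0,0,0,0,0,0,0,0,0,0,0,0,0,0,2,2])))))))))))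

theorem cert8_ok : certOK leafVecs cert8 [0,0,0,1,1] = true := by decide +kernel

def cert9 : Cert := (.fuse [2] 2 [6,7,8,9,10,11,12,12,13,13,14,14] (.fuse [1] 2 [11,13,15,15] (.split (.fuse [0] 1 [11,14] (.split (.split (.fuse [0,4,5,5,6,7,7,8,9,10,10,12,12,13] 2 [12,12,13,13,14,14,15,15] (.fuse [0,4,5,5,6,7,7,8,10,10,11,12,12,14,14] 1 [14,14,15,15] (.split (.fuse [4,5,5,9,11,12,13,15] 2 [15,15] (.prune [0,0,0,0,0,0,0,0,0,0,0,0,0,0,2,2])) (.fuse [0,4,5,6,6,7,7,8,9,10,10,11,12,13,15,15] 1 [15,15] (.prune [0,0,0,0,0,0,0,0,0,0,0,0,0,0,2,2])) (.fuse [0,4,5,6,6,7,7,8,9,10,10,11,12,13,15,15] 2 [15,15] (.prune [0,0,0,0,0,0,0,0,0,0,0,0,0,0,2,2]))))) (.fuse [0,4,5,5,6,7,7,8,9,10,10,12,12,13] 1 [14,14,15] (.fuse [0,4,5,5,6,7,7,8,9,9,10,10,11,11,12,13,14,14,15,15] 1 [13,13,15]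 (.fuse [0,6,7,7,8,8,9,10,10,15] 1 [14,14] (.fuse [0,4,5,6,6,7,7,8,10,10,11,11,12,13,13,14,15,15] 2 [] (.prune [0,0,0,0,0,0,0,0,0,0,0,0,0,0,1,1]))))) (.fuse [9,11,11,13,14,15] 2 [12,13,13] (.fuse [0,4,5,5,6,7,7,8,9,10,10,12,12,13] 1 [13,14,14] (.fuse [5,6,6,7,7,8,8,9,9,10,10,11,11,13,14] 1 [15,15] (.fuse [0,4,4,5,6,7,7,8,9,9,10,10,11,12,12,13,15,15] 2 [15,15] (.fuse [0,4,4,5,6,7,7,8,9,9,10,10,11,12,14,15] 2 [] (.leaf 284))))))) (.split (.fuse [0,4,5,5,6,7,7,8,9,10,10,12,12,13] 2 [12,13,14,14,15] (.fuse [0,3,4,5,5,7,8,9,10,13,13,14,14] 1 [13,14,15,15] (.fuse [0,4,5,5,6,7,7,8,10,10,11,12,13,13,15,15] 2 [15] (.fuse [0,3,3,4,5,11,12,12,13,13,14,15] 2 [15] (.prune [0,0,0,0,0,0,0,0,0,0,0,0,0,0,1,1]))))) (.fuse [0,4,5,5,6,7,7,8,9,10,10,12,12,13] 1 [12,12,13,13,14,14] (.fuse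 [0,3,3,4,5,5,6,6,8,9,11,11,12,14,14,15,15] 2 [13,13] (.fuse [0,4,5,5,6,7,7,8,9,9,10,10,14,14,15] 1 [14,15,15] (.fuse [0,3,3,4,4,5,6,6,8,9,9,13,14,15,15] 1 [] (.fuse [0,4,5,5,6,7,9,9,10,10,11,11,13,13,14,14] 1 [] (.leaf 285)))))) (.fuse [3,6,6,7,7,10,10,11,13,13,15,15] 1 [14,14,15] (.fuse [3,6,6,7,7,9,10,10,11] 1 [13,13,14,14] (.fuse [3,4,5,5,6,6,7,7,9,9,10,10,11,11,12,12,14,15] 1 [14,14,15] (.fuse [0,4,5,5,6,7,7,8,9,10,10,12,12,13] 2 [15,15] (.prune [0,0,0,0,0,0,0,0,0,0,0,0,0,0,2,2])))))) (.split (.fuse [0,4,5,5,6,7,7,8,9,10,10,12,12,13] 2 [14,14] (.fuse [3,6,6,7,7,9,9,10,10,11,11,12,12] 2 [13,14,14] (.fuse [7,8,8,11,11,14,14] 2 [15,15] (.fuse [0,3,3,4,5,5,6,6,8,9,11,11,12,14,14,15,15] 1 [] (.fuse [3,4,5,5,6,6,8,8,12,14] 2 [] (.leaf 286)))))) (.fuse [0,4,5,5,6,7,7,8,9,10,10,12,12,13]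 1 [12,13,14,14,15,15] (.fuse [0,3,4,5,5,7,8,9,10,13,13,14,14] 1 [13] (.fuse [0,3,3,4,5,5,6,6,8,11,13,14,15] 2 [14,14,15,15] (.fuse [0,3,7,10,11,12,13,13,14] 1 [] (.prune [0,0,0,0,0,0,0,0,0,0,0,0,0,0,2,2]))))) (.fuse [3,6,6,7,7,10,10,11,13,13,15,15] 2 [14,15] (.fuse [0,4,5,5,6,7,7,8,9,10,10,12,12,13] 2 [13,13,14,14,15] (.fuse [0,3,3,4,5,5,6,6,8,9,9,12,13,14,15] 1 [14,15] (.fuse [0,6,7,7,8,8,10,10,11,12] 2 [15] (.prune [0,0,0,0,0,0,0,0,0,0,0,0,0,0,1,1])))))))) (.fuse [4,5,5,6,7,7,9,10,10,11,12,12,13,14,14,15] 2 [11,12,12,13,13,14,15,15] (.split (.split (.fuse [9,11,11,13,14,15] 2 [12,13,14,15] (.fuse [5,6,6,9,9,12,12,14] 1 [14,14] (.split (.fuse [0] 2 [] (.prune [0,0,0,0,0,0,0,0,0,0,0,0,0,0,2,2])) (.fuse [4,5,5,8,8,9,11,11,12,12,13,13,14,14,15,15] 1 [] (.prune [0,0,0,0,0,0,0,0,0,0,0,0,0,0,2,2]))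 (.fuse [0] 1 [] (.prune [0,0,0,0,0,0,0,0,0,0,0,0,0,0,2,2]))))) (.fuse [0] 2 [14,14,15] (.fuse [0,9,9,11,13,13,14,14,15,15] 2 [13,13,14] (.fuse [4,5,6,8,9,9,13,14,15] 2 [14] (.fuse [0,4,5,5,8,8,12,12,13,14,14,15] 2 [15] (.prune [0,0,0,0,0,0,0,0,0,0,0,0,0,0,1,1]))))) (.fuse [0] 1 [14,14,15,15] (.fuse [0,9,11,11,13,14,15] 1 [13] (.fuse [5,6,6,7,7,9,9,10,10,11,13,13,14,14,15] 1 [15,15] (.fuse [0,4,5,5,8,8,9,9,11,12,12,14] 1 [15,15] (.fuse [0,5,5,6,8,9,9,11,13,13,14,15,15] 1 [] (.leaf 287))))))) (.split (.fuse [3,6,6,7,7,10,10,11,13,13,15,15] 1 [14,14,15] (.fuse [3,6,6,7,7,9,10,10,11] 1 [13,15,15] (.fuse [3,5,6,7,7,8,10,10,13,13] 1 [14,14] (.fuse [0] 2 [] (.prune [0,0,0,0,0,0,0,0,0,0,0,0,0,0,1,2]))))) (.fuse [0] 2 [14,14,15] (.fuse [3,6,6,7,7,9,10,10,14] 1 [13,15] (.fuse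 [7,8,8,11,11,14,14,15,15] 1 [15,15] (.fuse [0,3,6,6,7,7,8,8,10,10,11,13,13] 2 [15] (.fuse [0,4,5,5,8,8,12,12,13,14,15] 1 [] (.prune [0,0,0,0,0,0,0,0,0,0,0,0,0,0,0,1])))))) (.fuse [0] 1 [14,14,15,15] (.fuse [3,6,6,7,7,9,10,10,14] 1 [13] (.fuse [4,5,6,8,8,9,9,11,11,12,12,13,14,14] 1 [15] (.fuse [4,5,5,7,8,8,9,10,11,12] 2 [15,15] (.prune [0,0,0,0,0,0,0,0,0,0,0,0,0,0,2,0])))))) (.split (.fuse [3,6,6,7,7,10,10,11,13,13,15,15] 2 [14,15] (.fuse [3,6,6,7,7,9,9,10,10,11,11,13,14,14] 2 [13,13] (.fuse [3,6,6,8,8,9,9,11,11,14,15] 1 [14,14] (.fuse [0] 2 [] (.fuse [0,3,3,6,7,7,8,8,9,11,13,14,15,15] 2 [] (.prune [0,0,0,0,0,0,0,0,0,0,0,0,0,0,0,2])))))) (.fuse [0] 2 [14,14,15] (.fuse [3,6,6,7,7,8,9,9,10,10,11,13,14,15,15] 2 [13,13,14] (.fuse [4,5,5,7,7,8,8,9,10,10,12,14] 2 [15,15]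 (.fuse [0,3,3,6,7,10,11,11,13,15] 1 [15] (.prune [0,0,0,0,0,0,0,0,0,0,0,0,0,0,2,1]))))) (.fuse [0] 1 [14,14,15,15] (.fuse [3,6,6,7,7,8,8,9,9,10,10,11,13,14,14,15] 2 [13,13,14,14,15,15] (.fuse [4,5,5,7,8,9,10,11,11,12,12,15,15] 1 [15] (.fuse [0,3,6,6,7,7,8,8,10,10,11,13,13] 2 [15] (.prune [0,0,0,0,0,0,0,0,0,0,0,0,0,0,1,0])))))))) (.fuse [0] 2 [11,11,15,15] (.split (.split (.fuse [0,4,4,5,6,6,7,8,8,9,9,10,13,14,15,15] 1 [12,13,14,15] (.fuse [0,4,4,5,6,6,7,8,8,10,11,11,12,14,15] 2 [13,14,14] (.fuse [0,4,4,5,5,6,7,8,9,9,10,13,14,14,15,15] 1 [14,14,15,15] (.fuse [4,5,5,9,11,12,13,14,15,15] 2 [15] (.prune [0,0,0,0,0,0,0,0,0,0,0,0,0,0,2,2]))))) (.fuse [9,11,11,13,14,15] 2 [12,14,14,15,15] (.fuse [4,5,5,9,11,12,13,14,15,15] 1 [13,14] (.fuse [4,5,6,9,9,11,12,13,14] 2 [15,15]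 (.fuse [4,6,6,7,10,12,15] 1 [] (.prune [0,0,0,0,0,0,0,0,0,0,0,0,0,0,1,1]))))) (.fuse [0,4,4,5,6,6,7,8,8,9,9,10,13,14,15,15] 2 [12,12,13,13,14,14,15,15] (.fuse [0,4,4,5,6,6,7,8,8,9,10,11,14,15,15] 1 [13,13] (.fuse [0,6,6,7,8,8,9,9,10,11,11,12,12,13,13,15,15] 1 [14] (.fuse [0,5,5,7,7,8,10,10,11,11,12,12,14,15] 1 [15] (.fuse [0,4,4,5,5,6,7,7,8,10,10,11] 2 [] (.leaf 288))))))) (.split (.fuse [0,4,4,5,6,6,7,8,8,9,9,10,13,14,15,15] 1 [12,12,13,13,14,15] (.fuse [0,3,3,4,4,5,7,7,8,8,9,9,10,10,11,11,12,13,14,14,15] 2 [13,13,14,14,15] (.fuse [0,4,4,5,6,6,7,10,11,11,12,12,13] 2 [15] (.fuse [0,4,4,5,5,6,7,7,8,8,9,9,10,10,11,12,12,13,13,14,15,15] 1 [] (.prune [0,0,0,0,0,0,0,0,0,0,0,0,0,0,1,0]))))) (.fuse [3,6,6,7,7,10,10,11,13,13,15,15] 1 [14,14,15] (.fuse [0,4,4,5,6,6,7,8,8,9,9,10,13,14,15,15]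 1 [13] (.fuse [0,3,3,4,4,5,7,7,8,8,9,10,10,12,14] 1 [14,14] (.fuse [0,4,5,5,6,6,7,8,9,10,12,12,14,15] 2 [] (.fuse [0,3,3,4,4,5,7,8,8,9,10,10,12,14,14] 1 [] (.prune [0,0,0,0,0,0,0,0,0,0,0,0,0,0,0,2])))))) (.fuse [0,4,4,5,6,6,7,8,8,9,9,10,13,14,15,15] 2 [14,14,15,15] (.fuse [3,6,6,7,7,9,10,10,12,12,13,13] 1 [14,14,15,15] (.fuse [3,4,5,5,6,6,7,7,9,9,10,10,11,12,13,13,14,14,15,15] 2 [14,14,15,15] (.fuse [3,4,4,7,7,8,9,10,10,11,13] 2 [15,15] (.prune [0,0,0,0,0,0,0,0,0,0,0,0,0,0,2,1])))))) (.split (.fuse [0,4,4,5,6,6,7,8,8,9,9,10,13,14,15,15] 1 [14,15] (.fuse [3,6,6,7,7,8,9,9,10,10,11,11,12,12,15] 2 [14,15] (.fuse [3,6,6,9,9,11,11,12,12,13,13,14,14] 2 [15] (.fuse [4,5,5,9,11,12,13,14,15,15] 2 [15] (.fuse [0,3,4,4,5,6,9,9,11,11,12,12,13,14,14,15] 1 [] (.prune [0,0,0,0,0,0,0,0,0,0,0,0,0,0,0,1]))))))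 (.fuse [3,6,6,7,7,10,10,11,13,13,15,15] 2 [14,15] (.fuse [0,4,4,5,6,6,7,8,8,9,9,10,13,14,15,15] 2 [13,13] (.fuse [0,3,3,4,4,5,7,7,8,8,10,10,12,13,13,14,15,15] 2 [14] (.fuse [0,6,6,7,10,11,11,12,12,14,15,15] 1 [15,15] (.prune [0,0,0,0,0,0,0,0,0,0,0,0,0,0,2,0]))))) (.fuse [0,4,4,5,6,6,7,8,8,9,9,10,13,14,15,15] 2 [12,13,14,14,15,15] (.fuse [0,3,3,4,4,5,7,7,8,8,9,9,10,10,11,11,12,13,14,14,15] 1 [13,14] (.fuse [0,4,4,5,6,6,7,8,8,9,10,11,14,15] 1 [] (.fuse [0,3,3,7,7,8,8,10,10,12,12,13] 2 [15,15] (.prune [0,0,0,0,0,0,0,0,0,0,0,0,0,0,1,2])))))))))))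

theorem cert9_ok : certOK leafVecs cert9 [0,0,0,1,2] = true := by decide +kernel


end H49.Order3.Fi24
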