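/-
Generated data: part of the certificate tree, with its check.
-/
import Cfsg.Agent.H49.Order3.Fi24.CertDef
import Cfsg.Agent.H49.Order3.Fi24.Data.Leaves

set_option autoImplicit false
set_option maxRecDepth 100000
set_option linter.all false
set_option Elab.async false

namespace H49.Order3.Fi24

def cert10 : Cert := (.split (.fuse [2] 1 [7,8,8,10,13,14,15,15] (.split (.fuse [0] 2 [11,11,14,14,15,15] (.split (.split (.fuse [1,3,3,5,5,6,6,8,8,9,12,12,13] 2 [12,13,13,14,14] (.split (.split (.split (.fuse [0,1,3,3,6,7,10,11,11,13,15] 1 [] (.leaf 289)) (.fuse [7,10,14,14,15] 2 [] (.leaf 290)) (.fuse [0,1,3,3,6,7,10,11,11,13,15] 2 [] (.leaf 291))) (.fuse [1,3,3,5,5,6,6,8,8,9,9,10,11,11,12,13,13,15] 2 [] (.fuse [0,1,3,3,6,7,10,11,11,13,15] 2 [] (.leaf 292))) (.fuse [1,3,3,5,5,6,6,8,8,9,9,10,11,11,12,13,13,15]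 1 [15,15] (.fuse [3,6,6,8,8,10,10,13,14,14,15] 1 [] (.leaf 293)))) (.split (.fuse [4,5,5,6,7,7,9,10,10,11,12,12,13,14,14,15] 2 [15] (.fuse [0,1,3,3,6,7,10,11,11,13,15] 1 [] (.leaf 294))) (.fuse [1,3,3,5,5,6,6,8,8,9,9,10,11,11,12,13,13,15] 2 [15] (.fuse [0,1,3,3,6,7,10,11,11,13,15] 2 [] (.leaf 295))) (.fuse [1,3,3,5,5,6,6,8,8,9,9,10,11,11,12,13,13,15] 1 [] (.fuse [1,3,3,4,5,6,7,10,10,12,13,13,14,14,15,15] 2 [] (.leaf 296)))) (.split (.fuse [4,5,5,6,7,7,9,10,10,11,12,12,13,14,14,15] 1 [15,15] (.fuse [0,1,3,3,6,7,10,11,11,13,15] 1 [] (.leaf 297))) (.fuse [1,3,3,5,5,6,6,8,8,9,9,10,11,11,12,13,13,15] 2 [15,15] (.fuse [0,1,3,3,6,7,10,11,11,13,15] 2 [] (.leaf 298))) (.fuse [1,3,3,5,5,6,6,8,8,9,9,10,11,11,12,13,13,15] 1 [15] (.fuse [1,3,3,4,4,6,7,8,9,10,10,11,12,15,15] 2 []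 (.leaf 299)))))) (.fuse [9,11,11,13,14,15] 1 [12,12,13,14,15] (.fuse [1,3,3,5,5,6,6,8,8,9,12,12,13] 1 [14,15,15] (.fuse [1,3,3,4,4,6,7,8,10,11,12,15] 2 [14,14,15,15] (.split (.fuse [0,1,3,3,6,7,10,11,11,13,15] 2 [] (.leaf 300)) (.fuse [0,1,3,3,6,7,10,11,11,13,15] 1 [] (.leaf 301)) (.fuse [3,7,7,8,8,10,10,11,11,13] 2 [] (.leaf 302)))))) (.fuse [1,3,3,5,5,6,6,8,8,9,12,12,13] 1 [12,13,15] (.fuse [1,3,3,5,5,6,6,8,8,12,12,13,13] 2 [14,14] (.fuse [1,3,3,4,4,6,7,8,9,9,10,12,12,13] 1 [14] (.split (.fuse [3,7,7,8,8,12,12,13,14,15,15] 1 [] (.leaf 303)) (.fuse [0,1,3,3,6,7,10,11,11,13,15] 2 [] (.leaf 304)) (.fuse [0,1,3,3,6,7,10,11,11,13,15] 1 [] (.leaf 305))))))) (.fuse [0,1,3,3,6,7,10,11,11,13,15] 1 [14,15,15] (.fuse [0,5,6,6,9,9,11,12,12,13] 1 [13,14,15,15] (.fuse [3,6,6,8,8,9,9,11,11,12,13]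 1 [14,15,15] (.fuse [3,4,5,5,7,7,8,8,10,10,12,13,13,15] 2 [14,14,15,15] (.fuse [0,3,3,5,9,9,11,12,13,14,14,15,15] 2 [] (.fuse [0,4,9,9,12,12,15,15] 2 [] (.prune [0,0,0,0,0,0,0,0,0,0,0,0,0,0,0,2]))))))) (.fuse [0,1,3,3,6,7,10,11,11,13,15] 2 [14,14] (.fuse [0,5,6,6,9,9,11,12,12,13] 1 [12,13,14] (.fuse [0,3,5,6,9,9,14,14,15] 1 [14,14] (.fuse [3,4,5,5,7,7,8,9,9,10,10,11,11,13,13] 1 [] (.fuse [0,3,3,5,11,11,12,13,14] 1 [15] (.fuse [10,14] 1 [] (.prune [0,0,0,0,0,0,0,0,0,0,0,0,0,0,0,1]))))))))) (.fuse [0] 1 [11] (.split (.split (.fuse [1,5,6,6,9,9,12,12,14] 1 [12,12,13,15] (.split (.fuse [1,5,6,6,8,8,9,11,12,12,13,13] 1 [14,15,15] (.split (.fuse [0,1,3,3,6,7,10,11,11,13,15] 2 [] (.leaf 306)) (.fuse [0,1,3,3,6,7,10,11,11,13,15] 1 [] (.leaf 307)) (.fuse [3,6,6,7,8,10,10,11,11,13,13,14,15,15]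 1 [] (.leaf 308)))) (.fuse [1,5,6,6,8,8,9,11,12,12,13,13] 1 [14,15] (.fuse [4,5,5,6,7,7,9,10,10,11,12,12,13,14,14,15] 2 [15] (.fuse [0,1,3,3,6,7,10,11,11,13,15] 2 [] (.leaf 309)))) (.fuse [1,5,6,6,8,8,9,11,12,12,13,13] 1 [14] (.fuse [4,5,5,6,7,7,9,10,10,11,12,12,13,14,14,15] 1 [15,15] (.fuse [0,1,3,3,6,7,10,11,11,13,15] 2 [] (.leaf 310)))))) (.fuse [1,5,6,6,9,9,12,12,14] 2 [12,12,14,14,15,15] (.fuse [1,5,6,6,10,14,15,15] 1 [14,15,15] (.fuse [1,4,4,5,5,6,7,8,9,9,10,10,13,13,15,15] 2 [14,14,15,15] (.split (.fuse [3,8,10,10,11,14,14,15,15] 2 [] (.leaf 311)) (.fuse [0,1,3,3,6,7,10,11,11,13,15] 2 [] (.leaf 312)) (.fuse [0,1,3,3,6,7,10,11,11,13,15] 1 [] (.leaf 313)))))) (.fuse [9,11,11,13,14,15] 1 [12,12,14,14] (.fuse [1,5,6,6,9,9,12,12,14] 2 [13,13,14] (.split (.split (.fuse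 [0,1,3,3,6,7,10,11,11,13,15] 1 [] (.leaf 314)) (.fuse [1,4,4,5,5,6,7,8,9,10,11,11,12,13,13,15,15] 1 [] (.leaf 315)) (.fuse [0,1,3,3,6,7,10,11,11,13,15] 2 [] (.leaf 316))) (.fuse [1,4,4,5,5,6,7,8,9,10,11,11,12,13,13,15,15] 2 [] (.fuse [0,1,3,3,6,7,10,11,11,13,15] 2 [] (.leaf 317))) (.fuse [1,4,4,5,5,6,7,8,9,10,11,11,12,13,13,15,15] 1 [15] (.fuse [3,8,11,11,12,12,13,15,15] 1 [] (.leaf 318))))))) (.fuse [0,1,3,3,6,7,10,11,11,13,15] 1 [14] (.fuse [0,3,3,5,5,6,6,7,7,8,8,9,10,10,12,12,13,14,15] 1 [14] (.fuse [3,6,6,7,9,9,10,11,11,12,12,13,13,14,14,15,15] 1 [13,13,14,15] (.fuse [0,3,5,5,7,8,8,9,10,11,13,14,14] 1 [14,14] (.fuse [3,4,5,5,7,7,8,8,10,10,11,11,12,12,14,15] 1 [15,15] (.fuse [0,4,4,7,9,10,11,11,13,14,15] 2 [] (.prune [0,0,0,0,0,0,0,0,0,0,0,0,0,0,0,1]))))))) (.fuse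 [0,1,3,3,6,7,10,11,11,13,15] 2 [14,14,15] (.fuse [3,6,6,7,8,10,11,14] 2 [13,14] (.fuse [0,3,3,5,5,6,6,7,7,8,8,9,10,10,12,12,13,14,15] 2 [13] (.fuse [3,4,5,5,8,8,9,9,11,13,13,14,14,15] 2 [] (.fuse [3,4,5,5,7,7,8,9,9,10,10,11,13] 1 [15,15] (.fuse [10,14] 2 [] (.prune [0,0,0,0,0,0,0,0,0,0,0,0,0,0,0,2]))))))))) (.fuse [5,6,6,9,9,12,12,14] 1 [11,11,12,12,13,14,14,15,15] (.split (.split (.fuse [9,11,11,13,14,15] 1 [12,12,13,13,15,15] (.split (.split (.fuse [0] 1 [] (.fuse [3,6,6,7,7,8,8,10,10,11,13,13] 2 [] (.leaf 319))) (.fuse [0] 2 [] (.fuse [0,1,3,3,6,7,10,11,11,13,15] 1 [] (.leaf 320))) (.split (.fuse [1] 2 [] (.leaf 321)) (.fuse [1] 1 [] (.leaf 322)) (.fuse [7,8,10,13,13,14,14,15,15] 2 [] (.leaf 323)))) (.split (.fuse [0] 1 [] (.fuse [1,3,3,4,4,5,6,6,8,8,9,9,13,14,14]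 2 [] (.leaf 324))) (.fuse [0] 2 [] (.fuse [0,1,3,3,6,7,10,11,11,13,15] 1 [] (.leaf 325))) (.fuse [4,5,5,6,7,7,9,10,10,11,12,12,13,14,14,15] 2 [15] (.fuse [1] 2 [] (.leaf 326)))) (.split (.fuse [0] 1 [] (.fuse [1,4,5,5,6,7,7,8,8,9,10,10,11,11,12,12,13,15,15] 2 [] (.leaf 327))) (.fuse [0] 2 [] (.fuse [0,1,3,3,6,7,10,11,11,13,15] 1 [] (.leaf 328))) (.fuse [4,5,5,6,7,7,9,10,10,11,12,12,13,14,14,15] 1 [15,15] (.fuse [1] 2 [] (.leaf 329)))))) (.fuse [0] 2 [14,15] (.fuse [1,3,3,6,7,8,8,9,9,11,14,15] 1 [13,14] (.split (.fuse [1,3,3,4,4,5,7,7,8,9,10,11,12,15] 2 [15] (.fuse [0,1,3,3,6,7,10,11,11,13,15] 1 [] (.leaf 330))) (.fuse [1,3,3,4,4,5,7,7,8,9,10,11,12,15] 1 [] (.fuse [0,1,3,3,6,7,10,11,11,13,15] 2 [] (.leaf 331))) (.split (.fuse [1,3,3,4,4,5,7,7,8,9,10,11,12,15] 2 [] (.leaf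 332)) (.fuse [0,1,3,3,6,7,10,11,11,13,15] 2 [] (.leaf 333)) (.fuse [0,1,3,3,6,7,10,11,11,13,15] 1 [] (.leaf 334)))))) (.fuse [0] 1 [14,15,15] (.fuse [1,9,11,11,13,14,15] 2 [13,13,15,15] (.split (.fuse [1,4,4,5,6,6,7,8,10,11,11,13,13,14,14,15,15] 2 [15] (.fuse [0,1,3,3,6,7,10,11,11,13,15] 2 [] (.leaf 335))) (.fuse [1,4,4,5,6,6,7,8,10,11,11,13,13,14,14,15,15] 1 [15,15] (.fuse [3,7,11,12,12,14,14,15,15] 1 [] (.leaf 336))) (.split (.fuse [0,1,3,3,6,7,10,11,11,13,15] 1 [] (.leaf 337)) (.fuse [1,4,4,5,6,6,7,8,10,11,11,13,13,14,14,15,15] 2 [] (.leaf 338)) (.fuse [0,1,3,3,6,7,10,11,11,13,15] 2 [] (.leaf 339))))))) (.fuse [1] 1 [11,14,14] (.fuse [3,6,6,7,7,10,10,11,13,13,15,15] 1 [14,14,15,15] (.fuse [3,6,6,7,7,9,9,10,10,11,11,13,14,14] 1 [13,14,14] (.fuse [7,8,10,13,13,14,14,15,15]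 1 [14,15] (.fuse [0] 1 [] (.fuse [13,14,15,15] 2 [] (.leaf 340))))))) (.fuse [1] 2 [11,11,14,14] (.fuse [3,6,6,7,7,10,10,11,13,13,15,15] 2 [14,15,15] (.fuse [3,6,6,7,7,9,10,10,11] 2 [13,13,14,15] (.fuse [7,8,10,13,13,14,14,15,15] 2 [14,14] (.fuse [0] 1 [] (.fuse [3,4,5,5,7,9,9,10,11,11,15] 1 [] (.leaf 341))))))))))) (.fuse [2] 1 [7,7,11,12,13,14,14] (.fuse [1] 1 [10,10,11,11,13,15,15] (.fuse [0] 2 [11,11,14,15,15] (.split (.split (.fuse [0,3,6,6,7,7,8,8,10,10,11,13,13] 2 [14,15,15] (.fuse [0,3,3,5,5,6,6,7,8,9,10,11,12,12,14,14] 2 [13,13,14,15,15] (.fuse [3,5,5,7,7,8,8,10,10,11,11,12,13,13] 1 [14] (.fuse [0,3,3,4,5,8,8,9,9,11] 1 [15,15] (.fuse [0,3,4,5,5,8,9,9,11,13,13,14] 1 [] (.leaf 342)))))) (.fuse [0,3,6,6,7,7,8,8,10,10,11,13,13] 1 [14,15,15] (.fuse [0,5,6,6,9,9,12,12,15]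 1 [15,15] (.fuse [0,4,7,7,8,10,10,12] 2 [15,15] (.fuse [0,3,3,4,5,8,8,11,11,13,15,15] 1 [] (.fuse [0,4,7,8,8,10,12,13,14,15,15] 1 [] (.prune [0,0,0,0,0,0,0,0,0,0,0,0,0,0,0,2])))))) (.fuse [3,5,5,7,7,8,9,10,10,11,11,14,14,15,15] 1 [12,12,13,14,14,15] (.fuse [6,7,7,8,10,10,11,11,12] 1 [13,14,15] (.fuse [7,8,8,10,13,13,14,14,15,15] 2 [15,15] (.fuse [0,3,6,6,7,7,8,8,10,10,11,13,13] 1 [15,15] (.fuse [0,3,3,5,5,6,6,7,8,10,11,12,12,13,13,14,14] 2 [] (.prune [0,0,0,0,0,0,0,0,0,0,0,0,0,0,0,1]))))))) (.split (.fuse [3,5,5,7,7,8,9,10,10,11,11,14,14,15,15] 2 [12,13,13,15] (.split (.fuse [10,11,15,15] 1 [15] (.fuse [0,3,6,6,7,7,8,8,10,10,11,13,13] 1 [15,15] (.prune [0,0,0,0,0,0,0,0,0,0,0,0,0,0,2,2]))) (.fuse [10,11,15,15] 1 [15] (.fuse [0,3,6,6,7,7,8,8,10,10,11,13,13] 1 [15,15]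 (.prune [0,0,0,0,0,0,0,0,0,0,0,0,0,0,2,2]))) (.fuse [10,11,15,15] 1 [15] (.fuse [0,3,6,6,7,7,8,8,10,10,11,13,13] 1 [15,15] (.prune [0,0,0,0,0,0,0,0,0,0,0,0,0,0,2,2]))))) (.fuse [0,3,6,6,7,7,8,8,10,10,11,13,13] 2 [14,15,15] (.fuse [0,5,6,6,9,9,12,12,15] 2 [] (.fuse [0,4,7,7,8,10,10,12] 1 [] (.fuse [6,7,7,8,10,10,11,11,12] 1 [15] (.prune [0,0,0,0,0,0,0,0,0,0,0,0,0,0,2,1]))))) (.fuse [0,3,6,6,7,7,8,8,10,10,11,13,13] 1 [14,15,15] (.fuse [0,3,3,5,5,6,6,7,8,9,10,11,12,12,14,14] 1 [13,15] (.fuse [3,5,5,7,7,8,9,9,10,10,13,14,15,15] 2 [15,15] (.fuse [6,7,7,8,10,10,11,11,12] 1 [] (.prune [0,0,0,0,0,0,0,0,0,0,0,0,0,0,2,0])))))) (.split (.fuse [0,3,6,6,7,7,8,8,10,10,11,13,13] 1 [14,15,15] (.fuse [0,3,6,6,7,7,8,8,9,9,10,10,11,11,13,15] 1 [13,13,14,15] (.fuse [0,3,4,5,5,7,10,11,11,13,14,14,15,15]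 1 [14,15] (.fuse [3,5,5,8,9,11,12,12,13,14,15,15] 2 [15] (.prune [0,0,0,0,0,0,0,0,0,0,0,0,0,0,1,1]))))) (.fuse [9,11,11,13,14,15] 1 [12,12,13,15] (.fuse [6,7,7,8,10,10,11,11,12] 2 [13,13,14] (.fuse [7,8,8,10,13,13,14,14,15,15] 1 [15,15] (.fuse [0,3,6,6,7,7,8,8,10,10,11,13,13] 1 [15,15] (.prune [0,0,0,0,0,0,0,0,0,0,0,0,0,0,1,0]))))) (.fuse [0,3,6,6,7,7,8,8,10,10,11,13,13] 2 [14,15,15] (.fuse [0,3,6,6,7,7,8,8,9,10,10,11,14,15] 2 [13,15] (.fuse [0,3,4,5,5,7,9,9,10,11,15,15] 2 [15] (.fuse [3,5,5,7,8,9,10,11,13,13] 2 [] (.prune [0,0,0,0,0,0,0,0,0,0,0,0,0,0,1,2])))))))))) (.fuse [2] 1 [8,10,10,11,11,12,12,13,15,15] (.fuse [1] 2 [8,8,10,13,13,15] (.fuse [0] 2 [11,11,15,15] (.split (.split (.fuse [0,3,3,6,7,10,11,11,13,15] 2 [15] (.fuse [3,5,6,7,7,10,10,11,11,13,13,14] 2 [13,13,14,14]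 (.fuse [0,3,5,5,7,7,8,9,10,10,14,14,15] 2 [14,14] (.fuse [3,4,4,5,5,9,9,11,14,15,15] 1 [15] (.fuse [3,5,8,8,12,12,13,13,14,15] 2 [] (.leaf 343)))))) (.fuse [0,3,3,6,7,10,11,11,13,15] 1 [15,15] (.fuse [3,5,6,7,7,10,10,11,13,13,14,15] 2 [13,15,15] (.fuse [3,5,8,8,11,11,12,12,13,13,14] 2 [14,15,15] (.fuse [0,5,6,6,8,9,9,11,12,12,15] 2 [15] (.fuse [0,3,5,5,6,6,7,8,8,9,9,10,11,11,12,14,14,15,15] 1 [] (.prune [0,0,0,0,0,0,0,0,0,0,0,0,0,0,0,1])))))) (.fuse [3,5,6,7,7,9,9,10,10,11,13,14,14] 2 [13,13,14,14] (.fuse [3,5,6,7,7,10,10,11,12,13,13,14,14,15,15] 2 [14,14] (.fuse [3,4,6,6,7,9,10,11,11,12,13,15,15] 1 [14,15,15] (.fuse [3,4,6,6,8,9,11,11,12,13,14] 1 [15,15] (.fuse [3,5,7,7,10,10,11,11,12,12,13,13,14,15,15] 1 [] (.prune [0,0,0,0,0,0,0,0,0,0,0,0,0,0,0,2]))))))) (.split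 (.fuse [0,3,3,6,7,10,11,11,13,15] 1 [14] (.fuse [0,3,3,6,7,9,9,10,14,15,15] 1 [13,13,14,14,15,15] (.fuse [0,3,5,5,7,7,8,10,10,11,11,12,13,13,15,15] 1 [14,15,15] (.fuse [3,4,4,5,5,9,15] 2 [15,15] (.prune [0,0,0,0,0,0,0,0,0,0,0,0,0,0,1,2]))))) (.fuse [9,11,11,13,14,15] 1 [12,12,13,14,14,15] (.fuse [3,5,6,7,7,9,9,10,10,11,13,14,14] 1 [15] (.fuse [3,4,6,6,7,10,11,11] 2 [14,15,15] (.fuse [0,3,3,6,7,10,11,11,13,15] 1 [15] (.prune [0,0,0,0,0,0,0,0,0,0,0,0,0,0,1,0]))))) (.fuse [0,3,3,6,7,10,11,11,13,15] 2 [14,15,15] (.fuse [0,3,3,6,7,9,10,13,13,14,14,15] 2 [13,14,14,15,15] (.fuse [3,5,8,8,9,9,12,13,14,14] 1 [14] (.fuse [3,5,7,8,9,9,10,12,13,14,15,15] 1 [] (.prune [0,0,0,0,0,0,0,0,0,0,0,0,0,0,1,1])))))) (.split (.fuse [3,5,6,7,7,9,9,10,10,11,13,14,14] 1 [12,12,13,14,15,15]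 (.split (.fuse [10,11,15,15] 2 [] (.fuse [0,3,3,6,7,10,11,11,13,15] 2 [15,15] (.prune [0,0,0,0,0,0,0,0,0,0,0,0,0,0,2,1]))) (.fuse [10,11,15,15] 2 [] (.fuse [0,3,3,6,7,10,11,11,13,15] 2 [15,15] (.prune [0,0,0,0,0,0,0,0,0,0,0,0,0,0,2,1]))) (.fuse [10,11,15,15] 2 [] (.fuse [0,3,3,6,7,10,11,11,13,15] 2 [15,15] (.prune [0,0,0,0,0,0,0,0,0,0,0,0,0,0,2,1]))))) (.fuse [0,3,3,6,7,10,11,11,13,15] 2 [14,14] (.fuse [0,5,6,6,8,9,9,11,12,12,15] 2 [] (.fuse [0,4,7,7,8,8,10,10,11,12,14,14,15,15] 1 [] (.fuse [0,3,4,5,6,7,8,9,10,11,11,12,12,13,15] 2 [] (.prune [0,0,0,0,0,0,0,0,0,0,0,0,0,0,2,2]))))) (.fuse [0,3,3,6,7,10,11,11,13,15] 1 [14,14,15] (.fuse [0,3,5,5,7,7,8,9,10,10,14,14,15] 1 [13,15] (.fuse [3,5,6,7,7,8,8,9,10,10,11,11,12,12,15] 1 [14,14] (.fuse [3,5,6,7,7,8,8,9,12,12,13,13,15]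 2 [15] (.prune [0,0,0,0,0,0,0,0,0,0,0,0,0,0,2,0])))))))))))

theorem cert10_ok : certOK leafVecs cert10 [0,0,0,2,0] = true := by decide +kernel

def cert11 : Cert := (.fuse [2] 1 [6,6,7,7,8,8,9,9,10,10,11,11,12,12,14] (.fuse [1] 1 [8,8,13,15,15] (.split (.fuse [0] 2 [11,11,14,14,15,15] (.split (.split (.fuse [0,4,5,5,6,7,7,8,9,10,10,12,12,13] 1 [12,13] (.fuse [0,4,5,5,6,7,7,8,10,10,11,12,12,14,14] 2 [14,15,15] (.split (.fuse [0,4,5,6,6,7,7,8,9,10,10,11,12,13,15,15] 1 [] (.prune [0,0,0,0,0,0,0,0,0,0,0,0,0,0,1,1])) (.fuse [0,4,5,6,6,7,7,8,9,10,10,11,12,13,15,15] 2 [] (.prune [0,0,0,0,0,0,0,0,0,0,0,0,0,0,1,1])) (.fuse [4,5,5,9,11,12,13,15] 1 [15] (.prune [0,0,0,0,0,0,0,0,0,0,0,0,0,0,1,1]))))) (.fuse [9,11,11,13,14,15] 1 [12,12,13,14,14,15] (.fuse [0,4,5,5,6,7,7,8,9,10,10,12,12,13]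 2 [13,13,15,15] (.fuse [5,6,6,7,7,8,8,9,9,10,10,11,11,13,14] 2 [14] (.fuse [4,6,6,8,8,11,11,12,13,14,15] 2 [15] (.fuse [3,6,6,7,7,10,10,11,13,13,15,15] 2 [] (.leaf 344)))))) (.fuse [0,4,5,5,6,7,7,8,9,10,10,12,12,13] 2 [15] (.fuse [0,4,5,5,6,7,7,8,9,9,10,10,11,11,12,13,14,14,15,15] 2 [13,14,15,15] (.fuse [0,6,7,7,8,8,9,10,10,15] 2 [14,14] (.fuse [4,6,6,7,8,8,10,11,12,13,14,14,15] 2 [15] (.prune [0,0,0,0,0,0,0,0,0,0,0,0,0,0,2,2])))))) (.split (.fuse [0,4,5,5,6,7,7,8,9,10,10,12,12,13] 1 [15,15] (.fuse [3,6,6,7,7,9,9,10,10,11,11,12,12] 1 [13,13,14,14,15,15] (.fuse [7,8,8,11,11,14,14] 1 [15] (.fuse [0,3,3,4,5,5,6,6,8,9,11,11,12,14,14,15,15] 1 [15,15] (.fuse [3,4,4,5,6,6,8,8,9,11,13,14] 1 [] (.leaf 345)))))) (.fuse [3,6,6,7,7,10,10,11,13,13,15,15] 1 [14,14,15,15] (.fuse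 [0,4,5,5,6,7,7,8,9,10,10,12,12,13] 1 [13,15] (.fuse [0,3,3,4,5,5,6,6,8,9,9,12,13,14,15] 2 [15,15] (.fuse [3,6,6,9,9,11,12,13,15] 2 [] (.prune [0,0,0,0,0,0,0,0,0,0,0,0,0,0,2,2]))))) (.fuse [0,4,5,5,6,7,7,8,9,10,10,12,12,13] 2 [12,12,13,13] (.fuse [0,3,4,5,5,7,8,9,10,13,13,14,14] 2 [13,13,14,14,15,15] (.fuse [0,3,3,4,5,5,6,6,8,11,13,14,15] 1 [14,15,15] (.fuse [0,3,7,10,11,12,13,13,14] 1 [15,15] (.prune [0,0,0,0,0,0,0,0,0,0,0,0,0,0,1,1])))))) (.split (.fuse [0,4,5,5,6,7,7,8,9,10,10,12,12,13] 1 [12,12,13,13,15] (.fuse [0,3,4,5,5,7,8,9,10,13,13,14,14] 2 [13,13,14] (.fuse [0,4,5,5,6,7,7,8,10,10,11,12,13,13,15,15] 1 [] (.fuse [3,5,5,9,9,11,11,12,14,14,15,15] 2 [15,15] (.prune [0,0,0,0,0,0,0,0,0,0,0,0,0,0,2,2]))))) (.fuse [3,6,6,7,7,10,10,11,13,13,15,15] 2 [14,15,15] (.fuse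 [3,6,6,7,7,9,10,10,11] 2 [13,15] (.fuse [3,4,5,5,6,6,7,7,9,9,10,10,11,11,12,12,14,15] 2 [] (.fuse [3,5,6,7,7,8,10,10,13,13,14,15] 2 [15] (.prune [0,0,0,0,0,0,0,0,0,0,0,0,0,0,1,1]))))) (.fuse [0,4,5,5,6,7,7,8,9,10,10,12,12,13] 2 [12,13,15,15] (.fuse [0,3,3,4,5,5,6,6,8,9,11,11,12,14,14,15,15] 1 [13,14,14,15,15] (.fuse [0,4,5,5,6,7,7,8,9,9,10,10,14,14,15] 2 [15] (.fuse [0,3,3,4,4,5,6,6,8,9,9,13,14,15,15] 1 [15,15] (.fuse [0,3,3,4,5,9,9,11,14,15] 1 [] (.leaf 346))))))))) (.fuse [0] 1 [11] (.split (.split (.fuse [0,4,4,5,6,6,7,8,8,9,9,10,13,14,15,15] 2 [12,12,13,13,15] (.fuse [0,4,4,5,6,6,7,8,8,10,11,11,12,14,15] 1 [13,13,14,15] (.fuse [0,4,4,5,5,6,7,8,9,9,10,13,14,14,15,15] 2 [15] (.fuse [4,5,5,9,11,12,13,14,15,15] 1 [15,15] (.prune [0,0,0,0,0,0,0,0,0,0,0,0,0,0,1,1])))))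 (.fuse [0,4,4,5,6,6,7,8,8,9,9,10,13,14,15,15] 1 [12,13,14,14] (.fuse [0,4,4,5,6,6,7,8,8,9,10,11,14,15,15] 2 [13,14,14] (.fuse [0,6,6,7,8,8,9,9,10,11,11,12,12,13,13,15,15] 2 [14] (.fuse [4,6,6,8,13] 1 [] (.fuse [4,6,6,8,12,12,13,14,14] 2 [] (.leaf 347)))))) (.fuse [9,11,11,13,14,15] 1 [12,12] (.fuse [4,5,5,9,11,12,13,14,15,15] 2 [13,13,14,14] (.fuse [4,5,6,9,9,11,12,13,14] 1 [14,15,15] (.fuse [0,4,4,5,6,6,7,8,8,9,9,10,13,14,15,15] 1 [15,15] (.prune [0,0,0,0,0,0,0,0,0,0,0,0,0,0,2,2])))))) (.split (.fuse [0,4,4,5,6,6,7,8,8,9,9,10,13,14,15,15] 2 [15] (.fuse [3,6,6,7,7,8,9,9,10,10,11,11,12,12,15] 1 [] (.fuse [3,6,6,9,9,11,11,12,12,13,13,14,14] 1 [14,14] (.fuse [0,3,4,4,5,6,9,9,11,11,12,12,13,14,14,15] 1 [15] (.fuse [0,3,3,4,4,5,7,7,8,8,9,11,12,14,14,15,15] 2 [] (.prune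 [0,0,0,0,0,0,0,0,0,0,0,0,0,0,0,2])))))) (.fuse [0,4,4,5,6,6,7,8,8,9,9,10,13,14,15,15] 1 [12,12,13,13,14,14] (.fuse [0,3,3,4,4,5,7,7,8,8,9,9,10,10,11,11,12,13,14,14,15] 2 [13,13,15,15] (.fuse [0,4,4,5,6,6,7,8,8,9,10,11,14,15] 2 [14,14] (.fuse [0,3,3,7,7,8,8,10,10,12,12,13] 2 [] (.prune [0,0,0,0,0,0,0,0,0,0,0,0,0,0,2,1]))))) (.fuse [3,6,6,7,7,10,10,11,13,13,15,15] 1 [14,14,15,15] (.fuse [0,4,4,5,6,6,7,8,8,9,9,10,13,14,15,15] 1 [13,14,15,15] (.fuse [0,3,3,4,4,5,7,7,8,8,10,10,12,13,13,14,15,15] 1 [14,14,15] (.fuse [3,4,4,5,6,6,7,8,9,10,11,12,14,15] 2 [15,15] (.prune [0,0,0,0,0,0,0,0,0,0,0,0,0,0,1,0])))))) (.split (.fuse [0,4,4,5,6,6,7,8,8,9,9,10,13,14,15,15] 2 [12,13,15] (.fuse [0,3,3,4,4,5,7,7,8,8,9,9,10,10,11,11,12,13,14,14,15] 1 [13,14,14,15] (.fuse [0,4,4,5,6,6,7,10,11,11,12,12,13]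 1 [] (.fuse [0,4,4,5,5,6,7,7,8,8,9,9,10,10,11,12,12,13,13,14,15,15] 2 [] (.prune [0,0,0,0,0,0,0,0,0,0,0,0,0,0,2,0]))))) (.fuse [0,4,4,5,6,6,7,8,8,9,9,10,13,14,15,15] 1 [14,14] (.fuse [3,6,6,7,7,9,10,10,12,12,13,13] 2 [] (.fuse [3,4,5,5,6,6,7,7,9,9,10,10,11,12,13,13,14,14,15,15] 1 [] (.fuse [0,3,4,4,5,6,9,9,11,11,12,12,13,14,14,15] 1 [15] (.prune [0,0,0,0,0,0,0,0,0,0,0,0,0,0,1,2]))))) (.fuse [3,6,6,7,7,10,10,11,13,13,15,15] 2 [14,15,15] (.fuse [0,4,4,5,6,6,7,8,8,9,9,10,13,14,15,15] 2 [13,13,14,15,15] (.fuse [0,3,3,4,4,5,7,7,8,8,9,10,10,12,14] 2 [] (.fuse [0,4,5,5,6,6,7,8,9,10,12,12,14,15] 2 [15,15] (.fuse [0,4,5,5,6,6,7,8,8,9,10,11,12,12,14] 2 [] (.prune [0,0,0,0,0,0,0,0,0,0,0,0,0,0,0,1]))))))))) (.fuse [4,5,5,6,7,7,9,10,10,11,12,12,13,14,14,15] 1 [11,11,12,13,14,15]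 (.split (.split (.fuse [9,11,11,13,14,15] 1 [12,12,13,13,14,15,15] (.fuse [5,6,6,9,9,12,12,14] 2 [15,15] (.split (.fuse [0] 1 [] (.prune [0,0,0,0,0,0,0,0,0,0,0,0,0,0,1,1])) (.fuse [0] 2 [] (.prune [0,0,0,0,0,0,0,0,0,0,0,0,0,0,1,1])) (.fuse [4,5,5,8,8,9,11,11,12,12,13,13,14,14,15,15] 2 [] (.prune [0,0,0,0,0,0,0,0,0,0,0,0,0,0,1,1]))))) (.fuse [0] 2 [14,15] (.fuse [0,9,11,11,13,14,15] 2 [13,13,14,14] (.fuse [5,6,6,7,7,9,9,10,10,11,13,13,14,14,15] 2 [14] (.fuse [0,4,5,5,8,8,9,9,11,12,12,14] 1 [15] (.fuse [3,6,6,7,7,10,10,11,13,13,15,15] 1 [] (.leaf 348)))))) (.fuse [0] 1 [14,15,15] (.fuse [0,9,9,11,13,13,14,14,15,15] 1 [13] (.fuse [4,5,6,8,9,9,13,14,15] 1 [15] (.fuse [0,4,5,5,8,8,12,12,13,14,14,15] 2 [15,15] (.prune [0,0,0,0,0,0,0,0,0,0,0,0,0,0,2,2])))))) (.split (.fuse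 [3,6,6,7,7,10,10,11,13,13,15,15] 1 [14,14,15,15] (.fuse [3,6,6,7,7,9,9,10,10,11,11,13,14,14] 1 [13,14] (.fuse [3,6,6,8,8,9,9,11,11,14,15] 2 [] (.fuse [0] 1 [] (.fuse [3,6,6,7,8,9,9,11] 2 [] (.prune [0,0,0,0,0,0,0,0,0,0,0,0,0,0,0,1])))))) (.fuse [0] 2 [14,15] (.fuse [3,6,6,7,7,8,8,9,9,10,10,11,13,14,14,15] 1 [13,14,14,15] (.fuse [4,5,5,7,8,9,10,11,11,12,12,15,15] 2 [14,15,15] (.fuse [0,3,6,6,7,7,8,8,10,10,11,13,13] 1 [15,15] (.prune [0,0,0,0,0,0,0,0,0,0,0,0,0,0,2,0]))))) (.fuse [0] 1 [14,15,15] (.fuse [3,6,6,7,7,8,9,9,10,10,11,13,14,15,15] 1 [13] (.fuse [4,5,5,7,7,8,8,9,10,10,12,14] 1 [14,14,15] (.fuse [0,3,3,6,7,10,11,11,13,15] 2 [15,15] (.prune [0,0,0,0,0,0,0,0,0,0,0,0,0,0,1,2])))))) (.split (.fuse [3,6,6,7,7,10,10,11,13,13,15,15] 2 [14,15,15] (.fuse [3,6,6,7,7,9,10,10,11]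 2 [13,13,14,14,15] (.fuse [3,5,6,7,7,8,10,10,13,13] 2 [14,14,15,15] (.fuse [0] 1 [] (.prune [0,0,0,0,0,0,0,0,0,0,0,0,0,0,2,1]))))) (.fuse [0] 2 [14,15] (.fuse [3,6,6,7,7,9,10,10,14] 2 [13,13,14,14] (.fuse [4,5,6,8,8,9,9,11,11,12,12,13,14,14] 2 [14] (.fuse [3,4,5,5,6,6,7,7,8,8,9,9,10,10,11,11,13,14,15] 2 [] (.prune [0,0,0,0,0,0,0,0,0,0,0,0,0,0,1,0]))))) (.fuse [0] 1 [14,15,15] (.fuse [3,6,6,7,7,9,10,10,14] 2 [13,13,14,14,15,15] (.fuse [7,8,8,11,11,14,14,15,15] 2 [15] (.fuse [0,3,6,6,7,7,8,8,10,10,11,13,13] 1 [15,15] (.fuse [4,6,6,11,12,13,13,14,15,15] 1 [] (.prune [0,0,0,0,0,0,0,0,0,0,0,0,0,0,0,2]))))))))))))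

theorem cert11_ok : certOK leafVecs cert11 [0,0,0,2,1] = true := by decide +kernel

def cert12 : Cert := (.fuse [2] 2 [8,9,11,11,12,12,13,14,14] (.fuse [1] 2 [8,8,13,15,15] (.split (.fuse [0] 2 [11,11,14,14,15,15] (.split (.split (.fuse [0,4,4,5,6,6,7,8,8,9,9,10,13,14,15,15] 1 [12,13,15] (.fuse [0,4,4,5,6,6,7,8,8,9,10,11,14,15,15] 2 [] (.split (.fuse [5,6,7,9,9,10,12,12,13] 2 [15] (.prune [0,0,0,0,0,0,0,0,0,0,0,0,0,0,1,2])) (.fuse [0,4,4,5,6,6,7,7,9,10,10,11,11,12,12,14,14] 1 [15] (.prune [0,0,0,0,0,0,0,0,0,0,0,0,0,0,1,2])) (.fuse [0,4,4,5,6,6,7,7,9,10,10,11,11,12,12,14,14] 2 [15] (.prune [0,0,0,0,0,0,0,0,0,0,0,0,0,0,1,2]))))) (.fuse [9,11,11,13,14,15] 1 [12,12,13,15] (.fuse [4,5,6,6,7,7,8,9,9,10,10,13,13,14,15,15] 1 [13,13,15,15] (.fuse [4,5,6,6,7,8,8,9,9,10,13,14,15,15]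 2 [14,15,15] (.fuse [0,4,4,5,6,6,7,8,8,9,9,10,13,14,15,15] 2 [] (.fuse [3,6,6,7,7,10,10,11,13,13,15,15] 2 [] (.leaf 349)))))) (.fuse [0,4,4,5,6,6,7,8,8,9,9,10,13,14,15,15] 2 [12,12,13,13,14,15,15] (.fuse [0,4,4,5,6,6,7,8,8,10,11,11,12,14,15] 1 [] (.fuse [0,5,5,6,9,9,11,11,12,12,13,13,14,14] 1 [15,15] (.fuse [0,4,4,5,6,6,8,11,13,13,14] 2 [15,15] (.prune [0,0,0,0,0,0,0,0,0,0,0,0,0,0,2,1])))))) (.split (.fuse [0,4,4,5,6,6,7,8,8,9,9,10,13,14,15,15] 1 [12,12,13,13,15] (.fuse [0,3,3,4,4,5,7,7,8,8,9,9,10,10,11,11,12,13,14,14,15] 2 [13,13,14] (.fuse [0,4,4,5,6,6,7,8,8,9,10,11,14,15] 1 [] (.fuse [0,4,4,5,5,8,11,12,13,13] 1 [15] (.prune [0,0,0,0,0,0,0,0,0,0,0,0,0,0,2,1]))))) (.fuse [3,6,6,7,7,10,10,11,13,13,15,15] 1 [14,14,15,15] (.fuse [0,4,4,5,6,6,7,8,8,9,9,10,13,14,15,15]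 1 [13,14,14] (.fuse [0,3,3,4,4,5,7,7,8,8,10,10,12,13,13,14,15,15] 2 [15] (.fuse [0,3,3,5,6,8,8,11,12,13,13,15,15] 2 [15,15] (.prune [0,0,0,0,0,0,0,0,0,0,0,0,0,0,1,2]))))) (.fuse [0,4,4,5,6,6,7,8,8,9,9,10,13,14,15,15] 2 [14,15,15] (.fuse [3,6,6,7,7,8,9,9,10,10,11,11,12,12,15] 1 [13,13,14,14] (.fuse [3,5,8,8,9,11,12,12,15,15] 1 [14,15,15] (.fuse [0,3,4,4,5,6,9,9,11,11,12,12,13,14,14,15] 2 [15,15] (.fuse [0,3,3,4,4,5,5,6,7,7,11,14,15] 2 [] (.leaf 350))))))) (.split (.fuse [0,4,4,5,6,6,7,8,8,9,9,10,13,14,15,15] 1 [15] (.fuse [3,6,6,7,7,9,10,10,12,12,13,13] 2 [13,14,14,15] (.fuse [7,8,8,11,11,13,14,14,15,15] 2 [15,15] (.fuse [0,3,4,4,5,6,9,9,11,11,12,12,13,14,14,15] 2 [15,15] (.fuse [0,5,5,6,8,12,12,14,14] 2 [] (.leaf 351)))))) (.fuse [3,6,6,7,7,10,10,11,13,13,15,15] 2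 [14,15,15] (.fuse [0,4,4,5,6,6,7,8,8,9,9,10,13,14,15,15] 2 [13,13,14,14] (.fuse [0,3,3,4,4,5,7,7,8,8,9,10,10,12,14] 1 [14] (.fuse [0,4,4,5,5,7,7,8,8,9,10,10,11,11,14,14,15,15] 2 [] (.prune [0,0,0,0,0,0,0,0,0,0,0,0,0,0,2,1]))))) (.fuse [0,4,4,5,6,6,7,8,8,9,9,10,13,14,15,15] 2 [12,13,14,15,15] (.fuse [0,3,3,4,4,5,7,7,8,8,9,9,10,10,11,11,12,13,14,14,15] 1 [13,15,15] (.fuse [0,4,4,5,6,6,7,10,11,11,12,12,13] 2 [] (.fuse [4,5,6,6,7,8,8,9,9,10,12,12,14,14,15,15] 2 [] (.prune [0,0,0,0,0,0,0,0,0,0,0,0,0,0,1,2])))))))) (.fuse [0] 1 [11] (.split (.split (.fuse [0,4,5,5,6,7,7,8,9,10,10,12,12,13] 2 [12,12,13,13,14,15,15] (.fuse [0,4,5,5,6,7,7,8,9,9,10,10,11,11,12,13,14,14,15,15] 1 [13,13,15,15] (.fuse [0,4,5,5,6,7,8,8,9,9,10,11,11,12,15] 2 [14] (.fuse [5,6,7,8,9,9,10,11,11,12,12,13,14,14]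 2 [15,15] (.prune [0,0,0,0,0,0,0,0,0,0,0,0,0,0,1,2]))))) (.fuse [0,4,5,5,6,7,7,8,9,10,10,12,12,13] 1 [14,15] (.fuse [0,4,5,5,6,7,7,8,10,10,11,12,12,14,14] 1 [15] (.fuse [0,5,6,6,9,11,13,14,15] 1 [] (.fuse [0,4,5,5,6,7,8,8,10,11,12,12,13,14,14,15,15] 1 [15] (.fuse [7,13,14,15,15] 2 [] (.leaf 352)))))) (.fuse [9,11,11,13,14,15] 1 [12,12,14] (.fuse [0,4,5,5,6,7,7,8,9,10,10,12,12,13] 1 [13,14] (.fuse [0,4,4,7,10,11,11,12,14,14] 2 [15] (.fuse [0,5,6,6,7,8,8,9,9,10,14] 1 [] (.prune [0,0,0,0,0,0,0,0,0,0,0,0,0,0,2,1])))))) (.split (.fuse [0,4,5,5,6,7,7,8,9,10,10,12,12,13] 2 [12,13,14,15] (.fuse [0,3,4,5,5,7,8,9,10,13,13,14,14] 1 [13] (.fuse [0,4,5,5,6,7,7,8,9,9,10,10,11,11,12,13,14,14,15,15] 1 [15] (.fuse [0,3,3,4,4,6,7,7,8,9,9,10,10,11,11,12,13,14] 2 [15] (.prune [0,0,0,0,0,0,0,0,0,0,0,0,0,0,2,0])))))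 (.fuse [0,4,5,5,6,7,7,8,9,10,10,12,12,13] 1 [12,12,13,13,14] (.fuse [0,3,3,4,5,5,6,6,8,9,11,11,12,14,14,15,15] 2 [13,13,14,14,15,15] (.fuse [0,4,5,5,6,7,7,8,10,10,11,12,12,14,14,15,15] 2 [] (.fuse [0,3,4,4,6,6,8,8,9,11,11,12,15,15] 2 [] (.prune [0,0,0,0,0,0,0,0,0,0,0,0,0,0,1,1]))))) (.fuse [3,6,6,7,7,10,10,11,13,13,15,15] 1 [14,14,15,15] (.fuse [3,6,6,7,7,9,9,10,10,11,11,13,14,14] 1 [14,15,15] (.fuse [3,5,8,8,9,13] 2 [14,14,15] (.fuse [0,4,5,5,6,7,7,8,9,10,10,12,12,13] 1 [15,15] (.fuse [0,3,4,6,8,8,9,9,10,10,11,11,12,13,13,14,14] 2 [] (.prune [0,0,0,0,0,0,0,0,0,0,0,0,0,0,0,2]))))))) (.split (.fuse [0,4,5,5,6,7,7,8,9,10,10,12,12,13] 2 [14] (.fuse [3,6,6,7,7,9,10,10,12,12,13,13,14,14,15] 2 [15] (.fuse [3,4,4,5,5,9,9,11,11,13,13,14] 2 [14] (.fuse [3,4,4,5,5,7,7,8,9,9,13,13,14,14,15,15]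 1 [] (.fuse [0,3,3,4,5,5,6,6,8,9,11,11,12,14,14,15,15] 2 [] (.prune [0,0,0,0,0,0,0,0,0,0,0,0,0,0,0,1])))))) (.fuse [0,4,5,5,6,7,7,8,9,10,10,12,12,13] 1 [12,13,14,15,15] (.fuse [0,3,4,5,5,7,8,9,10,13,13,14,14] 1 [13,14,14,15] (.fuse [0,3,3,4,5,5,6,6,8,9,9,12,13,14] 1 [14] (.fuse [3,5,5,6,8,8,9,9,11,11,12,13,14] 2 [] (.prune [0,0,0,0,0,0,0,0,0,0,0,0,0,0,2,2]))))) (.fuse [3,6,6,7,7,10,10,11,13,13,15,15] 2 [14,15,15] (.fuse [0,4,5,5,6,7,7,8,9,10,10,12,12,13] 2 [13,13,14,15] (.fuse [0,3,3,4,5,5,6,6,8,12,13,13,14] 2 [14,14,15,15] (.fuse [4,5,6,6,7,8,8,9,9,10,11,11,14,15,15] 1 [15,15] (.prune [0,0,0,0,0,0,0,0,0,0,0,0,0,0,1,0])))))))) (.fuse [4,5,5,6,7,7,9,10,10,11,12,12,13,14,14,15] 2 [11,12,12,13,13,14,15,15] (.split (.split (.fuse [9,11,11,13,14,15] 1 [12,12,13,13,14,14,15,15]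 (.fuse [7,8,8,10,13,13,14,14,15,15] 1 [14,14,15,15] (.split (.fuse [0] 1 [] (.prune [0,0,0,0,0,0,0,0,0,0,0,0,0,0,1,2])) (.fuse [0] 2 [] (.prune [0,0,0,0,0,0,0,0,0,0,0,0,0,0,1,2])) (.fuse [5,6,7,9,9,10,13,13,14] 1 [] (.prune [0,0,0,0,0,0,0,0,0,0,0,0,0,0,1,2]))))) (.fuse [0] 2 [14,15] (.fuse [0,9,11,11,13,14,15] 2 [13,13] (.fuse [0,4,5,6,6,7,7,8,10,10,11,11,15] 1 [14,14,15] (.fuse [0,4,4,5,5,6,8,9,9,11,12,12,13] 1 [15,15] (.fuse [3,6,6,7,7,10,10,11,13,13,15,15] 1 [] (.leaf 353)))))) (.fuse [0] 1 [14,15,15] (.fuse [0,9,9,11,13,13,14,14,15,15] 1 [13,14,14] (.fuse [0,4,5,6,6,7,7,8,9,10,10,11,13,14,15,15] 2 [15,15] (.fuse [12,13,15,15] 2 [] (.prune [0,0,0,0,0,0,0,0,0,0,0,0,0,0,2,1])))))) (.split (.fuse [3,6,6,7,7,10,10,11,13,13,15,15] 1 [14,14,15,15] (.fuse [3,6,6,7,7,9,9,10,10,11,11,13,14,14]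 1 [13] (.fuse [3,4,4,5,5,11,13,13,15] 2 [14,14,15] (.fuse [0] 1 [] (.prune [0,0,0,0,0,0,0,0,0,0,0,0,0,0,2,2]))))) (.fuse [0] 2 [14,15] (.fuse [3,6,6,7,7,8,8,9,9,10,10,11,13,14,14,15] 1 [13,14,15] (.fuse [3,4,5,6,7,8,9,10,14,15,15] 2 [14,14] (.fuse [0,3,6,6,7,7,8,8,10,10,11,13,13] 1 [15,15] (.prune [0,0,0,0,0,0,0,0,0,0,0,0,0,0,1,0]))))) (.fuse [0] 1 [14,15,15] (.fuse [3,6,6,7,7,8,9,9,10,10,11,13,14,15,15] 1 [13,14,14] (.fuse [7,8,8,11,11,13,14,14] 1 [15] (.fuse [0,3,3,6,7,10,11,11,13,15] 2 [15,15] (.fuse [3,5,8,8,9,12,13,13,14,14,15,15] 1 [] (.prune [0,0,0,0,0,0,0,0,0,0,0,0,0,0,0,1]))))))) (.split (.fuse [3,6,6,7,7,10,10,11,13,13,15,15] 2 [14,15,15] (.fuse [3,6,6,7,7,9,10,10,11] 2 [13,13,15] (.fuse [3,4,4,5,5,9,9,12,14,14] 1 [14] (.fuse [0] 1 [] (.fuse [0,3,3,4,5,7,7,8,8,9,11,15]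 1 [] (.prune [0,0,0,0,0,0,0,0,0,0,0,0,0,0,0,2])))))) (.fuse [0] 2 [14,15] (.fuse [3,6,6,7,7,9,10,10,14] 2 [13,13] (.fuse [5,6,8,8,9,9,11,11,12,13,13,15,15] 2 [14,14] (.fuse [3,5,8,11,11,12,13,14,15,15] 1 [15,15] (.prune [0,0,0,0,0,0,0,0,0,0,0,0,0,0,2,0]))))) (.fuse [0] 1 [14,15,15] (.fuse [3,6,6,7,7,9,10,10,14] 2 [13,13,15,15] (.fuse [3,4,5,6,7,8,8,10,11,11,13,13,14] 1 [14,14] (.fuse [0,3,6,6,7,7,8,8,10,10,11,13,13] 1 [15,15] (.prune [0,0,0,0,0,0,0,0,0,0,0,0,0,0,1,1])))))))))))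

theorem cert12_ok : certOK leafVecs cert12 [0,0,0,2,2] = true := by decide +kernel


end H49.Order3.Fi24
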