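/-
Generated data: part of the certificate tree, with its check.
-/
import Cfsg.Agent.H49.Order3.Fi24.CertDef
import Cfsg.Agent.H49.Order3.Fi24.Data.Leaves

set_option autoImplicit false
set_option maxRecDepth 100000
set_option linter.all false
set_option Elab.async false

namespace H49.Order3.Fi24

def cert13 : Cert := (.fuse [0] 2 [4,5,5,6,6,9,12,14,15] (.split (.fuse [4,5,5,6,7,9,10,11,14,14] 2 [6,6,7,7,9,10,10,11,13,13,14,14,15] (.fuse [0,1,3,3,6,7,10,11,11,13,15] 1 [7,8,8,10,13,13,15] (.fuse [0,1,3,6,6,7,7,8,10,10,11,13,13,15] 2 [10,10,11,12,12,13,13,14,14] (.prune [0,0,0,0,0,0,0,2,0,0,2,1,2,1,0,1])))) (.fuse [2] 1 [6,7,8,9,9,10,11,12,12,13,13,14] (.fuse [0,1,3,3,6,7,10,11,11,13,15] 2 [7,8,8,10,12,13,13,14] (.fuse [2,4,6,6,7,7,10,10,12,15,15] 1 [8,8,10,12,12,13,14,15]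 (.prune [0,0,0,0,0,0,0,1,2,0,1,0,0,0,1,0])))) (.fuse [2] 2 [6,6,7,7,8,9,10,10,12,12,14,14] (.fuse [3,6,6,7,7,8,8,10,10,11,13,13] 1 [7,7,10,10,11,12,12,13,14,15,15] (.fuse [0,1,3,3,6,7,10,11,11,13,15] 1 [8,10,11,12,12,13,14] (.split (.split (.fuse [9,11,11,13,14,15] 2 [12,13,14,15] (.split (.fuse [2,4,4,5,6,6,8,8,9,9,11,11,12,13,13,14,14,15] 1 [13,13,14,14,15,15] (.fuse [0,1,3,3,5,5,7,7,8,9,10,10] 2 [] (.prune [0,0,0,0,0,0,0,0,0,0,0,0,0,2,2,0]))) (.fuse [2,4,4,5,6,6,8,8,9,9,11,11,12,13,13,14,14,15] 2 [14,14] (.fuse [0,1,3,3,5,5,7,7,8,9,10,10] 2 [14,14] (.prune [0,0,0,0,0,0,0,0,0,0,0,0,0,1,1,0]))) (.fuse [5,6,6,7,9,9,10,11,11,12,12,13,14,15] 2 [13,13,14,14,15,15] (.fuse [0,1,3,3,5,5,7,7,8,9,10,10] 2 [14] (.fuse [2,4,4,5,6,6,8,8,9,9,10,11,11,12,12,14,14,15] 1 [] (.fuse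 [2,4,4,7,7,11,11,13,15] 1 [] (.leaf 354))))))) (.fuse [0,1,3,3,5,5,7,7,8,9,10,10] 1 [12,13] (.split (.fuse [0,1,2,2,3,3,4,6,6,7,7,8,8,10,10,11,12,12,13,14,14,15,15] 2 [13,13,14,14,15,15] (.fuse [2,4,4,5,6,6,8,8,10,11,12,12,13,13,14] 1 [15] (.prune [0,0,0,0,0,0,0,0,0,0,0,0,0,1,1,1]))) (.fuse [0,1,2,2,3,3,4,6,6,7,7,8,8,10,10,11,12,12,13,14,14,15,15] 1 [15] (.fuse [0,1,2,3,3,4,4,7,7,8,8,9,9,10,10,11,12,12,15,15] 1 [15] (.fuse [0,1,2,3,3,4,4,9,9,11,11,12,12,13,13,14,14] 2 [] (.fuse [2,4,4,5,6,6,7,7,8,11] 1 [] (.prune [0,0,0,0,0,0,0,0,0,0,0,0,0,0,0,1]))))) (.fuse [2,4,4,5,6,6,8,8,10,11,12,12,13,13,14] 2 [] (.fuse [0,1,2,2,3,3,4,6,6,7,7,8,8,10,10,11,12,12,13,14,14,15,15] 1 [14] (.prune [0,0,0,0,0,0,0,0,0,0,0,0,0,2,2,1]))))) (.fuse [0,1,3,3,5,5,7,7,8,9,10,10] 2 [12,12]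 (.split (.fuse [0,1,2,2,3,3,4,6,6,7,7,8,8,10,10,11,12,12,13,14,14,15,15] 2 [13,13,14,15,15] (.fuse [0,1,2,3,3,4,4,9,10,10,12,13,14,14] 1 [14,14,15] (.fuse [0,1,2,3,3,4,4,5,5,6,9,9,10,10] 1 [15,15] (.fuse [5,6,6,7,8,9,9,10,11,12,12,13,13,15,15] 2 [] (.prune [0,0,0,0,0,0,0,0,0,0,0,0,0,0,0,2]))))) (.fuse [0,1,2,2,3,3,4,6,6,7,7,8,8,10,10,11,12,12,13,14,14,15,15] 1 [14,14,15] (.fuse [0,1,2,2,3,3,4,5,5,7,8,8,9,10,11,11,12,12,13,13,14,15] 2 [15] (.prune [0,0,0,0,0,0,0,0,0,0,0,0,0,2,2,2]))) (.fuse [2,4,4,5,6,6,7,7,8,9,10,10,11,11,14,15] 1 [14,14] (.fuse [0,1,2,2,3,3,4,6,6,7,7,8,8,10,10,11,12,12,13,14,14,15,15] 1 [] (.prune [0,0,0,0,0,0,0,0,0,0,0,0,0,1,1,2])))))) (.split (.fuse [9,11,11,13,14,15] 2 [12,13,14,14] (.split (.fuse [5,6,6,7,9,9,10,11,11,12,12,13,14,15] 2 [13,13,14,14,15,15]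 (.fuse [0,1,3,3,5,5,7,7,8,9,10,10] 2 [14,15] (.fuse [2,4,4,5,6,6,8,8,9,9,10,11,11,12,12,14,14,15] 1 [15,15] (.fuse [0,1,2,3,3,4,4,11,12,12,15] 1 [] (.leaf 355))))) (.fuse [2,4,4,5,6,6,8,8,9,9,11,11,12,13,13,14,14,15] 1 [13,13,14,14,15,15] (.fuse [0,1,3,3,5,5,7,7,8,9,10,10] 2 [15] (.prune [0,0,0,0,0,0,0,0,0,0,0,0,0,2,2,0]))) (.fuse [2,4,4,5,6,6,8,8,9,9,11,11,12,13,13,14,14,15] 2 [14,14] (.fuse [0,1,3,3,5,5,7,7,8,9,10,10] 2 [14,14,15] (.prune [0,0,0,0,0,0,0,0,0,0,0,0,0,1,1,0]))))) (.fuse [0,1,3,3,5,5,7,7,8,9,10,10] 1 [12,13,14,15] (.split (.fuse [2,4,4,5,6,6,8,8,10,11,12,12,13,13,14] 2 [14,15] (.fuse [0,1,2,2,3,3,4,6,6,7,7,8,8,10,10,11,12,12,13,14,14,15,15] 1 [14,15] (.prune [0,0,0,0,0,0,0,0,0,0,0,0,0,2,2,0]))) (.fuse [0,1,2,2,3,3,4,6,6,7,7,8,8,10,10,11,12,12,13,14,14,15,15]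 2 [13,13,14,14] (.fuse [2,4,4,5,6,6,8,8,10,11,12,12,13,13,14] 1 [14,15,15] (.prune [0,0,0,0,0,0,0,0,0,0,0,0,0,1,1,0]))) (.fuse [0,1,2,2,3,3,4,6,6,7,7,8,8,10,10,11,12,12,13,14,14,15,15] 1 [15,15] (.fuse [0,1,2,3,3,4,4,7,7,8,8,9,9,10,10,11,12,12,15,15] 1 [14,14] (.fuse [0,1,2,3,3,4,4,9,9,11,11,12,12,13,13,14,14] 1 [15,15] (.fuse [2,4,4,5,6,6,10,12,13,14,14,15] 1 [] (.leaf 356))))))) (.fuse [0,1,3,3,5,5,7,7,8,9,10,10] 2 [12,12,14,15] (.split (.fuse [2,4,4,5,6,6,7,7,8,9,10,10,11,11,14,15] 1 [14,15] (.fuse [0,1,2,2,3,3,4,6,6,7,7,8,8,10,10,11,12,12,13,14,14,15,15] 1 [15] (.prune [0,0,0,0,0,0,0,0,0,0,0,0,0,1,1,0]))) (.fuse [0,1,2,2,3,3,4,6,6,7,7,8,8,10,10,11,12,12,13,14,14,15,15] 2 [13,13,14] (.fuse [0,1,2,3,3,4,4,9,10,10,12,13,14,14] 1 [15,15] (.fuse [0,1,2,3,3,4,4,5,5,6,9,9,10,10]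 2 [] (.fuse [5,6,6,7,8,9,9,10,11,12,12,13,13,15,15] 2 [] (.leaf 357))))) (.fuse [0,1,2,2,3,3,4,6,6,7,7,8,8,10,10,11,12,12,13,14,14,15,15] 1 [14,14,15,15] (.fuse [0,1,2,2,3,3,4,5,5,7,8,8,9,10,11,11,12,12,13,13,14,15] 2 [15,15] (.prune [0,0,0,0,0,0,0,0,0,0,0,0,0,2,2,0])))))) (.split (.fuse [9,11,11,13,14,15] 2 [12,13,15,15] (.split (.fuse [2,4,4,5,6,6,8,8,9,9,11,11,12,13,13,14,14,15] 2 [14,14] (.fuse [0,1,3,3,5,5,7,7,8,9,10,10] 2 [14,14,15,15] (.prune [0,0,0,0,0,0,0,0,0,0,0,0,0,1,1,0]))) (.fuse [5,6,6,7,9,9,10,11,11,12,12,13,14,15] 2 [13,13,14,14,15,15] (.fuse [0,1,3,3,5,5,7,7,8,9,10,10] 2 [14,15,15] (.fuse [2,4,4,5,6,6,8,8,9,9,10,11,11,12,12,14,14,15] 1 [15] (.fuse [0,1,2,3,3,4,4,11,12,12,15] 2 [] (.leaf 358))))) (.fuse [2,4,4,5,6,6,8,8,9,9,11,11,12,13,13,14,14,15]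 1 [13,13,14,14,15,15] (.fuse [0,1,3,3,5,5,7,7,8,9,10,10] 2 [15,15] (.prune [0,0,0,0,0,0,0,0,0,0,0,0,0,2,2,0]))))) (.fuse [0,1,3,3,5,5,7,7,8,9,10,10] 1 [12,13,14,14,15,15] (.split (.fuse [0,1,2,2,3,3,4,6,6,7,7,8,8,10,10,11,12,12,13,14,14,15,15] 1 [] (.fuse [0,1,2,3,3,4,4,7,7,8,8,9,9,10,10,11,12,12,15,15] 1 [14,15,15] (.fuse [2,4,4,5,6,6,10,12,13,14,14,15] 1 [15,15] (.fuse [0,1,2,3,3,4,4,9,9,11,11,12,12,13,13,14,14] 1 [] (.prune [0,0,0,0,0,0,0,0,0,0,0,0,0,0,0,2]))))) (.fuse [2,4,4,5,6,6,8,8,10,11,12,12,13,13,14] 2 [14,14,15,15] (.fuse [0,1,2,2,3,3,4,6,6,7,7,8,8,10,10,11,12,12,13,14,14,15,15] 1 [14,15,15] (.prune [0,0,0,0,0,0,0,0,0,0,0,0,0,2,2,2]))) (.fuse [0,1,2,2,3,3,4,6,6,7,7,8,8,10,10,11,12,12,13,14,14,15,15] 2 [13,13,14,14,15] (.fuse [2,4,4,5,6,6,8,8,10,11,12,12,13,13,14]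 1 [14,14] (.prune [0,0,0,0,0,0,0,0,0,0,0,0,0,1,1,2]))))) (.fuse [0,1,3,3,5,5,7,7,8,9,10,10] 2 [12,12,14,14,15,15] (.split (.fuse [0,1,2,2,3,3,4,6,6,7,7,8,8,10,10,11,12,12,13,14,14,15,15] 1 [14,14] (.fuse [0,1,2,2,3,3,4,5,5,7,8,8,9,10,11,11,12,12,13,13,14,15] 2 [] (.prune [0,0,0,0,0,0,0,0,0,0,0,0,0,2,2,1]))) (.fuse [2,4,4,5,6,6,7,7,8,9,10,10,11,11,14,15] 1 [15,15] (.fuse [0,1,2,2,3,3,4,6,6,7,7,8,8,10,10,11,12,12,13,14,14,15,15] 1 [15,15] (.prune [0,0,0,0,0,0,0,0,0,0,0,0,0,1,1,1]))) (.fuse [0,1,2,2,3,3,4,6,6,7,7,8,8,10,10,11,12,12,13,14,14,15,15] 2 [13,13,14,15] (.fuse [0,1,2,3,3,4,4,9,10,10,12,13,14,14] 1 [14] (.fuse [2,4,4,5,5,6,7,8,8,10,11,11,12,12,13] 2 [15] (.fuse [0,1,2,3,3,4,4,5,5,6,9,9,10,10] 1 [] (.prune [0,0,0,0,0,0,0,0,0,0,0,0,0,0,0,1]))))))))))))))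

theorem cert13_ok : certOK leafVecs cert13 [0,0,1] = true := by decide +kernel

def cert14 : Cert := (.fuse [0] 1 [4,4,5,5,8,8,9,11,12,13,13,14,14,15,15] (.split (.fuse [4,5,5,6,7,9,10,11,14,14] 1 [6,7,7,8,8,9,9,10,10,11,11,13,14] (.fuse [0,1,3,3,6,7,10,11,11,13,15] 2 [8,11,11,12,15,15] (.fuse [0,1,3,6,6,7,7,8,10,10,11,13,13,15] 1 [10,11,11,12,13,14,15,15] (.prune [0,0,0,0,0,0,0,1,0,0,1,2,1,2,0,2])))) (.fuse [2] 1 [6,7,8,9,9,10,11,12,12,13,13,14] (.fuse [3,6,6,7,7,8,8,10,10,11,13,13] 2 [7,7,8,8,10,10,11,11,12,12,14,15,15] (.fuse [2,4,4,5,6,6,8,8,9,9,11,11,12,13,13,14,14,15] 2 [8,8,10,10,11,11,12,13,13,14,15] (.split (.split (.fuse [9,11,11,13,14,15] 1 [15,15] (.split (.fuse [0,1,3,3,6,7,10,11,11,13,15] 1 [13,13,14,14] (.fuse [2,4,4,6,7,10,12,13,13,14,14,15] 2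 [14] (.fuse [2,4,4,5,8,9,9,13,14,14,15,15] 1 [15,15] (.fuse [0,1,3,3,6,7,8,8,10,13,14,15] 1 [] (.leaf 359))))) (.fuse [0,1,3,3,6,7,10,11,11,13,15] 1 [13,13,14,14,15] (.fuse [0,1,2,2,3,3,4,5,5,6,7,7,8,8,9,10,10,11,13,13,14] 2 [14,14,15,15] (.prune [0,0,0,0,0,0,0,0,0,0,0,0,0,2,2,0]))) (.fuse [0,1,3,3,6,7,10,11,11,13,15] 1 [13,13,14,14,15,15] (.fuse [5,6,6,7,7,8,9,9,10,10,13,14,15] 1 [14,14] (.prune [0,0,0,0,0,0,0,0,0,0,0,0,0,1,1,0]))))) (.fuse [0,1,3,3,6,7,10,11,11,13,15] 1 [12,13,13,15] (.split (.fuse [0,1,2,2,3,3,4,5,5,6,7,7,8,8,9,10,10,11,13,13,14] 2 [13,14] (.fuse [0,1,2,3,3,4,4,7,7,8,8,9,10,11,11,12,12,13,15] 2 [14,15,15] (.prune [0,0,0,0,0,0,0,0,0,0,0,0,0,2,2,2]))) (.fuse [0,1,2,2,3,3,4,5,5,6,7,7,8,8,9,10,10,11,13,13,14] 1 [13,13,14] (.fuse [0,1,2,2,3,3,4,5,6,6,8,9,9,11,14,14,15,15]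 2 [15,15] (.prune [0,0,0,0,0,0,0,0,0,0,0,0,0,1,1,2]))) (.fuse [2,4,4,6,8,8,9,9,12,13,14,15] 1 [13,14] (.fuse [2,4,4,5,5,6,6,7,8,10,14] 1 [14,14,15] (.fuse [0,1,2,2,3,3,4,5,5,6,7,7,8,8,9,10,10,11,13,13,14] 1 [] (.fuse [0,1,2,3,3,4,4,5,5,6,9,9,10,10,13] 2 [] (.prune [0,0,0,0,0,0,0,0,0,0,0,0,0,0,0,2]))))))) (.fuse [0,1,3,3,6,7,10,11,11,13,15] 2 [12,13,13,14,15,15] (.split (.fuse [2,4,4,6,7,9,10,10,11,11,12,14,15,15] 1 [13,14] (.fuse [0,1,2,2,3,3,4,5,5,6,7,7,8,8,9,10,10,11,13,13,14] 1 [15] (.prune [0,0,0,0,0,0,0,0,0,0,0,0,0,1,1,1]))) (.fuse [0,1,2,2,3,3,4,5,5,6,7,7,8,8,9,10,10,11,13,13,14] 2 [13,13,15] (.fuse [5,6,6,7,7,8,8,9,9,10,10,11,11,12,12,13,14,15,15] 2 [14,14,15,15] (.fuse [2,4,4,5,5,6,6,7,7,8,8,9,9,11,11,12,13,14,14,15] 2 [] (.fuse [0,1,2,3,3,4,4,7,8,9,9,10,12]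 2 [] (.prune [0,0,0,0,0,0,0,0,0,0,0,0,0,0,0,1]))))) (.fuse [0,1,2,2,3,3,4,5,5,6,7,7,8,8,9,10,10,11,13,13,14] 1 [15] (.fuse [0,1,2,2,3,3,4,7,7,8,10,10,11,11,13,14,15] 1 [14,15] (.prune [0,0,0,0,0,0,0,0,0,0,0,0,0,2,2,1])))))) (.split (.fuse [9,11,11,13,14,15] 1 [14] (.split (.fuse [0,1,3,3,6,7,10,11,11,13,15] 1 [13,13,14,14] (.fuse [5,6,6,7,7,8,9,9,10,10,13,14,15] 1 [14,14] (.prune [0,0,0,0,0,0,0,0,0,0,0,0,0,1,1,0]))) (.fuse [0,1,3,3,6,7,10,11,11,13,15] 1 [13,13,14,14,15] (.fuse [2,4,4,6,7,10,12,13,13,14,14,15] 2 [14] (.fuse [2,4,4,5,8,9,9,13,14,14,15,15] 1 [15,15] (.fuse [0,1,3,3,6,7,8,8,10,13,14,15] 2 [] (.leaf 360))))) (.fuse [0,1,3,3,6,7,10,11,11,13,15] 1 [13,13,14,14,15,15] (.fuse [0,1,2,2,3,3,4,5,5,6,7,7,8,8,9,10,10,11,13,13,14] 2 [14,14] (.prune [0,0,0,0,0,0,0,0,0,0,0,0,0,2,2,0])))))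 (.fuse [0,1,3,3,6,7,10,11,11,13,15] 1 [12,13,13,15] (.split (.fuse [2,4,4,6,8,8,9,9,12,13,14,15] 1 [13,15,15] (.fuse [2,4,4,5,5,6,6,7,8,10,14] 1 [14] (.fuse [0,1,2,2,3,3,4,5,5,6,7,7,8,8,9,10,10,11,13,13,14] 1 [15] (.fuse [0,1,2,2,3,3,4,5,5,6,7,7,9,10,10,11,11,13,13,15] 1 [] (.leaf 361))))) (.fuse [0,1,2,2,3,3,4,5,5,6,7,7,8,8,9,10,10,11,13,13,14] 2 [13,14,15] (.fuse [0,1,2,3,3,4,4,7,7,8,8,9,10,11,11,12,12,13,15] 2 [14,14,15,15] (.prune [0,0,0,0,0,0,0,0,0,0,0,0,0,2,2,0]))) (.fuse [0,1,2,2,3,3,4,5,5,6,7,7,8,8,9,10,10,11,13,13,14] 1 [13,13,14,15] (.fuse [0,1,2,2,3,3,4,5,6,6,8,9,9,11,14,14,15,15] 2 [] (.prune [0,0,0,0,0,0,0,0,0,0,0,0,0,1,1,0]))))) (.fuse [0,1,3,3,6,7,10,11,11,13,15] 2 [12,13,13,14,15,15] (.split (.fuse [0,1,2,2,3,3,4,5,5,6,7,7,8,8,9,10,10,11,13,13,14]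 1 [15,15] (.fuse [0,1,2,2,3,3,4,7,7,8,10,10,11,11,13,14,15] 1 [14,15,15] (.prune [0,0,0,0,0,0,0,0,0,0,0,0,0,2,2,0]))) (.fuse [2,4,4,6,7,9,10,10,11,11,12,14,15,15] 1 [13,14,14] (.fuse [0,1,2,2,3,3,4,5,5,6,7,7,8,8,9,10,10,11,13,13,14] 1 [15,15] (.prune [0,0,0,0,0,0,0,0,0,0,0,0,0,1,1,0]))) (.fuse [0,1,2,2,3,3,4,5,5,6,7,7,8,8,9,10,10,11,13,13,14] 2 [13,13,15,15] (.fuse [5,6,6,7,7,8,8,9,9,10,10,11,11,12,12,13,14,15,15] 2 [14,14,15,15] (.fuse [0,1,2,3,3,4,4,7,8,9,9,10,12] 2 [15,15] (.fuse [0,1,2,3,3,4,4,7,8,8,9,9,10,11,12,14,14,15,15] 1 [] (.leaf 362)))))))) (.split (.fuse [9,11,11,13,14,15] 1 [14,14,15] (.split (.fuse [0,1,3,3,6,7,10,11,11,13,15] 1 [13,13,14,14] (.fuse [0,1,2,2,3,3,4,5,5,6,7,7,8,8,9,10,10,11,13,13,14] 2 [14,14,15] (.prune [0,0,0,0,0,0,0,0,0,0,0,0,0,2,2,0])))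 (.fuse [0,1,3,3,6,7,10,11,11,13,15] 1 [13,13,14,14,15] (.fuse [5,6,6,7,7,8,9,9,10,10,13,14,15] 1 [14,14] (.prune [0,0,0,0,0,0,0,0,0,0,0,0,0,1,1,0]))) (.fuse [0,1,3,3,6,7,10,11,11,13,15] 1 [13,13,14,14,15,15] (.fuse [2,4,4,6,7,10,12,13,13,14,14,15] 2 [14] (.fuse [2,4,4,5,8,9,9,13,14,14,15,15] 1 [15,15] (.fuse [7,8,10,11,14,15,15] 1 [] (.leaf 363))))))) (.fuse [0,1,3,3,6,7,10,11,11,13,15] 1 [12,13,13,15] (.split (.fuse [0,1,2,2,3,3,4,5,5,6,7,7,8,8,9,10,10,11,13,13,14] 1 [13,13,14,15,15] (.fuse [0,1,2,2,3,3,4,5,6,6,8,9,9,11,14,14,15,15] 2 [15] (.prune [0,0,0,0,0,0,0,0,0,0,0,0,0,1,1,1]))) (.fuse [2,4,4,6,8,8,9,9,12,13,14,15] 1 [13,14,14,15] (.fuse [2,4,4,5,5,6,6,7,8,10,14] 1 [15,15] (.fuse [0,1,2,2,3,3,4,5,5,6,7,7,8,8,9,10,10,11,13,13,14] 1 [15,15] (.fuse [0,1,3,3,5,7,9,10,13,14]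 1 [] (.prune [0,0,0,0,0,0,0,0,0,0,0,0,0,0,0,1]))))) (.fuse [0,1,2,2,3,3,4,5,5,6,7,7,8,8,9,10,10,11,13,13,14] 2 [13,14,15,15] (.fuse [0,1,2,3,3,4,4,7,7,8,8,9,10,11,11,12,12,13,15] 2 [15,15] (.prune [0,0,0,0,0,0,0,0,0,0,0,0,0,2,2,1]))))) (.fuse [0,1,3,3,6,7,10,11,11,13,15] 2 [12,13,13,14,15,15] (.split (.fuse [0,1,2,2,3,3,4,5,5,6,7,7,8,8,9,10,10,11,13,13,14] 2 [13,13] (.fuse [5,6,6,7,7,8,8,9,9,10,10,11,11,12,12,13,14,15,15] 2 [14,14,15,15] (.fuse [0,1,2,3,3,4,4,7,8,9,9,10,12] 1 [15,15] (.fuse [0,1,3,3,5,8,10,11,12,13,13,14,14,15] 2 [] (.prune [0,0,0,0,0,0,0,0,0,0,0,0,0,0,0,2]))))) (.fuse [0,1,2,2,3,3,4,5,5,6,7,7,8,8,9,10,10,11,13,13,14] 1 [] (.fuse [0,1,2,2,3,3,4,7,7,8,10,10,11,11,13,14,15] 1 [14] (.prune [0,0,0,0,0,0,0,0,0,0,0,0,0,2,2,2]))) (.fuse [2,4,4,6,7,9,10,10,11,11,12,14,15,15]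 1 [13] (.fuse [0,1,2,2,3,3,4,5,5,6,7,7,8,8,9,10,10,11,13,13,14] 1 [] (.prune [0,0,0,0,0,0,0,0,0,0,0,0,0,1,1,2])))))))))) (.fuse [2] 2 [6,6,7,7,8,9,10,10,12,12,14,14] (.fuse [0,1,3,3,6,7,10,11,11,13,15] 1 [8,11,11,12,14,15] (.fuse [0,1,8,8] 2 [8,10,10,12,12,13,14,14,15] (.prune [0,0,0,0,0,0,0,2,1,0,2,0,1,1,1,2]))))))

theorem cert14_ok : certOK leafVecs cert14 [0,0,2] = true := by decide +kernel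

def cert15 : Cert := (.split (.fuse [0] 2 [6,7,10,11,11,13,15] (.fuse [0,2,2,5,6,6,9,9,11,12,13,14,14,15] 2 [5,5,6,7,7,9,10,10,11,11,12,12,14,14,15] (.split (.fuse [4,5,6,6,7,9,9,10,12,12,13,14] 2 [7,7,8,8,10,10,11,11,12,12,14,14,15] (.fuse [5,6,7,8,9,9,10,15,15] 2 [10,10,11,13,14,14,15,15] (.fuse [3,6,6,7,7,8,8,10,10,11,13,13] 2 [] (.prune [0,0,0,0,0,0,0,0,1,0,0,0,0,0,0,0])))) (.fuse [4,5,6,6,7,9,9,10,12,12,13,14] 2 [7,7,8,8,10,10,11,11,12,12,13,14] (.fuse [1] 1 [8,8,10,10,11,13,14,14,15,15] (.fuse [1,5,6,7,7,8,9,9,10,10,11,11,13,14,14,15,15] 1 [10,12,14,14,15] (.prune [0,0,0,0,0,0,0,0,2,0,0,0,0,0,0,0])))) (.fuse [4,5,6,6,7,9,9,10,12,12,13,14] 2 [7,7,8,8,10,10,11,11,12,12,13,13,15,15] (.fuse [1] 2 [8,10,11,11,13,13,14] (.fuse [1,5,5,6,6,7,7,8,9,10,10,11,11,13,13,14,14,15,15]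 1 [10,10,11,12,13,14,14,15,15] (.split (.fuse [1,3,3,5,5,9,11,12,14,15] 2 [11,12,13,14,14,15] (.fuse [1,3,3,5,5,11,12,13,14] 2 [12,13,13,15,15] (.fuse [3,10,11,11,12,13,15,15] 2 [14,15] (.split (.fuse [3,6,6,8,8,10,12,13,13,14,15] 1 [15,15] (.fuse [1,5,5,8,8,11,12,13,15] 1 [] (.leaf 364))) (.fuse [1,5,5,8,8,11,12,13,15] 2 [15,15] (.fuse [1,3,5,5,6,6,10,11,12,13,14,14,15,15] 2 [] (.prune [0,0,0,0,0,0,0,0,0,0,0,0,0,0,0,1]))) (.fuse [1,5,5,8,8,11,12,13,15] 1 [] (.fuse [3,6,6,10,11,11,12,15,15] 2 [] (.prune [0,0,0,0,0,0,0,0,0,0,0,0,0,0,0,2]))))))) (.fuse [9,11,11,13,14,15] 2 [11,11,13,13,14,14,15,15] (.fuse [1,3,3,5,5,9,11,12,14,15] 1 [12,12,13,14,14,15] (.prune [0,0,0,0,0,0,0,0,0,0,0,1,0,1,2,1]))) (.fuse [1,3,3,5,5,9,11,12,14,15] 1 [11,13,14,14,15] (.fuse [1,3,3,5,5,9,9,10,12,12,13]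 2 [13,13,14,14,15,15] (.prune [0,0,0,0,0,0,0,0,0,0,0,2,0,2,1,2])))))))))) (.fuse [0] 1 [4,5,5,6,9,12,12,14,15,15] (.fuse [0,1,1] 2 [5,7,9,9,10,11,13,13,14] (.fuse [1,2,3,3,4,5,5,6,6,8,9,13,13,14,15,15] 2 [8,8,9,11,11,12,12,14] (.prune [0,0,0,0,0,1,1,0,2,2,0,0,0,2,0,0])))) (.fuse [1] 2 [4,5,6,6,8,9,9,11,12,13,13,14,15,15] (.fuse [0] 2 [5,5,9,14,15,15] (.fuse [4,7,10,11,11,12,12,14] 1 [8,9,9,11,11,13,14,14] (.prune [0,0,0,0,0,1,0,2,2,2,2,2,0,2,2,2])))))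

theorem cert15_ok : certOK leafVecs cert15 [0,1] = true := by decide +kernel

def cert16 : Cert := (.split (.fuse [0] 1 [6,6,7,7,8,8,10,10,11,13,13] (.fuse [0,2,2,5,6,6,9,9,11,12,13,14,14,15] 1 [5,6,8,9,9,11,12,13,14,14] (.split (.fuse [4,5,6,6,7,9,9,10,12,12,13,14] 1 [7,10,11,11,12,14,14] (.fuse [5,6,7,8,9,9,10,15,15] 1 [8,8,10,13,13,14,14] (.fuse [3,6,6,7,7,8,8,10,10,11,13,13] 1 [] (.prune [0,0,0,0,0,0,0,0,2,0,0,0,0,0,0,0])))) (.fuse [4,5,6,6,7,9,9,10,12,12,13,14] 1 [7,10,11,11,12,12,14] (.fuse [1] 1 [8,8,10,10,11,13,14,14,15,15] (.fuse [3,6,6,7,7,8,8,10,10,11,13,13] 2 [] (.split (.fuse [1,5,5,6,6,7,7,8,9,10,10,11,11,13,13,14,14,15,15] 1 [11,12,12,15] (.fuse [1,5,5,6,6,7,7,8,10,10,11,11,14] 1 [12,12,13,14,15,15] (.fuse [3,8,8,10,11,12,12,14,14,15,15] 1 [14,14,15,15]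 (.split (.fuse [3,6,6,8,10,11,11,12,13,14,15,15] 2 [15] (.fuse [1,3,5,5,6,6,7,7,8,8,10,10,12,13,13,15] 2 [] (.leaf 365))) (.fuse [1,3,5,5,6,6,7,7,8,8,10,10,12,13,13,15] 2 [15,15] (.fuse [1,5,5,7,7,8,8,10,11,12] 2 [] (.prune [0,0,0,0,0,0,0,0,0,0,0,0,0,0,0,1]))) (.fuse [1,3,5,5,6,6,7,7,8,8,10,10,12,13,13,15] 1 [15,15] (.fuse [1,3,3,5,5,6,7,7,8,8,11,11,12,13,14,14,15] 2 [] (.prune [0,0,0,0,0,0,0,0,0,0,0,0,0,0,0,2]))))))) (.fuse [1,5,5,6,6,7,7,8,9,10,10,11,11,13,13,14,14,15,15] 2 [11,11,15,15] (.fuse [10,11,12,14] 1 [13,15,15] (.prune [0,0,0,0,0,0,0,0,0,0,0,1,0,1,0,2]))) (.fuse [9,11,11,13,14,15] 1 [13,13,14,14,15,15] (.fuse [3,8,8,11,11,12,13,13,14,15] 1 [12,12,13,15] (.prune [0,0,0,0,0,0,0,0,0,0,0,2,0,2,0,1]))))))) (.fuse [4,5,6,6,7,9,9,10,12,12,13,14] 1 [7,10,11,11]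 (.fuse [1] 2 [8,10,11,11,13,13,14] (.fuse [1,5,6,7,7,8,9,9,10,10,11,11,13,14,14,15,15] 1 [10,10,11,12,12,13,14,15,15] (.prune [0,0,0,0,0,0,0,0,1,0,0,0,0,0,0,0]))))))) (.fuse [1] 1 [4,4,5,6,6,7,9,9,10,13,13,14,14] (.fuse [0] 1 [5,5,8,8,9,12,13,14,15] (.fuse [1,2,2,5,5,7,7,9,10,10,12,13,15,15] 1 [6,9,9,11,12,13,14] (.prune [0,0,0,0,0,2,0,0,0,1,0,0,1,1,1,1])))) (.fuse [0] 2 [4,4,5,5,9,11,11,12,13,13,14,14] (.fuse [0,1,1] 1 [5,7,7,8,8,9,9,10,10,11,11,12,13,14,15,15] (.fuse [1,2,3,3,4,5,5,6,6,8,9,13,13,14,15,15] 2 [7,8,8,9,10,11,12,13,14,14] (.prune [0,0,0,0,0,2,2,2,2,1,2,0,2,1,2,0])))))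

theorem cert16_ok : certOK leafVecs cert16 [0,2] = true := by decide +kernel

def cert17 : Cert := (.split (.fuse [3,6,6,7,7,10,10,11,13,13,15,15] 1 [] (.split (.split (.fuse [3,6,7,8,8,10,11,11,12,12,13,13,14,14] 1 [15,15] (.split (.split (.fuse [3,6,7,8,8,11,12,12,13,13,14,14,15] 1 [] (.split (.leaf 366) (.leaf 367) (.leaf 368))) (.fuse [0] 1 [] (.fuse [0,3,3,6,6,7,7,8,11,11,12,13,14,15,15] 1 [] (.leaf 369))) (.fuse [0] 2 [] (.fuse [0,3,6,7,8,8,11,12,12,13,13,14,15] 1 [] (.leaf 370)))) (.split (.fuse [3,6,7,8,8,11,12,12,13,13,14,14,15] 1 [15,15] (.fuse [3,4,5,6,7,9,9,12,12,13,13,15,15] 2 [] (.leaf 371))) (.fuse [0] 1 [] (.fuse [0,3,3,6,6,7,7,8,11,11,12,13,14,15,15] 2 [] (.leaf 372))) (.fuse [0] 2 [] (.fuse [4,5,6,8,8,9,9,11,11,12,15] 1 [] (.leaf 373)))) (.split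 (.fuse [3,6,7,8,8,11,12,12,13,13,14,14,15] 1 [15] (.fuse [3,4,4,5,5,6,7,8,9,11,11,12,12,13,13,14,14] 1 [] (.leaf 374))) (.fuse [0] 1 [] (.fuse [4,5,6,6,9,9,11,11,13,13,15] 1 [] (.leaf 375))) (.fuse [0] 2 [] (.fuse [0,3,6,7,8,8,11,12,12,13,13,14,15] 2 [] (.leaf 376)))))) (.fuse [0] 2 [15] (.fuse [4,5,8,8,9,9,11,12,13,13,15,15] 1 [13,13] (.fuse [5,9,9,12,15,15] 2 [14,14,15] (.fuse [0,3,6,7,8,8,10,11,12,12,13,13,14,14,15] 1 [15,15] (.prune [0,0,0,0,0,0,0,0,0,0,0,0,0,0,2,0]))))) (.fuse [0] 1 [15,15] (.fuse [4,5,8,8,9,9,11,12,13,13,15,15] 2 [13] (.fuse [5,9,9,12,15,15] 1 [14,15,15] (.fuse [3,6,7,8,8,11,12,12,13,13,14,15,15] 1 [15] (.prune [0,0,0,0,0,0,0,0,0,0,0,0,0,0,1,0])))))) (.split (.fuse [3,6,7,8,8,10,11,11,12,12,13,13,14,14] 2 [12,13,13,14,15,15] (.fuse [3,6,7,8,8,10,10,12,12,13,13,14,14,15]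 1 [13,13,15] (.fuse [3,6,6,7,8,8,10,10,11,12,14,14] 2 [14] (.fuse [4,5,8,8,9,9,11,12,13,13,15,15] 1 [] (.split (.leaf 377) (.leaf 378) (.leaf 379)))))) (.fuse [0] 2 [15] (.fuse [0,3,3,6,6,7,7,8,10,10,11,12,13,15,15] 2 [13,14,14] (.fuse [4,5,6,8,8,9,9,11,13,14,14,15] 2 [14,14,15,15] (.fuse [0,10,11,14,14] 2 [] (.prune [0,0,0,0,0,0,0,0,0,0,0,0,0,0,2,0]))))) (.fuse [0] 1 [15,15] (.fuse [0,3,6,7,8,8,10,11,12,12,13,13,14,14,15] 1 [13,13,14,14,15,15] (.fuse [4,5,6,6,9,9,11,11,12,12,14] 1 [14,15] (.fuse [3,4,5,6,7,9,9,10,10,13,14,14,15,15] 1 [15,15] (.prune [0,0,0,0,0,0,0,0,0,0,0,0,0,0,1,0])))))) (.split (.fuse [10,11,15,15] 1 [14,14,15,15] (.fuse [3,6,7,8,8,10,11,11,12,12,13,13,14,14] 2 [13,14,14,15,15] (.fuse [3,6,6,7,8,8,10,12,14,14,15,15] 1 [] (.fuse [4,5,8,8,9,9,11,12,13,13,15,15]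 2 [] (.split (.leaf 380) (.leaf 381) (.leaf 382)))))) (.fuse [0] 2 [15] (.fuse [3,6,7,8,8,10,11,11,12,12,13,13,14,14] 2 [13,14,14,15] (.fuse [4,5,6,6,9,9,11,11,12,12,14] 2 [14,15,15] (.fuse [3,4,5,6,7,9,9,10,11,12,12,13,13,15] 1 [15] (.prune [0,0,0,0,0,0,0,0,0,0,0,0,0,0,2,0]))))) (.fuse [0] 1 [15,15] (.fuse [3,6,7,8,8,10,11,11,12,12,13,13,14,14] 2 [13,14,14] (.fuse [4,5,6,8,8,9,9,11,11,12,14,15,15] 1 [15] (.fuse [0,10,10,11,11,14,14,15] 1 [] (.prune [0,0,0,0,0,0,0,0,0,0,0,0,0,0,1,0])))))))) (.fuse [0] 2 [11,11,14,15,15] (.split (.split (.fuse [0,3,6,6,7,7,8,8,10,10,11,13,13] 2 [14,15,15] (.split (.fuse [9,11,11,13,14,15] 2 [14] (.fuse [3,6,7,8,8,12,12,13,13,14] 2 [] (.prune [0,0,0,0,0,0,0,0,0,0,0,0,0,0,2,1]))) (.fuse [9,11,11,13,14,15] 2 [14] (.fuse [3,6,7,8,8,12,12,13,13,14]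 2 [15,15] (.prune [0,0,0,0,0,0,0,0,0,0,0,0,0,0,2,1]))) (.fuse [9,11,11,13,14,15] 2 [14] (.fuse [3,6,7,8,8,12,12,13,13,14] 2 [15] (.prune [0,0,0,0,0,0,0,0,0,0,0,0,0,0,2,1]))))) (.fuse [0,3,6,6,7,7,8,8,10,10,11,13,13] 1 [14,15,15] (.fuse [4,5,8,8,9,9,11,12,13,13,15,15] 1 [13,13] (.fuse [5,9,9,12,15,15] 2 [14,14,15] (.fuse [3,6,7,8,8,12,12,13,13,14,14,15,15] 2 [15,15] (.prune [0,0,0,0,0,0,0,0,0,0,0,0,0,0,1,2]))))) (.fuse [3,6,7,8,8,10,11,12,12,13,13,14,14] 1 [14,15] (.fuse [4,5,8,8,9,9,11,12,13,13,15,15] 2 [13] (.fuse [5,9,9,12,15,15] 1 [14,15,15] (.fuse [0,3,6,6,7,7,8,8,10,10,11,13,13] 1 [15,15] (.fuse [3,5,5,6,7,11,13,13,14,15,15] 2 [] (.leaf 383))))))) (.split (.fuse [3,6,7,8,8,10,11,12,12,13,13,14,14] 2 [12,13,13,14,14] (.fuse [3,6,7,8,8,10,10,11,11,12,12,13,13,14,14,15]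 1 [13,13,14] (.fuse [3,6,6,7,8,8,10,10,12,14,15] 2 [14,14] (.fuse [0,3,6,6,7,7,8,8,10,10,11,13,13] 1 [15,15] (.fuse [0,7,9,11,11,12,12,13,14,14,15,15] 2 [] (.prune [0,0,0,0,0,0,0,0,0,0,0,0,0,0,0,1])))))) (.fuse [0,3,6,6,7,7,8,8,10,10,11,13,13] 2 [14,15,15] (.fuse [0,6,7,10,12,15,15] 2 [13,14,14] (.fuse [4,5,6,9,9,13,14,14,15] 2 [14,14] (.fuse [3,4,4,5,5,6,7,9,10,10,11,12,15] 1 [15] (.prune [0,0,0,0,0,0,0,0,0,0,0,0,0,0,2,2]))))) (.fuse [0,3,6,6,7,7,8,8,10,10,11,13,13] 1 [14,15,15] (.fuse [0,3,3,8,11,12,12,13,14,15,15] 1 [13,13,14,15,15] (.fuse [4,5,6,6,8,9,9,11,12,12] 1 [14,15,15] (.fuse [0,3,6,6,7,7,8,8,10,11,13,13,14,15,15] 1 [] (.prune [0,0,0,0,0,0,0,0,0,0,0,0,0,0,1,0])))))) (.split (.fuse [0,3,6,6,7,7,8,8,10,10,11,13,13] 1 [14,15,15] (.fuse [3,6,7,8,8,10,11,12,12,13,13,14,14]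 2 [13] (.fuse [3,6,6,7,8,8,10,11,11,12,14] 1 [14,15,15] (.fuse [0,3,6,6,7,7,8,8,10,13,13,14,14,15,15] 2 [15,15] (.prune [0,0,0,0,0,0,0,0,0,0,0,0,0,0,1,1]))))) (.fuse [10,11,15,15] 1 [14,14] (.fuse [3,6,7,8,8,10,11,12,12,13,13,14,14] 2 [13,15,15] (.fuse [4,5,6,6,9,9,11,11,12,12,15,15] 2 [14,15] (.fuse [0,3,6,6,7,7,8,8,10,10,11,13,13] 1 [15,15] (.fuse [0,3,3,4,5,8,9,9,11,12,12,13,14] 1 [] (.prune [0,0,0,0,0,0,0,0,0,0,0,0,0,0,0,2])))))) (.fuse [0,3,6,6,7,7,8,8,10,10,11,13,13] 2 [14,15,15] (.fuse [3,6,7,8,8,10,11,12,12,13,13,14,14] 2 [13,15] (.fuse [4,5,6,8,8,9,9,11,11,12] 1 [15,15] (.fuse [0,3,6,6,7,7,8,8,11,13,13,14,15] 1 [15] (.prune [0,0,0,0,0,0,0,0,0,0,0,0,0,0,2,0])))))))) (.fuse [0] 1 [11,14,14] (.split (.split (.fuse [0,3,3,6,7,10,11,11,13,15] 1 [14,14,15] (.split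 (.fuse [9,11,11,13,14,15] 1 [14,14] (.fuse [6,11,12,12,13,14] 1 [15,15] (.prune [0,0,0,0,0,0,0,0,0,0,0,0,0,0,1,1]))) (.fuse [9,11,11,13,14,15] 1 [14,14] (.fuse [4,5,8,8,9,9,11,12,13,13,15,15] 2 [] (.prune [0,0,0,0,0,0,0,0,0,0,0,0,0,0,1,1]))) (.fuse [9,11,11,13,14,15] 1 [14,14] (.fuse [4,5,8,8,9,9,11,12,13,13,15,15] 1 [] (.prune [0,0,0,0,0,0,0,0,0,0,0,0,0,0,1,1]))))) (.fuse [3,6,7,8,8,10,12,12,13,13,14,15] 1 [14,14,15] (.fuse [4,5,8,8,9,9,11,12,13,13,15,15] 1 [13,13] (.fuse [5,9,9,12,15,15] 2 [14,14,15] (.fuse [0,3,3,6,7,10,11,11,13,15] 2 [15,15] (.fuse [5,6,6,8,8,11,14,14] 2 [] (.leaf 384)))))) (.fuse [0,3,3,6,7,10,11,11,13,15] 2 [14,14] (.fuse [4,5,8,8,9,9,11,12,13,13,15,15] 2 [13] (.fuse [5,9,9,12,15,15] 1 [14,15,15] (.fuse [0,6,6,7,7,8,8,10,10,11,12,12,14,14]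 2 [15] (.prune [0,0,0,0,0,0,0,0,0,0,0,0,0,0,2,2])))))) (.split (.fuse [3,6,7,8,8,10,12,12,13,13,14,15] 2 [12,13,13,15,15] (.fuse [3,6,7,8,8,10,10,11,12,12,13,13,14,15,15] 1 [13,13,14,14] (.fuse [3,6,6,7,8,8,10,10,11,11,12,14,14,15,15] 2 [15] (.fuse [3,6,6,7,8,8,9,10,10,11,11,12,14,15] 2 [] (.fuse [4,5,8,8,9,9,11,11,12,13,13,14] 2 [] (.prune [0,0,0,0,0,0,0,0,0,0,0,0,0,0,0,1])))))) (.fuse [0,3,3,6,7,10,11,11,13,15] 2 [15] (.fuse [0,3,8,11,11,12,13,13,14,15,15] 2 [13] (.fuse [4,5,6,8,9,9,11,11,13,14,15] 2 [14,14,15] (.fuse [0,3,3,6,7,10,10,13,15] 2 [15,15] (.prune [0,0,0,0,0,0,0,0,0,0,0,0,0,0,2,0]))))) (.fuse [0,3,3,6,7,10,11,11,13,15] 1 [15,15] (.fuse [0,6,6,7,7,8,8,10,10,11,12,12,14,14] 1 [13,13,14] (.fuse [4,5,6,6,8,8,9,9,12,12,14,15,15] 1 [14] (.fuse [5,9,11,12,13,13,14,14,15,15]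 2 [15,15] (.prune [0,0,0,0,0,0,0,0,0,0,0,0,0,0,1,2])))))) (.split (.fuse [0,3,3,6,7,10,11,11,13,15] 2 [14,15,15] (.fuse [3,6,7,8,8,10,12,12,13,13,14,15] 2 [13,14,15,15] (.fuse [3,6,6,7,8,8,10,11,12,14,14,15] 1 [14,14,15,15] (.fuse [0,3,3,6,7,10,10,11,11,13,14,15,15] 1 [15] (.prune [0,0,0,0,0,0,0,0,0,0,0,0,0,0,2,1]))))) (.fuse [0,3,3,6,7,10,11,11,13,15] 1 [14] (.fuse [3,6,7,8,8,10,12,12,13,13,14,15] 2 [13,14,15] (.fuse [4,5,6,6,9,9,11,11,12,12,14,14,15,15] 2 [14] (.fuse [0,3,3,6,7,11,13,14,14,15] 2 [15,15] (.prune [0,0,0,0,0,0,0,0,0,0,0,0,0,0,1,0]))))) (.fuse [10,11,15,15] 1 [14,14,15] (.fuse [3,6,7,8,8,10,12,12,13,13,14,15] 2 [13,14] (.fuse [4,5,6,8,8,9,9,11,11,12,14,14] 1 [] (.fuse [0,3,3,6,7,10,11,11,13,15] 1 [15] (.fuse [0,4,4,5,5,6,6,7,7,9,10,10,12,13,14,14,15,15]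 1 [] (.prune [0,0,0,0,0,0,0,0,0,0,0,0,0,0,0,2]))))))))))

theorem cert17_ok : certOK leafVecs cert17 [1,0,0,0,0,0,0] = true := by decide +kernel

def cert18 : Cert := (.split (.fuse [3,6,6,7,7,10,10,11,13,13,15,15] 1 [] (.split (.split (.fuse [3,4,5,6,6,7,7,8,9,9,10,10,12,13] 1 [12,13,13,14,14,15] (.fuse [3,4,5,6,6,7,7,8,9,9,10,11,11,12,13,14] 1 [13,13,15,15] (.fuse [4,6,7,8,10,11,11,12,13,15] 2 [14,14,15,15] (.fuse [3,6,7,8,8,11,12,12,13,13] 1 [15] (.fuse [5,8,8,9,12,15] 2 [] (.leaf 385)))))) (.fuse [0] 2 [15] (.fuse [0,3,4,5,6,6,7,7,9,9,10,10,12,13,14,14,15] 2 [13,14,15,15] (.fuse [5,8,9,11,11,12,13,13,14,14,15,15] 2 [14,15] (.fuse [3,6,7,8,11,11,12,14] 2 [] (.prune [0,0,0,0,0,0,0,0,0,0,0,0,0,0,2,0]))))) (.fuse [0] 1 [15,15] (.fuse [5,9,9,12,15,15] 1 [13,14]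 (.fuse [5,9,11,12,13,13,14,14,15] 1 [14,15] (.fuse [0,3,3,4,4,5,5,6,7,8,8,9,10,12,12,13,13,14,14,15] 1 [15] (.prune [0,0,0,0,0,0,0,0,0,0,0,0,0,0,1,0])))))) (.split (.fuse [3,4,5,6,6,7,7,8,9,9,10,10,12,13] 2 [12,13,13,14,14,15] (.fuse [3,4,5,6,6,7,7,8,9,9,11,12,12,14,15] 1 [13,13,14,14,15,15] (.fuse [3,4,6,6,7,7,8,11,13,13,14] 2 [14,14,15] (.fuse [4,5,6,7,9,9,10,13] 1 [15] (.fuse [4,5,5,6,6,7,8,9,10,12,12,13,13,14] 1 [] (.prune [0,0,0,0,0,0,0,0,0,0,0,0,0,0,0,2])))))) (.fuse [0] 2 [15] (.fuse [0,3,3,4,4,5,5,6,7,8,8,9,10,12,12,13,13,14,14,15] 1 [13,13,14,14,15,15] (.fuse [5,6,9,9,12,12,14] 2 [14,14,15] (.fuse [0,8,8,10,11,11,12,12,13] 1 [] (.prune [0,0,0,0,0,0,0,0,0,0,0,0,0,0,2,2]))))) (.fuse [0] 1 [15,15] (.fuse [4,5,6,7,9,9,10,13] 2 [13,14] (.fuse [4,5,5,6,7,9,10,12,12]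 2 [14,15] (.fuse [0,3,4,5,6,6,7,7,9,9,10,10,12,13,14,14,15] 1 [] (.prune [0,0,0,0,0,0,0,0,0,0,0,0,0,0,1,2])))))) (.split (.fuse [10,11,15,15] 1 [14,14,15,15] (.fuse [3,4,5,6,6,7,7,8,9,9,10,10,12,13] 1 [13,13,14,14,15] (.fuse [4,5,5,6,7,8,8,9,10,11,13,13,14] 1 [14,15,15] (.fuse [5,6,6,8,9,9,11,12,13,14,14,15] 2 [15] (.fuse [3,4,4,5,5,8,8,9,11,11,12,13,13] 1 [] (.prune [0,0,0,0,0,0,0,0,0,0,0,0,0,0,0,1])))))) (.fuse [0] 2 [15] (.fuse [3,4,5,6,6,7,7,8,9,9,10,10,12,13] 2 [13,14,14,15] (.fuse [5,6,6,8,8,9,9,12,12,14,14,15] 2 [14] (.fuse [6,8,8,9,9,11,11,12,13,13] 1 [15] (.prune [0,0,0,0,0,0,0,0,0,0,0,0,0,0,2,1]))))) (.fuse [0] 1 [15,15] (.fuse [4,5,6,7,9,9,10,13] 1 [13,13] (.fuse [4,6,7,10,14] 1 [14,14] (.fuse [0,10,10,11,11,14,14,15] 1 [] (.prune [0,0,0,0,0,0,0,0,0,0,0,0,0,0,1,1]))))))))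 (.fuse [0] 2 [11,11,14,15,15] (.split (.split (.fuse [0,3,6,6,7,7,8,8,10,10,11,13,13] 2 [14,15,15] (.fuse [0,3,3,4,5,6,7,9,9,10,12,14,15] 1 [13,13,14,14] (.fuse [4,6,7,8,10,12,12,13] 2 [14] (.fuse [0,3,6,6,7,7,8,8,11,13,13,14,14] 1 [15] (.prune [0,0,0,0,0,0,0,0,0,0,0,0,0,0,2,1]))))) (.fuse [0,3,6,6,7,7,8,8,10,10,11,13,13] 1 [14,15,15] (.fuse [0,4,4,5,5,8,9,11,12,12,13] 1 [13,13,14,15] (.split (.fuse [0,3,6,6,7,7,8,8,10,13,13,15] 2 [15,15] (.prune [0,0,0,0,0,0,0,0,0,0,0,0,0,0,1,2])) (.fuse [3,6,7,8,8,12,14,14,15] 1 [] (.prune [0,0,0,0,0,0,0,0,0,0,0,0,0,0,1,2])) (.fuse [0,3,6,6,7,7,8,8,10,13,13,15] 1 [] (.prune [0,0,0,0,0,0,0,0,0,0,0,0,0,0,1,2]))))) (.fuse [3,4,5,6,6,7,7,9,9,10,10,11,12,13,14,14,15] 1 [14,15,15] (.fuse [5,9,9,12,15,15] 1 [13,14] (.fuse [5,9,11,12,13,13,14,14,15]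 2 [15] (.fuse [0,3,6,6,7,7,8,8,10,10,11,13,13] 1 [15,15] (.fuse [0,3,3,4,5,6,7,9,9,12,14,15,15] 1 [] (.leaf 386))))))) (.split (.fuse [3,4,5,6,6,7,7,9,9,10,10,11,12,13,14,14,15] 2 [12,13,13,14,14,15] (.fuse [3,4,5,6,6,7,7,9,9,11,11,12,12,15] 1 [13,13,14,14] (.fuse [3,4,6,6,7,7,11,11,13,13,14,14] 2 [14,14,15,15] (.fuse [0,3,6,6,7,7,8,8,10,10,11,13,13] 1 [15,15] (.fuse [12,15,15] 2 [] (.leaf 387)))))) (.fuse [0,3,6,6,7,7,8,8,10,10,11,13,13] 2 [14,15,15] (.fuse [0,4,4,5,5,8,9,11,12,12,13] 1 [13,13,15] (.fuse [5,6,8,9,9,11,11,12,12,14] 2 [14,14,15,15] (.fuse [0,3,6,6,7,7,8,8,11,11,12,12,14,14,15] 2 [] (.prune [0,0,0,0,0,0,0,0,0,0,0,0,0,0,2,1]))))) (.fuse [0,3,6,6,7,7,8,8,10,10,11,13,13] 1 [14,15,15] (.fuse [4,5,6,7,8,8,9,9,10,11,11,13,14,14,15] 2 [13] (.fuse [4,5,5,6,7,8,8,9,10,11,11,12,12,14,15]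 2 [15] (.fuse [0,3,3,4,5,6,7,9,9,10,12,14,15] 2 [15,15] (.prune [0,0,0,0,0,0,0,0,0,0,0,0,0,0,1,2])))))) (.split (.fuse [0,3,6,6,7,7,8,8,10,10,11,13,13] 1 [14,15,15] (.fuse [3,4,5,6,6,7,7,9,9,10,10,11,12,13,14,14,15] 1 [13,13,15] (.fuse [4,5,5,6,7,8,9,10,13,13,14,15] 1 [14,15] (.fuse [0,3,6,6,7,7,8,8,10,13,13,14,14,15,15] 2 [15,15] (.prune [0,0,0,0,0,0,0,0,0,0,0,0,0,0,1,2]))))) (.fuse [10,11,15,15] 1 [14,14] (.fuse [3,4,5,6,6,7,7,9,9,10,10,11,12,13,14,14,15] 2 [13] (.fuse [5,6,6,8,8,9,9,12,12,14] 2 [14,15,15] (.fuse [0,3,6,6,7,7,8,8,10,10,11,13,13] 1 [15,15] (.fuse [0,4,4,5,8,9,9,11,12,13,14,14,15] 2 [] (.leaf 388)))))) (.fuse [0,3,6,6,7,7,8,8,10,10,11,13,13] 2 [14,15,15] (.fuse [4,5,6,7,8,8,9,9,10,11,11,13,14,14,15] 1 [13,13] (.fuse [4,6,7,8,8,10,11,11,14,15] 1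 [14,14] (.fuse [0,3,6,6,7,7,8,8,11,13,13,14,15] 1 [15] (.prune [0,0,0,0,0,0,0,0,0,0,0,0,0,0,2,1])))))))) (.fuse [0] 1 [11,14,14] (.split (.split (.fuse [0,3,3,6,7,10,11,11,13,15] 1 [14,14,15] (.fuse [0,3,4,4,5,5,6,6,7,7,8,9,10,10,12,12,15,15] 2 [13,15] (.fuse [4,6,7,8,8,10,12,12,13,15,15] 2 [14,15] (.fuse [3,6,7,8,12,14,15] 1 [] (.prune [0,0,0,0,0,0,0,0,0,0,0,0,0,0,1,1]))))) (.fuse [3,4,5,6,6,7,7,9,9,10,10,11,12,13,14,14,15] 1 [12,12,13,14] (.fuse [3,4,5,6,6,7,7,9,9,10,12,13,15] 2 [13,14,14,15,15] (.fuse [5,8,9,11,11,12,13,14,15] 1 [15,15] (.fuse [0,3,3,6,7,10,11,11,13,15] 2 [15,15] (.fuse [0,3,3,6,6,7,10,12,12,13,13] 2 [] (.leaf 389)))))) (.fuse [0,3,3,6,7,10,11,11,13,15] 2 [14,14] (.fuse [5,9,9,12,15,15] 1 [13,14] (.split (.fuse [0,4,5,9,9,11,11,12,13,13,14,14]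 1 [] (.prune [0,0,0,0,0,0,0,0,0,0,0,0,0,0,2,2])) (.fuse [0,4,5,9,9,11,11,12,13,13,14,14] 2 [] (.prune [0,0,0,0,0,0,0,0,0,0,0,0,0,0,2,2])) (.fuse [3,4,5,6,6,7,7,8,9,9,10,11,11,13,13] 2 [15,15] (.prune [0,0,0,0,0,0,0,0,0,0,0,0,0,0,2,2])))))) (.split (.fuse [3,4,5,6,6,7,7,9,9,10,10,11,12,13,14,14,15] 2 [12,13,13,14,14,15] (.fuse [3,4,5,6,6,7,7,9,9,11,11,12,12,15] 1 [13,13,14,14,15] (.fuse [3,4,6,6,7,7,11,11,13,13,14,14] 2 [14,14] (.fuse [4,5,6,7,8,8,9,9,10,13] 2 [15] (.fuse [4,7,10,11,12,15] 2 [] (.leaf 390)))))) (.fuse [0,3,3,6,7,10,11,11,13,15] 2 [15] (.fuse [0,3,4,4,5,5,6,6,7,7,8,9,10,10,12,12,15,15] 1 [13,13,14,14] (.fuse [5,6,8,8,9,9,11,12,12,14,14,15] 2 [14,14] (.fuse [0,3,3,6,7,8,10,10,11,11,12,12,13,13,14,14] 1 [15] (.prune [0,0,0,0,0,0,0,0,0,0,0,0,0,0,2,2])))))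 (.fuse [0,3,3,6,7,10,11,11,13,15] 1 [15,15] (.fuse [4,5,6,7,8,8,9,9,10,13] 2 [13,14,14,15] (.fuse [4,5,5,6,7,8,8,9,10,12,12,14,14] 2 [14,14,15,15] (.fuse [0,4,5,9,9,11,11,12,13,13,14,14] 1 [] (.prune [0,0,0,0,0,0,0,0,0,0,0,0,0,0,1,1])))))) (.split (.fuse [0,3,3,6,7,10,11,11,13,15] 2 [14,15,15] (.fuse [3,4,5,6,6,7,7,9,9,10,10,11,12,13,14,14,15] 1 [13,13,15] (.fuse [4,5,5,6,7,8,9,10,11,13,13] 1 [15,15] (.fuse [0,3,3,6,7,10,10,11,11,13,14,15,15] 1 [15] (.prune [0,0,0,0,0,0,0,0,0,0,0,0,0,0,2,2]))))) (.fuse [0,3,3,6,7,10,11,11,13,15] 1 [14] (.fuse [3,4,5,6,6,7,7,9,9,10,10,11,12,13,14,14,15] 2 [13] (.fuse [5,6,6,8,8,9,9,12,12,14,14] 2 [14,15] (.fuse [0,3,3,6,7,11,13,14,14,15] 2 [15,15] (.prune [0,0,0,0,0,0,0,0,0,0,0,0,0,0,1,1]))))) (.fuse [10,11,15,15] 1 [14,14,15] (.fuse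 [4,5,6,7,8,8,9,9,10,13] 1 [13,13,14,14,15] (.fuse [4,6,7,8,8,10,14] 1 [14,15] (.fuse [0,3,3,6,7,10,11,11,13,15] 1 [15] (.fuse [0,3,3,4,4,5,6,6,8,8,9,9,13,13] 1 [] (.leaf 391))))))))))

theorem cert18_ok : certOK leafVecs cert18 [1,0,0,0,0,0,1] = true := by decide +kernel


end H49.Order3.Fi24
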