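/-
Generated data: part of the certificate tree, with its check.
-/
import Cfsg.Agent.H49.Order3.Fi24.CertDef
import Cfsg.Agent.H49.Order3.Fi24.Data.Leaves

set_option autoImplicit false
set_option maxRecDepth 100000
set_option linter.all false
set_option Elab.async false

namespace H49.Order3.Fi24

def cert19 : Cert := (.split (.fuse [3,6,6,7,7,10,10,11,13,13,15,15] 1 [] (.split (.split (.fuse [3,4,4,5,5,6,6,7,7,9,10,10,11,12,12,15] 1 [12,13,13,14,14] (.fuse [3,4,4,5,5,6,6,7,7,9,10,12,12,14] 1 [13,13,15] (.fuse [4,6,6,7,7,10,10,13,13,14,15,15] 1 [14,14,15] (.fuse [3,6,7,8,8,11,12,12,13,13,15,15] 1 [15,15] (.fuse [5,8,9,11,11,12,13,15] 1 [] (.leaf 392)))))) (.fuse [0] 2 [15] (.fuse [5,9,9,12,15,15] 2 [13,13,14,14,15] (.fuse [5,9,11,12,13,13,14,14,15] 2 [14,14,15,15]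 (.fuse [0,3,4,4,5,5,6,6,7,7,8,8,9,10,10,11,12,12,15,15] 2 [] (.prune [0,0,0,0,0,0,0,0,0,0,0,0,0,0,2,0]))))) (.fuse [0] 1 [15,15] (.fuse [0,3,3,4,5,6,7,9,9,10,11,11,12] 1 [13,13,14,14] (.fuse [5,8,8,9,12,13,13,14,14,15] 1 [14,14,15] (.fuse [0,10,10,11,11,15] 1 [] (.prune [0,0,0,0,0,0,0,0,0,0,0,0,0,0,1,0])))))) (.split (.fuse [3,4,4,5,5,6,6,7,7,9,10,10,11,12,12,15] 2 [12,13,13,14,14] (.fuse [3,4,4,5,5,6,6,7,7,9,11,11,12,13,14,15] 1 [13,13,15] (.fuse [3,4,4,6,6,7,7,8,11,14,15] 2 [14,14,15] (.fuse [4,5,6,6,7,7,8,9,9,10,10,11,11,13,13,15] 2 [15] (.fuse [4,7,7,8,10,10,12,12,13,14,15] 1 [] (.prune [0,0,0,0,0,0,0,0,0,0,0,0,0,0,0,2])))))) (.fuse [0] 2 [15] (.fuse [4,5,6,6,7,7,8,9,9,10,10,11,11,13,13,15] 1 [13,13,14,14] (.fuse [4,5,5,6,6,7,7,8,9,10,10,11,11,14,14] 1 [14,14,15,15]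 (.fuse [0,3,3,4,5,6,7,9,9,10,11,11,12] 2 [15,15] (.prune [0,0,0,0,0,0,0,0,0,0,0,0,0,0,2,2]))))) (.fuse [0] 1 [15,15] (.fuse [0,3,4,4,5,5,6,6,7,7,8,8,9,10,10,11,12,12,15,15] 2 [13] (.fuse [5,6,6,9,9,11,11,12,12,14,14,15] 1 [14,14] (.fuse [0,8,8,10,10,11,12,12,13,14,14,15] 2 [] (.prune [0,0,0,0,0,0,0,0,0,0,0,0,0,0,1,2])))))) (.split (.fuse [10,11,15,15] 1 [14,14,15,15] (.fuse [3,4,4,5,5,6,6,7,7,9,10,10,11,12,12,15] 1 [13,13,14,14] (.fuse [4,5,5,6,6,7,7,8,8,9,10,10,11,12,12,13,15] 2 [14] (.fuse [8,11,11,14,14] 2 [] (.fuse [5,6,9,9,11,13,13,14] 2 [] (.prune [0,0,0,0,0,0,0,0,0,0,0,0,0,0,0,1])))))) (.fuse [0] 2 [15] (.fuse [4,5,6,6,7,7,8,9,9,10,10,11,11,13,13,15] 2 [13,14,14,15,15] (.fuse [4,6,6,7,7,8,10,10,11,11,12,15,15] 2 [15] (.fuse [3,4,4,5,5,6,6,7,7,9,10,10,11,12,12,15]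 1 [15,15] (.prune [0,0,0,0,0,0,0,0,0,0,0,0,0,0,2,1]))))) (.fuse [0] 1 [15,15] (.fuse [3,4,4,5,5,6,6,7,7,9,10,10,11,12,12,15] 2 [13,15] (.fuse [5,6,8,9,9,13,13,14,15,15] 1 [] (.fuse [0,10,10,11,11,14,14,15] 1 [] (.prune [0,0,0,0,0,0,0,0,0,0,0,0,0,0,1,1])))))))) (.fuse [0] 2 [11,11,14,15,15] (.split (.split (.fuse [0,3,6,6,7,7,8,8,10,10,11,13,13] 2 [14,15,15] (.fuse [0,3,3,4,4,5,5,6,7,9,10,11,11,12,12,13,13,14,15] 1 [13,13,14,14,15] (.fuse [4,6,6,7,7,10,10,12,12,13,13,14,15] 1 [14,14,15,15] (.fuse [0,3,6,6,7,7,8,8,11,13,13,14,14] 1 [15] (.prune [0,0,0,0,0,0,0,0,0,0,0,0,0,0,2,1]))))) (.fuse [0,3,6,6,7,7,8,8,10,10,11,13,13] 1 [14,15,15] (.fuse [5,9,9,12,15,15] 2 [13,13,14,14,15] (.split (.fuse [0,4,5,8,8,9,9,11,12,13,13,14,14,15] 1 [] (.prune [0,0,0,0,0,0,0,0,0,0,0,0,0,0,1,2]))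 (.fuse [0,4,5,8,8,9,9,11,12,13,13,14,14,15] 2 [] (.prune [0,0,0,0,0,0,0,0,0,0,0,0,0,0,1,2])) (.fuse [3,4,4,5,5,6,6,7,7,9,10,11,11,13,13,14,14] 1 [] (.prune [0,0,0,0,0,0,0,0,0,0,0,0,0,0,1,2]))))) (.fuse [3,4,4,5,5,6,6,7,7,8,9,10,10,11,11,12,12] 1 [12,12,13,14,14,15,15] (.fuse [3,4,4,5,5,6,6,7,7,8,9,10,11,12,12,14,15,15] 2 [13,15,15] (.fuse [5,8,8,9,12,14,15] 2 [15,15] (.fuse [0,3,6,6,7,7,8,8,10,10,11,13,13] 1 [15,15] (.fuse [0,3,3,8,10,10,11,12,12,13,14,15,15] 2 [] (.leaf 393))))))) (.split (.fuse [3,4,4,5,5,6,6,7,7,8,9,10,10,11,11,12,12] 2 [12,13,13,15,15] (.fuse [3,4,4,5,5,6,6,7,7,8,9,12,13,14,15] 1 [13,13,14,15] (.fuse [3,4,4,6,6,7,7,8,8,11,11,14,14,15] 2 [15] (.fuse [0,3,6,6,7,7,8,8,10,10,11,13,13] 1 [15,15] (.fuse [0,3,4,5,6,7,8,8,9,9,10,11,13] 2 [] (.leaf 394))))))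 (.fuse [0,3,6,6,7,7,8,8,10,10,11,13,13] 2 [14,15,15] (.fuse [4,5,6,6,7,7,9,9,10,10,13,13] 1 [13,13,14,14,15] (.fuse [4,5,5,6,6,7,7,9,10,10,14,15,15] 1 [14,14] (.fuse [0,4,5,8,8,9,9,11,12,13,13,14,14,15] 2 [] (.prune [0,0,0,0,0,0,0,0,0,0,0,0,0,0,2,1]))))) (.fuse [0,3,6,6,7,7,8,8,10,10,11,13,13] 1 [14,15,15] (.fuse [0,3,3,4,4,5,5,6,7,9,10,11,11,12,12,13,13,14,15] 2 [13,14,14,15] (.fuse [5,6,6,8,8,9,9,12,12,14] 1 [14,14] (.fuse [4,6,6,7,7,10,10,12,14,14,15] 1 [] (.prune [0,0,0,0,0,0,0,0,0,0,0,0,0,0,1,2])))))) (.split (.fuse [0,3,6,6,7,7,8,8,10,10,11,13,13] 1 [14,15,15] (.fuse [3,4,4,5,5,6,6,7,7,8,9,10,10,11,11,12,12] 1 [13,13,14,14,15,15] (.fuse [4,5,5,6,6,7,7,8,9,10,10,11,11,12,12,13,14] 2 [14,14,15,15] (.fuse [0,3,6,6,7,7,8,8,10,13,13,14,14,15,15] 2 [15,15] (.prune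 [0,0,0,0,0,0,0,0,0,0,0,0,0,0,1,2]))))) (.fuse [10,11,15,15] 1 [14,14] (.fuse [4,5,6,6,7,7,9,9,10,10,13,13] 2 [13] (.fuse [4,6,6,7,7,10,10,12,14,14,15] 2 [14,15,15] (.fuse [0,3,6,6,7,7,8,8,10,10,11,13,13] 1 [15,15] (.fuse [3,5,7,9,9,10,11,11,13,13,14] 2 [] (.leaf 395)))))) (.fuse [0,3,6,6,7,7,8,8,10,10,11,13,13] 2 [14,15,15] (.fuse [3,4,4,5,5,6,6,7,7,8,9,10,10,11,11,12,12] 2 [13,15,15] (.fuse [5,6,8,9,9,13,13] 1 [15] (.fuse [0,3,6,6,7,7,8,8,11,13,13,14,15] 1 [15] (.prune [0,0,0,0,0,0,0,0,0,0,0,0,0,0,2,1])))))))) (.fuse [0] 1 [11,14,14] (.split (.split (.fuse [0,3,3,6,7,10,11,11,13,15] 1 [14,14,15] (.fuse [0,3,4,5,6,6,7,7,8,8,9,9,10,10,11,12,13] 2 [13,14,14] (.fuse [4,6,6,7,7,8,8,10,10,11,12,12,13,13,14,14] 1 [14,15] (.fuse [6,11,12,12,13,14] 1 [15] (.prune [0,0,0,0,0,0,0,0,0,0,0,0,0,0,1,1])))))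 (.fuse [3,4,4,5,5,6,6,7,7,9,10,10,11,11,12,12,14,15] 1 [15] (.fuse [5,9,9,12,15,15] 2 [13,13,14,14,15] (.fuse [5,9,11,12,13,13,14,14,15] 1 [15,15] (.fuse [0,3,3,6,7,10,11,11,13,15] 2 [15,15] (.fuse [0,4,4,5,5,8,9,10,10,11,11,12,12,13,15,15] 2 [] (.leaf 396)))))) (.fuse [0,3,3,6,7,10,11,11,13,15] 2 [14,14] (.fuse [0,4,4,5,5,8,9,11,11,12,12,13,15,15] 2 [13,15,15] (.split (.fuse [0,3,3,6,7,10,10,11,11,13,14,14] 2 [15,15] (.prune [0,0,0,0,0,0,0,0,0,0,0,0,0,0,2,2])) (.fuse [5,9,11,12,13,13,14,15,15] 2 [] (.prune [0,0,0,0,0,0,0,0,0,0,0,0,0,0,2,2])) (.fuse [0,3,3,6,7,10,10,11,11,13,14,14] 1 [15] (.prune [0,0,0,0,0,0,0,0,0,0,0,0,0,0,2,2])))))) (.split (.fuse [3,4,4,5,5,6,6,7,7,9,10,10,11,11,12,12,14,15] 2 [12,13,13,14,15,15] (.fuse [3,4,4,5,5,6,6,7,7,9,12,13,14,14,15] 1 [13,13,14,14,15,15]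 (.fuse [3,4,4,6,6,7,7,8,11,11,14,14,15] 2 [14,15,15] (.fuse [3,4,4,6,7,7,9,11,11,12,12,13,13,14] 2 [15] (.fuse [3,4,5,5,6,6,8,9,9,10,11,12,13,13,14,14,15] 2 [] (.leaf 397)))))) (.fuse [0,3,3,6,7,10,11,11,13,15] 2 [15] (.fuse [4,5,6,6,7,7,8,9,9,10,10,11,11,13,13,14,15,15] 1 [13,13,14,14,15] (.fuse [4,5,5,6,6,7,7,8,9,10,10,11,11,15] 1 [14,14] (.fuse [5,6,8,11,11,12,13,13,14,14] 2 [15,15] (.prune [0,0,0,0,0,0,0,0,0,0,0,0,0,0,2,2]))))) (.fuse [0,3,3,6,7,10,11,11,13,15] 1 [15,15] (.fuse [0,4,4,5,5,8,9,11,11,12,12,13,15,15] 2 [13,14,14,15,15] (.fuse [5,6,6,8,9,9,11,12,12,14,14,15] 1 [14,14] (.fuse [0,3,3,6,7,11,11,12,12,13,13,15] 2 [15,15] (.prune [0,0,0,0,0,0,0,0,0,0,0,0,0,0,1,1])))))) (.split (.fuse [0,3,3,6,7,10,11,11,13,15] 2 [14,15,15] (.fuse [3,4,4,5,5,6,6,7,7,9,10,10,11,11,12,12,14,15]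 1 [13,13,14,15,15] (.fuse [4,5,5,6,6,7,7,8,8,9,10,10,11,12,12,13,15,15] 2 [14,15] (.fuse [0,3,3,6,7,10,10,11,11,13,14,15,15] 1 [15] (.prune [0,0,0,0,0,0,0,0,0,0,0,0,0,0,2,2]))))) (.fuse [0,3,3,6,7,10,11,11,13,15] 1 [14] (.fuse [4,5,6,6,7,7,8,9,9,10,10,11,11,13,13,14,15,15] 2 [13,14,14] (.fuse [4,6,6,7,7,8,10,10,11,11,12,14] 2 [15,15] (.fuse [0,3,3,6,7,11,13,14,14,15] 2 [15,15] (.prune [0,0,0,0,0,0,0,0,0,0,0,0,0,0,1,1]))))) (.fuse [10,11,15,15] 1 [14,14,15] (.fuse [3,4,4,5,5,6,6,7,7,9,10,10,11,11,12,12,14,15] 2 [13,14,14] (.fuse [5,6,8,9,9,13,13,14,14] 1 [15,15] (.fuse [0,3,3,6,7,10,11,11,13,15] 1 [15] (.fuse [4,6,6,7,7,9,10,10,12,13] 2 [] (.leaf 398))))))))))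

theorem cert19_ok : certOK leafVecs cert19 [1,0,0,0,0,0,2] = true := by decide +kernel

def cert20 : Cert := (.split (.fuse [3,6,6,7,7,10,10,11,13,13,15,15] 2 [] (.split (.split (.fuse [3,8,12,13,13,14] 2 [12,13,13,15] (.fuse [3,8,10,11,12,13,13,14,15,15] 1 [15,15] (.split (.fuse [4,5,8,8,9,9,11,12,13,13,15,15] 2 [] (.split (.leaf 399) (.leaf 400) (.leaf 401))) (.fuse [0] 1 [] (.fuse [3,6,6,8,10,12,12,13,14,15,15] 2 [] (.leaf 402))) (.fuse [0] 2 [] (.fuse [3,6,6,8,10,12,12,13,14,15,15] 1 [] (.leaf 403)))))) (.fuse [0] 2 [15] (.fuse [0,3,3,8,8,12,12,13,15,15] 2 [13] (.fuse [0,8,10,15,15] 1 [14,14] (.fuse [0,3,3,4,5,8,8,9,9,12,12,13,14,14,15,15] 1 [15] (.fuse [0,3,4,5,6,8,8,9,9,10,10,11,11,12,12,13,13] 2 [] (.leaf 404)))))) (.fuse [0] 1 [15,15] (.fuse [0,3,8,8,11,12,13,13,14]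 1 [13,13,14,15] (.fuse [0,8,10,10,11,11] 2 [] (.fuse [0,3,4,5,8,9,9,12,13,13,15,15] 2 [15] (.fuse [0,3,3,4,5,6,6,8,9,9,10,12,12,14] 2 [] (.leaf 405))))))) (.split (.fuse [10,11,15,15] 1 [13,15] (.split (.split (.fuse [9,11,11,13,14,15] 1 [] (.split (.leaf 406) (.leaf 407) (.leaf 408))) (.fuse [0] 1 [] (.fuse [3,8,12,13,13,14] 2 [] (.leaf 409))) (.fuse [0] 2 [] (.fuse [3,8,12,13,13,14] 1 [] (.leaf 410)))) (.split (.fuse [4,5,8,8,9,9,11,12,13,13,15,15] 2 [] (.fuse [3,8,12,13,13,14] 1 [] (.leaf 411))) (.fuse [0] 1 [] (.fuse [6,11,12,12,13,15] 1 [] (.leaf 412))) (.fuse [0] 2 [] (.fuse [3,8,12,13,13,14] 2 [] (.leaf 413)))) (.split (.fuse [4,5,8,8,9,9,11,12,13,13,15,15] 1 [] (.fuse [3,8,12,13,13,14] 2 [] (.leaf 414))) (.fuse [0] 1 [] (.fuse [3,8,12,13,13,14] 1 [] (.leaf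 415))) (.fuse [0] 2 [] (.fuse [6,11,12,12,13,15] 2 [] (.leaf 416)))))) (.fuse [0] 2 [15] (.fuse [4,5,8,8,9,9,11,12,13,13,15,15] 1 [13,13] (.fuse [0,10,14] 1 [14,14,15,15] (.fuse [9,11,11,13,14,15] 1 [] (.fuse [3,8,12,13,13,14] 2 [] (.leaf 417)))))) (.fuse [0] 1 [15,15] (.fuse [4,5,8,8,9,9,11,12,13,13,15,15] 2 [13] (.fuse [0,10,10,11,11,14,14,15] 2 [15] (.fuse [0,5,9,9,10,10,11,11,12,14,14] 2 [] (.fuse [3,8,12,13,13,14] 1 [] (.leaf 418))))))) (.split (.fuse [3,8,12,13,13,14] 1 [12,12,13,15,15] (.fuse [3,8,10,10,11,11,12,13,13,14,15] 2 [15] (.split (.fuse [4,5,8,8,9,9,11,12,13,13,15,15] 1 [] (.split (.leaf 419) (.leaf 420) (.leaf 421))) (.fuse [0] 1 [] (.fuse [3,6,6,8,10,10,11,12,12,13,14,15] 2 [] (.leaf 422))) (.fuse [0] 2 [] (.fuse [3,6,6,8,10,10,11,12,12,13,14,15]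 1 [] (.leaf 423)))))) (.fuse [0] 2 [15] (.fuse [0,3,8,8,11,12,13,13,14] 2 [13,14,14,15,15] (.fuse [0,10,14,14] 1 [14,14,15,15] (.fuse [0,3,4,5,8,9,9,11,11,12,12,13,15,15] 1 [15,15] (.fuse [8,9,13,15,15] 1 [] (.leaf 424)))))) (.fuse [0] 1 [15,15] (.fuse [0,3,3,8,8,12,12,13,15,15] 1 [13,13] (.fuse [0,10,10,11,11,15] 2 [15] (.fuse [0,3,3,4,5,8,8,9,9,12,12,13,14] 2 [15,15] (.fuse [0,4,5,6,6,8,9,9,10,10,12,12,14,14,15,15] 1 [] (.leaf 425))))))))) (.fuse [0] 2 [11,11,14,15,15] (.split (.split (.fuse [0,3,3,6,7,10,11,11,13,15] 2 [14,15,15] (.fuse [0,3,6,7,10,11,12,12,13,13,15] 2 [13] (.fuse [0,3,3,6,7,8,10,10,11,11,13,14] 1 [15] (.fuse [0,3,3,6,7,8,9,10,10,13,13,14,14] 1 [] (.fuse [11,13,14,14,15] 1 [] (.prune [0,0,0,0,0,0,0,0,0,0,0,0,0,0,0,1])))))) (.fuse [0,3,3,6,7,10,11,11,13,15]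 1 [14] (.fuse [0,6,7,8,10,11,12,14,14] 1 [13,13] (.fuse [0,3,3,6,7,8,11,13,14,15,15] 2 [14] (.fuse [0,4,4,5,5,6,7,9,10,11,11,13,14,15] 1 [] (.fuse [0,4,5,5,6,6,7,9,10,14,15] 1 [] (.prune [0,0,0,0,0,0,0,0,0,0,0,0,0,0,0,2])))))) (.fuse [3,11,12,13,13,14] 2 [12,13,13,14] (.fuse [3,10,11,11,12,13,13,14,15] 1 [14,15,15] (.fuse [3,4,5,8,9,9,10,11,14,14] 1 [] (.fuse [0,3,3,6,7,10,11,11,13,15] 1 [15] (.fuse [3,4,4,6,8,8,10,12,13] 1 [] (.leaf 426))))))) (.split (.fuse [0,3,3,6,7,10,11,11,13,15] 1 [14,14,15] (.split (.fuse [0,3,3,6,7,11,13,14,14,15] 2 [14,14,15,15] (.fuse [3,11,12,13,13,14] 2 [] (.prune [0,0,0,0,0,0,0,0,0,0,0,0,0,0,1,1]))) (.fuse [0,3,3,6,7,11,13,14,14,15] 2 [14,14,15,15] (.fuse [3,11,12,13,13,14] 2 [15] (.prune [0,0,0,0,0,0,0,0,0,0,0,0,0,0,1,1]))) (.fuse [0,3,3,6,7,11,13,14,14,15]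 2 [14,14,15,15] (.fuse [3,11,12,13,13,14] 2 [15,15] (.prune [0,0,0,0,0,0,0,0,0,0,0,0,0,0,1,1]))))) (.fuse [10,11,15,15] 1 [13,15,15] (.fuse [4,5,8,8,9,9,11,12,13,13,15,15] 1 [13,13] (.fuse [5,9,9,12,15,15] 2 [14,14,15] (.fuse [0,3,3,6,7,10,11,11,13,15] 2 [15,15] (.prune [0,0,0,0,0,0,0,0,0,0,0,0,0,0,1,2]))))) (.fuse [0,3,3,6,7,10,11,11,13,15] 2 [14,14] (.fuse [4,5,8,8,9,9,11,12,13,13,15,15] 2 [13] (.fuse [0,3,3,6,7,10,10,11,11,13,14,15,15] 1 [14,15] (.fuse [3,11,12,13,13,14] 2 [15,15] (.prune [0,0,0,0,0,0,0,0,0,0,0,0,0,0,1,0])))))) (.split (.fuse [3,11,12,13,13,14] 1 [12,12,13,15,15] (.fuse [3,10,10,12,13,13,14,15] 2 [] (.fuse [9,11,11,13,14,15] 2 [14,14] (.fuse [4,5,8,8,9,9,11,12,13,13,15,15] 1 [] (.prune [0,0,0,0,0,0,0,0,0,0,0,0,0,0,2,1]))))) (.fuse [0,3,3,6,7,10,11,11,13,15]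 2 [15] (.fuse [0,6,7,8,10,11,12,14,14] 2 [13,14,14] (.fuse [0,3,3,6,7,10,10,11,11,13,14,14] 1 [14,14,15,15] (.fuse [0,4,5,6,7,9,9,10,11,11,12,12,13,13,14] 1 [15] (.prune [0,0,0,0,0,0,0,0,0,0,0,0,0,0,2,2]))))) (.fuse [0,3,3,6,7,10,11,11,13,15] 1 [15,15] (.fuse [0,3,6,7,10,11,12,12,13,13,15] 1 [13,13,15,15] (.fuse [0,3,3,6,7,11,13,15,15] 2 [] (.fuse [0,3,4,5,6,7,8,9,9,10,12,12,13,13,15,15] 2 [15,15] (.prune [0,0,0,0,0,0,0,0,0,0,0,0,0,0,2,0])))))))) (.fuse [0] 1 [11,14,14] (.split (.split (.fuse [0,3,6,6,7,7,8,8,10,10,11,13,13] 1 [14,14,15] (.fuse [0,3,3,6,6,7,7,8,8,10,10,11,12,13,14,15,15] 1 [13,13,14,14,15] (.fuse [0,3,6,6,7,7,10,13,13,14,14,15] 2 [14,14] (.fuse [4,5,8,8,9,9,11,12,13,13,15,15] 2 [] (.fuse [0,3,6,6,7,7,9,10,14,14,15,15] 2 [] (.prune [0,0,0,0,0,0,0,0,0,0,0,0,0,0,0,1]))))))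 (.fuse [3,8,8,11,11,12,13,13,14,14,15] 2 [12,13,13,14,14,15] (.fuse [3,8,8,10,12,13,13,14,14,15] 1 [14,14,15] (.fuse [3,4,4,5,5,9,10,11,11,12,12,13] 1 [15] (.fuse [0,3,6,6,7,7,8,8,10,10,11,13,13] 2 [15] (.fuse [0,7,7,10,11,11,12,13,14] 1 [] (.leaf 427)))))) (.fuse [0,3,6,6,7,7,8,8,10,10,11,13,13] 2 [14,14,15] (.fuse [0,6,6,7,7,10,10,11,11,12,12,14,14] 2 [13,15,15] (.fuse [0,3,6,6,7,7,11,13,13,14,14] 1 [14] (.fuse [0,4,4,5,5,6,6,7,7,8,8,9,10,10,11,13,13] 2 [15,15] (.fuse [3,5,5,6,6,8,9,9,10,11,11,12,13,13,14,14,15] 2 [] (.prune [0,0,0,0,0,0,0,0,0,0,0,0,0,0,0,2]))))))) (.split (.fuse [0,3,6,6,7,7,8,8,10,10,11,13,13] 2 [14,14,15] (.split (.fuse [0,3,6,6,7,7,8,8,11,13,13,14,15] 1 [14,15,15] (.fuse [0,3,6,6,7,7,8,8,9,9,11,11,13] 1 [15,15] (.prune [0,0,0,0,0,0,0,0,0,0,0,0,0,0,2,1])))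 (.fuse [0,3,6,6,7,7,8,8,11,13,13,14,15] 1 [14,15,15] (.fuse [0,3,6,6,7,7,8,8,9,9,11,11,13] 1 [15,15] (.prune [0,0,0,0,0,0,0,0,0,0,0,0,0,0,2,1]))) (.fuse [0,3,6,6,7,7,8,8,11,13,13,14,15] 1 [14,15,15] (.fuse [0,3,6,6,7,7,8,8,9,9,11,11,13] 1 [15,15] (.prune [0,0,0,0,0,0,0,0,0,0,0,0,0,0,2,1]))))) (.fuse [0,3,6,6,7,7,8,8,10,10,11,13,13] 1 [14,14,15] (.fuse [4,5,8,8,9,9,11,12,13,13,15,15] 1 [13,13] (.fuse [0,3,6,6,7,7,8,8,10,13,13,14,14,15,15] 2 [14,14,15] (.fuse [3,8,8,11,11,12,13,13,14,14,15] 1 [] (.prune [0,0,0,0,0,0,0,0,0,0,0,0,0,0,2,0]))))) (.fuse [10,11,15,15] 1 [13] (.fuse [4,5,8,8,9,9,11,12,13,13,15,15] 2 [13] (.fuse [5,9,9,12,15,15] 1 [14,15,15] (.fuse [0,3,6,6,7,7,8,8,10,10,11,13,13] 2 [15] (.prune [0,0,0,0,0,0,0,0,0,0,0,0,0,0,2,2])))))) (.split (.fuse [3,8,8,11,11,12,13,13,14,14,15]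 1 [12,12,13,15,15] (.fuse [3,8,8,10,10,11,12,13,13,14,14,15,15] 2 [15,15] (.fuse [9,11,11,13,14,15] 1 [] (.fuse [0,3,6,6,7,7,8,8,10,10,11,13,13] 2 [15] (.prune [0,0,0,0,0,0,0,0,0,0,0,0,0,0,1,1]))))) (.fuse [0,3,6,6,7,7,8,8,10,10,11,13,13] 2 [14,14,15] (.fuse [0,3,3,6,6,7,7,8,8,10,10,11,12,13,14,15,15] 2 [13,14,15] (.fuse [0,3,6,6,7,7,8,8,11,13,13,14,14] 1 [14,15,15] (.fuse [4,6,8,13,14,15,15] 1 [15,15] (.prune [0,0,0,0,0,0,0,0,0,0,0,0,0,0,1,0]))))) (.fuse [0,3,6,6,7,7,8,8,10,10,11,13,13] 1 [14,14,15] (.fuse [0,6,6,7,7,10,10,11,11,12,12,14,14] 1 [13,13,14,14] (.fuse [0,3,6,6,7,7,8,8,10,13,13,15] 2 [14,14,15] (.fuse [0,4,5,6,6,7,7,8,8,9,9,10,10,12,12] 1 [15] (.prune [0,0,0,0,0,0,0,0,0,0,0,0,0,0,1,2])))))))))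

theorem cert20_ok : certOK leafVecs cert20 [1,0,0,0,0,1,0] = true := by decide +kernel

def cert21 : Cert := (.split (.fuse [3,6,6,7,7,10,10,11,13,13,15,15] 2 [] (.split (.split (.fuse [3,4,4,5,5,6,6,7,7,9,10,10,11,12,12,15] 2 [12,12,13,14,14,15,15] (.fuse [3,4,4,5,5,6,6,7,7,9,11,11,12,13,14,15] 2 [13,13,14,15] (.fuse [3,4,5,6,7,8,9,9,10,10,11,12,12,13,13,14,14] 1 [15,15] (.fuse [3,5,5,9,10,11,11,12,12,14] 1 [15,15] (.fuse [3,5,5,6,8,10,11,15,15] 1 [] (.prune [0,0,0,0,0,0,0,0,0,0,0,0,0,0,0,1])))))) (.fuse [0] 2 [15] (.fuse [0,3,3,4,5,6,7,9,9,10,11,11,12] 2 [13,15] (.fuse [0,8,8,10,11,11,12,13,13,14,14,15] 1 [14,14] (.fuse [3,4,4,5,5,6,7,7,8,8,9,11,11,13,13,14,15,15] 2 [15] (.fuse [0,3,3,4,5,5,6,7,8,8,9,10,12,13,14,15,15] 2 [] (.prune [0,0,0,0,0,0,0,0,0,0,0,0,0,0,0,1]))))))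 (.fuse [0] 1 [15,15] (.fuse [4,5,6,7,9,9,10,13,14] 1 [13,13,14,15] (.fuse [3,4,4,5,5,6,6,7,7,9,12,12,14,15,15] 1 [14,15] (.fuse [0,3,4,4,5,5,6,6,7,7,8,8,9,10,10,11,12,12,15,15] 2 [15,15] (.fuse [0,3,3,5,8,9,9,10,14,14,15] 2 [] (.prune [0,0,0,0,0,0,0,0,0,0,0,0,0,0,0,1]))))))) (.split (.fuse [10,11,15,15] 1 [13,15] (.fuse [3,4,4,5,5,6,6,7,7,9,10,10,11,12,12,15] 2 [13,14,14,15,15] (.fuse [4,6,7,8,10,11,11,12,12,13,15,15] 2 [15,15] (.fuse [5,8,9,11,11,12,13,13,14,15,15] 2 [15,15] (.fuse [3,11,12,12,13] 2 [] (.leaf 428)))))) (.fuse [0] 2 [15] (.fuse [3,4,4,5,5,6,6,7,7,9,10,10,11,12,12,15] 1 [13,13,14,15] (.fuse [0,10,14] 1 [14,14,15,15] (.fuse [0,5,8,8,9,10,12,13,13,15] 2 [15] (.fuse [0,4,6,7,9,9,10,10,11,11,13,13,14,14,15] 2 [] (.leaf 429)))))) (.fuse [0] 1 [15,15] (.fuse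 [5,9,9,12,15,15] 1 [13,14] (.fuse [0,10,10,11,11,14,14,15] 2 [15] (.fuse [0,5,9,10,10,12,13,13,14,15,15] 1 [15,15] (.fuse [4,5,6,7,9,9,10,13,14] 1 [] (.leaf 430))))))) (.split (.fuse [3,4,4,5,5,6,6,7,7,9,10,10,11,12,12,15] 1 [12,12,13,14,14,15,15] (.fuse [3,4,4,5,5,6,6,7,7,9,10,12,12,14] 2 [14,14,15] (.split (.fuse [4,5,6,7,9,9,10,13,14] 2 [15,15] (.fuse [3,4,4,6,6,7,7,8,10,11,11,12,13,13,14] 2 [] (.prune [0,0,0,0,0,0,0,0,0,0,0,0,0,0,0,2]))) (.fuse [0] 1 [] (.fuse [0,4,5,6,7,8,8,9,9,10,11,13] 2 [] (.prune [0,0,0,0,0,0,0,0,0,0,0,0,0,0,0,2]))) (.fuse [0] 2 [] (.fuse [0,4,4,5,5,6,6,7,7,8,8,9,10,10,11,12,13,14,14] 1 [] (.prune [0,0,0,0,0,0,0,0,0,0,0,0,0,0,0,2])))))) (.fuse [0] 2 [15] (.fuse [0,3,4,4,5,5,6,6,7,7,8,8,9,10,10,11,12,12,15,15] 1 [13,13,14,15,15] (.fuse [0,10,14,14]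 1 [14,14,15,15] (.fuse [0,3,4,5,6,7,9,9,10,12] 2 [15,15] (.fuse [0,3,3,4,4,5,6,7,7,9,9,10,11,11,12,12,13,14] 2 [] (.prune [0,0,0,0,0,0,0,0,0,0,0,0,0,0,0,2])))))) (.fuse [0] 1 [15,15] (.fuse [4,5,6,7,9,9,10,13,14] 2 [13,14,14,15] (.fuse [3,4,4,5,5,6,6,7,7,8,9,10,11,11,13,13,14,15,15] 2 [14] (.fuse [3,4,6,7,8,8,11,13,13,14,15] 2 [15] (.fuse [0,3,3,4,5,6,7,9,9,10,11,11,12] 2 [] (.prune [0,0,0,0,0,0,0,0,0,0,0,0,0,0,0,2]))))))))) (.fuse [0] 2 [11,11,14,15,15] (.split (.split (.fuse [0,3,3,6,7,10,11,11,13,15] 2 [14,15,15] (.fuse [0,3,4,5,6,6,7,7,8,8,9,9,10,10,11,12,13] 1 [13,13,15,15] (.fuse [0,3,3,6,7,10,10,12,14,14,15,15] 1 [14,14] (.fuse [3,5,5,9,10,11,11,15,15] 1 [15,15] (.fuse [3,4,4,7,7,8,9,9,11,11,12,13,13] 2 [] (.prune [0,0,0,0,0,0,0,0,0,0,0,0,0,0,0,2])))))) (.fuse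 [0,3,3,6,7,10,11,11,13,15] 1 [14] (.fuse [0,4,4,5,5,8,9,11,11,12,12,13,15,15] 1 [13,13,14,15,15] (.fuse [0,3,3,6,7,11,11,12,12,13,13,15] 2 [14] (.fuse [0,4,4,5,8,9,9,11,11,12,13,15] 2 [] (.fuse [3,4,5,7,8,9,9,10,10,13,14,15,15] 1 [] (.leaf 431)))))) (.fuse [3,4,4,5,5,6,6,7,7,9,10,10,11,11,12,12,14,15] 2 [14] (.fuse [4,5,6,7,8,8,9,9,10,13,14] 1 [13,13,14,15,15] (.fuse [3,4,4,5,5,6,6,7,7,9,12,13,14,14,15] 1 [] (.fuse [0,3,3,6,7,10,11,11,13,15] 1 [15] (.fuse [0,3,3,4,5,5,7,7,9,10,10,11,11,14,14,15] 2 [] (.prune [0,0,0,0,0,0,0,0,0,0,0,0,0,0,0,1]))))))) (.split (.fuse [0,3,3,6,7,10,11,11,13,15] 1 [14,14,15] (.fuse [3,4,4,5,5,6,6,7,7,9,10,10,11,11,12,12,14,15] 2 [13,15,15] (.fuse [0,3,3,6,7,11,13,14,14,15] 2 [14,14,15,15] (.fuse [0,3,3,4,4,10,10,11,11,12,12,14,14,15,15]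 1 [] (.prune [0,0,0,0,0,0,0,0,0,0,0,0,0,0,1,1]))))) (.fuse [10,11,15,15] 1 [13,15,15] (.fuse [3,4,4,5,5,6,6,7,7,9,10,10,11,11,12,12,14,15] 1 [13,13,14,14,15] (.split (.fuse [0,3,3,6,7,10,11,11,13,15] 2 [15,15] (.prune [0,0,0,0,0,0,0,0,0,0,0,0,0,0,1,2])) (.fuse [3,8,8,11,11,12,12,13,14,15] 2 [15] (.prune [0,0,0,0,0,0,0,0,0,0,0,0,0,0,1,2])) (.fuse [0,3,3,6,7,10,11,11,13,15] 1 [15] (.prune [0,0,0,0,0,0,0,0,0,0,0,0,0,0,1,2]))))) (.fuse [0,3,3,6,7,10,11,11,13,15] 2 [14,14] (.fuse [5,9,9,12,15,15] 1 [13,14] (.fuse [0,3,3,6,7,10,10,11,11,13,14,15,15] 1 [14,15] (.fuse [0,3,3,5,6,7,8,8,9,10,10,11,11,13,15] 2 [15] (.prune [0,0,0,0,0,0,0,0,0,0,0,0,0,0,1,0])))))) (.split (.fuse [3,4,4,5,5,6,6,7,7,9,10,10,11,11,12,12,14,15] 1 [12,12,13,15,15] (.fuse [3,4,4,5,5,6,6,7,7,9,10,11,12,12,14,14]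 2 [] (.fuse [6,8,9,12,12,13,13,15] 2 [15] (.fuse [3,4,4,6,6,7,7,8,10,12,13,13,14,14] 1 [15] (.prune [0,0,0,0,0,0,0,0,0,0,0,0,0,0,2,0]))))) (.fuse [0,3,3,6,7,10,11,11,13,15] 2 [15] (.fuse [0,4,4,5,5,8,9,11,11,12,12,13,15,15] 1 [13,13,14,14,15,15] (.fuse [0,3,3,6,7,10,10,11,11,13,14,14] 1 [14,14,15,15] (.fuse [0,4,5,6,6,7,7,8,9,9,10,10,12,13,14,14,15] 1 [] (.prune [0,0,0,0,0,0,0,0,0,0,0,0,0,0,2,1]))))) (.fuse [0,3,3,6,7,10,11,11,13,15] 1 [15,15] (.fuse [4,5,6,7,8,8,9,9,10,13,14] 2 [13,14,15,15] (.fuse [3,4,4,5,5,6,6,7,7,9,10,11,13,13,14,15,15] 2 [14,14] (.fuse [0,3,4,5,6,6,7,7,8,8,9,9,10,10,11,12,13] 2 [15,15] (.prune [0,0,0,0,0,0,0,0,0,0,0,0,0,0,2,2])))))))) (.fuse [0] 1 [11,14,14] (.split (.split (.fuse [0,3,6,6,7,7,8,8,10,10,11,13,13] 1 [14,14,15] (.fuse [0,3,3,4,4,5,5,6,7,9,10,11,11,12,12,13,13,14,15]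 2 [13,14,14,15,15] (.fuse [0,3,6,6,7,7,10,12,12,14,15,15] 2 [14,15] (.fuse [4,5,5,6,6,7,8,10,11,13,15,15] 1 [15] (.fuse [0,3,3,4,5,9,9,11,12,13,13,14,15] 2 [] (.prune [0,0,0,0,0,0,0,0,0,0,0,0,0,0,0,2])))))) (.fuse [3,4,4,5,5,6,6,7,7,8,9,10,10,11,11,12,12] 2 [12,13,13,14,14,15] (.fuse [3,4,4,5,5,6,6,7,7,8,9,12,13,14,15] 1 [14,15,15] (.fuse [3,4,4,5,6,6,7,7,8,9,9,12,12,15,15] 1 [14,14] (.fuse [0,3,6,6,7,7,8,8,10,10,11,13,13] 2 [15] (.fuse [12,14,15,15] 2 [] (.prune [0,0,0,0,0,0,0,0,0,0,0,0,0,0,0,1])))))) (.fuse [0,3,6,6,7,7,8,8,10,10,11,13,13] 2 [14,14,15] (.fuse [4,5,6,7,9,9,10,11,13,14,15] 1 [13,13,14,14,15,15] (.fuse [3,4,4,5,5,6,6,7,7,8,9,11,11,12,12,14,15] 1 [15,15] (.fuse [0,4,5,8,8,9,9,11,12,13,13,14,14,15] 1 [] (.fuse [3,4,6,7,8,8,9,9,10,10,12,13,14,14,15] 2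 [] (.leaf 432))))))) (.split (.fuse [0,3,6,6,7,7,8,8,10,10,11,13,13] 2 [14,14,15] (.fuse [3,4,4,5,5,6,6,7,7,8,9,10,10,11,11,12,12] 2 [13,14,14,15] (.fuse [0,3,6,6,7,7,8,8,11,13,13,14,15] 1 [14,15,15] (.fuse [0,3,4,10,11,12,13,14,15,15] 1 [] (.prune [0,0,0,0,0,0,0,0,0,0,0,0,0,0,2,1]))))) (.fuse [0,3,6,6,7,7,8,8,10,10,11,13,13] 1 [14,14,15] (.fuse [3,4,4,5,5,6,6,7,7,8,9,10,10,11,11,12,12] 1 [13,13,14,15] (.fuse [0,3,6,6,7,7,8,8,10,13,13,14,14,15,15] 2 [14,14,15] (.fuse [0,3,5,6,6,7,7,8,8,9,10,11,12,12,14] 2 [15] (.prune [0,0,0,0,0,0,0,0,0,0,0,0,0,0,2,0]))))) (.fuse [10,11,15,15] 1 [13] (.fuse [5,9,9,12,15,15] 1 [13,14] (.split (.fuse [0,3,6,6,7,7,8,8,10,10,11,13,13] 2 [15] (.prune [0,0,0,0,0,0,0,0,0,0,0,0,0,0,2,2])) (.fuse [4,5,6,7,9,9,10,11,13,14,15] 1 [15,15] (.prune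 [0,0,0,0,0,0,0,0,0,0,0,0,0,0,2,2])) (.fuse [0,3,6,6,7,7,8,8,10,10,11,13,13] 1 [15,15] (.prune [0,0,0,0,0,0,0,0,0,0,0,0,0,0,2,2])))))) (.split (.fuse [3,4,4,5,5,6,6,7,7,8,9,10,10,11,11,12,12] 1 [12,12,13,14,15] (.fuse [3,4,4,5,5,6,6,7,7,8,9,10,11,12,12,14,15,15] 2 [14,15] (.fuse [6,8,9,12,12,13,13,15] 1 [14] (.fuse [0,3,6,6,7,7,8,8,10,10,11,13,13] 2 [15] (.prune [0,0,0,0,0,0,0,0,0,0,0,0,0,0,1,0]))))) (.fuse [0,3,6,6,7,7,8,8,10,10,11,13,13] 2 [14,14,15] (.fuse [0,3,3,4,4,5,5,6,7,9,10,11,11,12,12,13,13,14,15] 1 [13,13,14,14,15,15] (.fuse [0,3,6,6,7,7,8,8,11,13,13,14,14] 1 [14,15,15] (.fuse [0,3,3,4,5,9,9,11,12,13,13,14,14,15] 2 [15] (.prune [0,0,0,0,0,0,0,0,0,0,0,0,0,0,1,2]))))) (.fuse [0,3,6,6,7,7,8,8,10,10,11,13,13] 1 [14,14,15] (.fuse [4,5,6,7,9,9,10,11,13,14,15] 2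 [13,15,15] (.fuse [3,4,4,5,5,6,6,7,7,9,10,11,11,13,13,14,14] 2 [15] (.fuse [5,8,9,11,11,12,13,14,15,15] 1 [15] (.prune [0,0,0,0,0,0,0,0,0,0,0,0,0,0,1,1])))))))))

theorem cert21_ok : certOK leafVecs cert21 [1,0,0,0,0,1,1] = true := by decide +kernel

def cert22 : Cert := (.split (.fuse [3,6,6,7,7,10,10,11,13,13,15,15] 2 [] (.split (.split (.fuse [3,4,5,6,6,7,7,8,9,9,10,10,12,13] 2 [12,12,13] (.fuse [3,4,5,6,6,7,7,8,9,9,11,12,12,14,15] 2 [13,13,14,15,15] (.fuse [3,4,4,5,5,6,7,8,9,10,10,11,12,12,13,13,14,15] 1 [14,14,15] (.fuse [5,6,8,8,9,9,11,11,12,14,14,15,15] 2 [15,15] (.fuse [5,6,8,8,9,9,12,14,15] 2 [] (.prune [0,0,0,0,0,0,0,0,0,0,0,0,0,0,0,1])))))) (.fuse [0] 2 [15] (.fuse [4,5,6,6,7,7,9,9,10,10,13,13,14,15,15] 2 [13,14,14,15,15] (.fuse [3,4,5,6,6,7,7,8,9,9,12,13,14,15]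 1 [14,14,15] (.fuse [3,4,4,5,6,7,9,9,10,10,11,12,13,13] 2 [] (.fuse [0,3,3,4,4,5,5,6,7,8,8,9,10,12,12,13,13,14,14,15] 1 [] (.prune [0,0,0,0,0,0,0,0,0,0,0,0,0,0,0,1])))))) (.fuse [0] 1 [15,15] (.fuse [0,3,4,5,6,6,7,7,9,9,10,10,12,13,14,14,15] 1 [13,13,14,15,15] (.fuse [0,8,8,10,10,11,12,13,13,14,14,15] 2 [] (.fuse [0,3,4,5,5,6,6,7,7,9,10,10,11,12,13,14,14,15] 2 [15,15] (.fuse [3,4,4,5,5,7,9,10,10,11,11,12,12,14] 1 [] (.prune [0,0,0,0,0,0,0,0,0,0,0,0,0,0,0,1]))))))) (.split (.fuse [10,11,15,15] 1 [13,15] (.fuse [3,4,5,6,6,7,7,8,9,9,10,10,12,13] 2 [13] (.fuse [4,6,6,7,7,8,8,10,10,11,12,12,13,13] 1 [15] (.fuse [5,8,8,9,12,13,13,14,14,15] 2 [15] (.fuse [5,9,11,11,12,13,13,15] 1 [] (.leaf 433)))))) (.fuse [0] 2 [15] (.fuse [5,9,9,12,15,15] 2 [13,13,14,14,15] (.fuse [0,10,14]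 1 [14,14,15,15] (.fuse [0,5,9,10,11,12,13,13,15] 2 [15] (.fuse [0,5,9,10,11,12,12,13,15,15] 2 [] (.leaf 434)))))) (.fuse [0] 1 [15,15] (.fuse [3,4,5,6,6,7,7,8,9,9,10,10,12,13] 1 [13,13] (.fuse [0,10,10,11,11,14,14,15] 2 [15] (.fuse [0,5,8,9,10,10,11,12,13,13] 1 [] (.fuse [3,8,12,13,13,14] 1 [] (.leaf 435))))))) (.split (.fuse [3,4,5,6,6,7,7,8,9,9,10,10,12,13] 1 [12,12,13] (.fuse [3,4,5,6,6,7,7,8,9,9,10,11,11,12,13,14] 2 [15,15] (.split (.fuse [4,5,6,6,7,7,9,9,10,10,13,13,14,15,15] 1 [15,15] (.fuse [3,4,6,6,7,7,8,10,11,11,12,12,13] 2 [] (.prune [0,0,0,0,0,0,0,0,0,0,0,0,0,0,0,2]))) (.fuse [0] 1 [] (.fuse [0,4,4,5,5,6,7,8,9,10,11,11,12,12,13,13,14,14,15] 1 [] (.prune [0,0,0,0,0,0,0,0,0,0,0,0,0,0,0,2]))) (.fuse [0] 2 [] (.fuse [0,4,5,6,6,7,7,8,9,9,10,10,11,11,13,13,14,14,15]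 2 [] (.prune [0,0,0,0,0,0,0,0,0,0,0,0,0,0,0,2])))))) (.fuse [0] 2 [15] (.fuse [4,5,6,6,7,7,9,9,10,10,13,13,14,15,15] 1 [13,13,14] (.fuse [3,4,5,6,6,7,7,9,9,10,13,13,15] 2 [14,14] (.fuse [0,3,4,5,6,6,7,7,9,9,10,10,12,13,14,14,15] 1 [15] (.fuse [0,3,4,5,7,7,8,9,10,10,14] 1 [] (.prune [0,0,0,0,0,0,0,0,0,0,0,0,0,0,0,2])))))) (.fuse [0] 1 [15,15] (.fuse [0,3,3,4,4,5,5,6,7,8,8,9,10,12,12,13,13,14,14,15] 2 [13,14,14] (.fuse [0,10,10,11,11,15] 2 [15] (.fuse [3,4,4,7,11,11,12,15] 1 [15,15] (.fuse [0,3,3,4,5,6,6,7,7,8,9,9,10,10,11,12,12,14,14,15] 1 [] (.prune [0,0,0,0,0,0,0,0,0,0,0,0,0,0,0,2]))))))))) (.fuse [0] 2 [11,11,14,15,15] (.split (.split (.fuse [0,3,3,6,7,10,11,11,13,15] 2 [14,15,15] (.fuse [0,3,4,4,5,5,6,6,7,7,8,9,10,10,12,12,15,15] 1 [13,13,14,15,15] (.fuse [0,3,3,6,7,8,10,10,11,11,12,12,13,13,14,14]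 1 [14,14] (.fuse [3,5,8,9,9,10,11,11,13] 1 [15,15] (.fuse [0,3,4,5,8,8,9,9,12,13,13,15] 1 [] (.prune [0,0,0,0,0,0,0,0,0,0,0,0,0,0,0,2])))))) (.fuse [0,3,3,6,7,10,11,11,13,15] 1 [14] (.fuse [4,5,6,6,7,7,9,9,10,10,13,13,14,14] 2 [13,14,14,15] (.fuse [3,4,5,6,6,7,7,9,9,12,13] 1 [14,14,15] (.fuse [0,4,5,9,9,11,11,12,13,13,14,14] 1 [] (.fuse [0,3,5,5,6,7,8,9,10,10,11,11,14,14,15] 2 [] (.leaf 436)))))) (.fuse [3,4,5,6,6,7,7,9,9,10,10,11,12,13,14,14,15] 2 [12,13,13,14] (.fuse [3,4,5,6,6,7,7,9,9,11,11,12,12,15] 1 [14,14] (.fuse [3,4,5,5,6,6,7,7,8,9,11,12,13,13,14,15] 1 [14,15] (.fuse [0,3,3,6,7,10,11,11,13,15] 1 [15] (.fuse [0,4,5,6,6,9,9,10,11,12,14,14,15,15] 2 [] (.prune [0,0,0,0,0,0,0,0,0,0,0,0,0,0,0,1]))))))) (.split (.fuse [0,3,3,6,7,10,11,11,13,15] 1 [14,14,15] (.fuse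 [3,4,5,6,6,7,7,9,9,10,10,11,12,13,14,14,15] 2 [13,14,14,15,15] (.fuse [0,3,3,6,7,11,13,14,14,15] 2 [14,14,15,15] (.fuse [3,11,12,13,13,14] 2 [] (.prune [0,0,0,0,0,0,0,0,0,0,0,0,0,0,1,1]))))) (.fuse [10,11,15,15] 1 [13,15,15] (.fuse [5,9,9,12,15,15] 2 [13,13,14,14,15] (.split (.fuse [0,3,3,6,7,10,11,11,13,15] 2 [15,15] (.prune [0,0,0,0,0,0,0,0,0,0,0,0,0,0,1,2])) (.fuse [3,4,5,6,6,7,7,9,9,10,10,11,12,13,14,14,15] 2 [] (.prune [0,0,0,0,0,0,0,0,0,0,0,0,0,0,1,2])) (.fuse [0,3,3,6,7,10,11,11,13,15] 1 [15] (.prune [0,0,0,0,0,0,0,0,0,0,0,0,0,0,1,2]))))) (.fuse [0,3,3,6,7,10,11,11,13,15] 2 [14,14] (.fuse [3,4,5,6,6,7,7,9,9,10,10,11,12,13,14,14,15] 1 [13,13,14,14] (.fuse [0,3,3,6,7,10,10,11,11,13,14,15,15] 1 [14,15] (.fuse [0,3,3,5,6,7,9,10,10,13,14,14,15] 2 [15] (.prune [0,0,0,0,0,0,0,0,0,0,0,0,0,0,1,0]))))))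 (.split (.fuse [3,4,5,6,6,7,7,9,9,10,10,11,12,13,14,14,15] 1 [12,12,13,15,15] (.fuse [3,4,5,6,6,7,7,9,9,10,12,13,15] 2 [] (.fuse [6,8,9,9,11,11,12,12,13,14,15] 1 [14,15,15] (.fuse [4,5,6,6,7,7,9,9,10,10,13,13,14,14] 1 [15] (.prune [0,0,0,0,0,0,0,0,0,0,0,0,0,0,2,0]))))) (.fuse [0,3,3,6,7,10,11,11,13,15] 2 [15] (.fuse [4,5,6,6,7,7,9,9,10,10,13,13,14,14] 1 [13,13,14,15,15] (.fuse [3,4,5,6,6,7,7,8,9,9,10,11,11,13,13] 2 [14,14,15,15] (.fuse [0,4,5,9,9,11,11,12,13,13,14,14] 1 [] (.prune [0,0,0,0,0,0,0,0,0,0,0,0,0,0,2,1]))))) (.fuse [0,3,3,6,7,10,11,11,13,15] 1 [15,15] (.fuse [0,3,4,4,5,5,6,6,7,7,8,9,10,10,12,12,15,15] 2 [13,14,14] (.fuse [0,3,3,6,7,11,13,15,15] 2 [] (.fuse [3,4,4,7,8,11,12,14,15] 1 [] (.prune [0,0,0,0,0,0,0,0,0,0,0,0,0,0,2,2])))))))) (.fuse [0] 1 [11,14,14]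 (.split (.split (.fuse [0,3,6,6,7,7,8,8,10,10,11,13,13] 1 [14,14,15] (.fuse [0,3,3,4,5,6,7,9,9,10,12,14,15] 2 [13,15,15] (.fuse [0,3,6,6,7,7,8,8,10,11,12,13] 2 [14,15] (.fuse [4,5,5,7,7,8,8,9,9,10,10,11,12,13,14,14] 2 [15] (.fuse [0,3,3,4,4,5,5,9,11,14,14] 1 [] (.prune [0,0,0,0,0,0,0,0,0,0,0,0,0,0,0,2])))))) (.fuse [3,4,5,6,6,7,7,9,9,10,10,11,12,13,14,14,15] 2 [14] (.fuse [4,5,6,6,7,7,8,9,9,10,10,11,11,13,13,15,15] 2 [13,14,15] (.fuse [3,4,5,6,6,7,7,9,9,11,11,12,12,15] 1 [14,14,15] (.fuse [0,3,6,6,7,7,8,8,10,10,11,13,13] 2 [15] (.fuse [3,4,5,5,7,7,8,9,14,15,15] 1 [] (.prune [0,0,0,0,0,0,0,0,0,0,0,0,0,0,0,1])))))) (.fuse [0,3,6,6,7,7,8,8,10,10,11,13,13] 2 [14,14,15] (.fuse [0,4,4,5,5,8,9,11,12,12,13] 2 [13] (.fuse [0,3,6,6,7,7,8,8,11,11,12,12,14,14,15] 1 [14] (.fuse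 [4,5,6,6,7,7,8,9,9,10,10,11,11,13,13,15,15] 1 [] (.fuse [0,4,4,5,8,8,9,9,11,15] 1 [] (.leaf 437))))))) (.split (.fuse [0,3,6,6,7,7,8,8,10,10,11,13,13] 2 [14,14,15] (.fuse [3,4,5,6,6,7,7,9,9,10,10,11,12,13,14,14,15] 2 [13,14,14,15] (.fuse [0,3,6,6,7,7,8,8,11,13,13,14,15] 1 [14,15,15] (.fuse [3,8,8,11,11,12,13,13,14,14,15] 1 [] (.prune [0,0,0,0,0,0,0,0,0,0,0,0,0,0,2,1]))))) (.fuse [0,3,6,6,7,7,8,8,10,10,11,13,13] 1 [14,14,15] (.fuse [5,9,9,12,15,15] 2 [13,13,14,14,15] (.fuse [0,3,6,6,7,7,8,8,10,13,13,14,14,15,15] 2 [14,14,15] (.fuse [0,3,5,6,6,7,7,9,10,11,11,12,12,14,14,15] 2 [15,15] (.prune [0,0,0,0,0,0,0,0,0,0,0,0,0,0,2,0]))))) (.fuse [10,11,15,15] 1 [13] (.fuse [3,4,5,6,6,7,7,9,9,10,10,11,12,13,14,14,15] 1 [13,13,14,14,15,15] (.split (.fuse [0,3,6,6,7,7,8,8,10,10,11,13,13]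 2 [15] (.prune [0,0,0,0,0,0,0,0,0,0,0,0,0,0,2,2])) (.fuse [3,8,8,11,11,12,13,13,14,14,15] 1 [15,15] (.prune [0,0,0,0,0,0,0,0,0,0,0,0,0,0,2,2])) (.fuse [0,3,6,6,7,7,8,8,10,10,11,13,13] 1 [15,15] (.prune [0,0,0,0,0,0,0,0,0,0,0,0,0,0,2,2])))))) (.split (.fuse [3,4,5,6,6,7,7,9,9,10,10,11,12,13,14,14,15] 1 [12,12,13,15] (.fuse [3,4,5,6,6,7,7,9,9,10,12,13,15] 2 [15] (.fuse [6,8,9,9,11,11,12,12,13,15] 2 [15] (.fuse [0,3,6,6,7,7,8,8,10,10,11,13,13] 2 [15] (.prune [0,0,0,0,0,0,0,0,0,0,0,0,0,0,1,0]))))) (.fuse [0,3,6,6,7,7,8,8,10,10,11,13,13] 2 [14,14,15] (.fuse [4,5,6,6,7,7,8,9,9,10,10,11,11,13,13,15,15] 1 [13,13,14,15,15] (.fuse [3,4,5,6,6,7,7,9,9,10,13,13,14,14] 2 [14,14,15,15] (.fuse [5,6,8,8,12,12,13,15] 2 [15] (.prune [0,0,0,0,0,0,0,0,0,0,0,0,0,0,1,2]))))) (.fuse [0,3,6,6,7,7,8,8,10,10,11,13,13]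 1 [14,14,15] (.fuse [0,4,4,5,5,8,9,11,12,12,13] 2 [13,14] (.fuse [0,3,6,6,7,7,8,8,10,13,13,15] 2 [14,14,15] (.fuse [0,4,5,6,7,9,9,10,11,11,12,12,13,13,15] 2 [15,15] (.prune [0,0,0,0,0,0,0,0,0,0,0,0,0,0,1,1])))))))))

theorem cert22_ok : certOK leafVecs cert22 [1,0,0,0,0,1,2] = true := by decide +kernel


end H49.Order3.Fi24
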