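/-
Generated data: part of the certificate tree, with its check.
-/
import Cfsg.Agent.H49.Order3.Fi24.CertDef
import Cfsg.Agent.H49.Order3.Fi24.Data.Leaves

set_option autoImplicit false
set_option maxRecDepth 100000
set_option linter.all false
set_option Elab.async false

namespace H49.Order3.Fi24

def cert23 : Cert := (.split (.fuse [6,7,8,10,11,11,12,14,15] 1 [11,11,12,12,13,15,15] (.split (.split (.fuse [10,11,15,15] 1 [13,13,14] (.fuse [6,11,12,12,13] 2 [14,14,15] (.split (.fuse [4,5,8,8,9,9,11,12,13,13,15,15] 1 [] (.split (.leaf 438) (.leaf 439) (.leaf 440))) (.fuse [0] 1 [] (.fuse [3,6,6,7,7,10,10,11,13,13,15,15] 2 [] (.leaf 441))) (.fuse [0] 2 [] (.fuse [3,6,6,7,7,10,10,11,13,13,15,15] 1 [] (.leaf 442)))))) (.fuse [0] 2 [15] (.fuse [4,5,8,8,9,9,11,12,13,13,15,15] 1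 [13,13,14] (.fuse [0,10,14] 2 [14,15] (.fuse [4,6,8,12,13,13,14,15,15] 2 [] (.prune [0,0,0,0,0,0,0,0,0,0,0,0,0,0,1,0]))))) (.fuse [0] 1 [15,15] (.fuse [4,5,8,8,9,9,11,12,13,13,15,15] 2 [13,14] (.fuse [0,10,10,11,11,14,14,15] 1 [14,14,15,15] (.fuse [4,6,6,8,8,13,14,14,15] 1 [] (.prune [0,0,0,0,0,0,0,0,0,0,0,0,0,0,2,0])))))) (.split (.fuse [3,6,6,7,7,10,10,11,13,13,15,15] 1 [14,14] (.fuse [6,11,12,12,13] 1 [14,14,15,15] (.fuse [3,6,6,7,7,10,13,13] 1 [14] (.fuse [4,5,8,8,9,9,11,12,13,13,15,15] 2 [] (.split (.leaf 443) (.leaf 444) (.leaf 445)))))) (.fuse [0] 2 [15] (.fuse [4,5,8,8,9,9,11,12,13,13,15,15] 1 [13,13,14,14] (.fuse [3,6,6,7,7,8,8,10,11,13,13,14,14,15,15] 1 [14,14,15] (.fuse [3,4,5,6,7,7,9,9,10,11,11,12,14,14] 2 [] (.prune [0,0,0,0,0,0,0,0,0,0,0,0,0,0,1,0]))))) (.fuse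 [0] 1 [15,15] (.fuse [4,5,8,8,9,9,11,12,13,13,15,15] 2 [13,14,14] (.fuse [3,6,6,7,7,8,10,11,11,13,13,14,14,15,15] 1 [] (.fuse [0,3,3,6,7,10,11,11,13,15] 1 [15] (.prune [0,0,0,0,0,0,0,0,0,0,0,0,0,0,2,0])))))) (.split (.fuse [3,6,6,7,7,10,10,11,13,13,15,15] 2 [14] (.split (.fuse [3,6,6,7,7,11,11,13,13,15,15] 2 [14,14] (.fuse [6,11,12,12,13] 2 [] (.split (.leaf 446) (.leaf 447) (.leaf 448)))) (.fuse [3,6,6,7,7,11,11,13,13,15,15] 2 [14,14] (.fuse [4,5,8,8,9,9,11,12,13,13,15,15] 2 [] (.fuse [4,5,6,6,8,8,9,9,12,13,14] 2 [] (.leaf 449)))) (.fuse [3,6,6,7,7,11,11,13,13,15,15] 2 [14,14] (.fuse [4,5,8,8,9,9,11,12,13,13,15,15] 1 [] (.fuse [4,5,6,8,9,9,12,12,13,13] 2 [] (.leaf 450)))))) (.fuse [0] 2 [15] (.fuse [4,5,8,8,9,9,11,12,13,13,15,15] 1 [13,13] (.fuse [3,6,6,7,7,11,13,13,14,15,15]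 2 [14,14,15,15] (.fuse [0,3,3,6,7,10,11,11,13,15] 2 [15,15] (.prune [0,0,0,0,0,0,0,0,0,0,0,0,0,0,1,0]))))) (.fuse [0] 1 [15,15] (.fuse [4,5,8,8,9,9,11,12,13,13,15,15] 2 [13] (.fuse [3,6,6,7,7,13,13,14] 2 [14,14,15] (.fuse [6,11,12,12,13] 2 [] (.prune [0,0,0,0,0,0,0,0,0,0,0,0,0,0,2,0])))))))) (.fuse [0] 2 [11,11,14,15,15] (.split (.split (.fuse [0,6,7,10,12,14,15] 1 [12,12,13,14,15,15] (.fuse [0,6,7,11,11,12,14,15,15] 2 [13,13,15] (.fuse [0,7,11,12,12,13,13,14,14] 2 [14,15,15] (.fuse [0,7,9,9,11,11,12,12,13,14] 1 [15,15] (.prune [0,0,0,0,0,0,0,0,0,0,0,0,0,0,1,1]))))) (.fuse [10,11,15,15] 1 [13,13,14,15] (.fuse [0,6,7,10,12,14,15] 2 [13,14] (.fuse [4,5,6,8,8,9,9,11,11,12,15,15] 2 [] (.fuse [0,4,5,6,7,8,8,9,9,10,11,13,14,14,15] 1 [15] (.prune [0,0,0,0,0,0,0,0,0,0,0,0,0,0,2,2])))))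 (.fuse [0,6,7,10,12,14,15] 2 [12,12,13,14,15] (.fuse [0,6,7,10,10,12,14,14] 2 [14,14,15] (.fuse [0,4,4,5,5,6,7,8,8,9,10,10,11,12,12,13,13] 2 [14,15] (.fuse [5,11,11,12,14,15,15] 2 [15,15] (.fuse [0,7,10,10,11,11,12,12,13,13,14,14,15] 2 [] (.leaf 451))))))) (.split (.fuse [0,6,7,10,12,14,15] 1 [12,13,13,15,15] (.fuse [0,3,3,6,6,7,7,10,10,11,11,12,13,14,14] 1 [13,13,14] (.fuse [0,3,3,6,7,7,10,10,11,12,12,14,14] 2 [14,14] (.fuse [3,6,6,7,7,8,9,10,11,11,13,13,14,14,15,15] 1 [15] (.prune [0,0,0,0,0,0,0,0,0,0,0,0,0,0,2,1]))))) (.fuse [3,6,6,7,7,10,10,11,13,13,15,15] 1 [14,14] (.fuse [0,6,7,10,12,14,15] 1 [13,13] (.fuse [3,6,6,7,7,10,13,13] 1 [14,15,15] (.fuse [0,4,4,5,5,6,7,8,8,9,10,11,13,14,14,15,15] 1 [] (.fuse [3,5,6,6,7,7,8,9,9,10,11,11,12,12,13,14,15,15] 1 [] (.prune [0,0,0,0,0,0,0,0,0,0,0,0,0,0,0,2]))))))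 (.fuse [0,6,7,10,12,14,15] 2 [12,13,13,15] (.fuse [0,3,8,8,11,12,13,13,14,15,15] 1 [13,13,15,15] (.fuse [3,6,6,7,7,8,8,10,11,13,13,14,15] 1 [14,14,15,15] (.fuse [3,4,4,5,5,6,7,7,8,9,10,11] 1 [] (.prune [0,0,0,0,0,0,0,0,0,0,0,0,0,0,1,0])))))) (.split (.fuse [0,6,7,10,12,14,15] 1 [14,14,15,15] (.split (.fuse [3,6,6,7,7,13,13,14,14,15] 2 [14,14] (.fuse [0,3,8,8,11,12,13,13,14,15,15] 2 [15] (.fuse [0,6,7,8,8,9,11,11,12,13] 1 [] (.prune [0,0,0,0,0,0,0,0,0,0,0,0,0,0,0,1])))) (.fuse [3,6,6,7,7,13,13,14,14,15] 2 [14,14] (.fuse [0,3,8,8,11,12,13,13,14,15,15] 2 [15,15] (.fuse [0,6,7,8,8,9,11,11,12,13] 2 [] (.prune [0,0,0,0,0,0,0,0,0,0,0,0,0,0,0,1])))) (.fuse [3,6,6,7,7,13,13,14,14,15] 2 [14,14] (.fuse [0,3,8,8,11,12,13,13,14,15,15] 2 [] (.fuse [6,14,14,15,15] 2 [] (.prune [0,0,0,0,0,0,0,0,0,0,0,0,0,0,0,1]))))))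 (.fuse [3,6,6,7,7,10,10,11,13,13,15,15] 2 [14] (.fuse [4,5,8,8,9,9,11,12,13,13,15,15] 1 [13,13] (.fuse [3,6,6,7,7,11,11,13,13,15,15] 2 [14,14,15] (.fuse [0,6,7,10,12,14,15] 2 [] (.prune [0,0,0,0,0,0,0,0,0,0,0,0,0,0,1,2]))))) (.fuse [0,6,7,10,12,14,15] 2 [14,14,15] (.fuse [4,5,8,8,9,9,11,12,13,13,15,15] 2 [13] (.fuse [3,6,6,7,7,11,13,13,14] 2 [14,14,15,15] (.fuse [0,3,3,6,6,7,7,10,10,11,11,12,13,14,14] 1 [15,15] (.prune [0,0,0,0,0,0,0,0,0,0,0,0,0,0,2,0])))))))) (.fuse [0] 1 [11,14,14] (.split (.split (.fuse [0,6,6,7,7,8,8,10,10,11,12,12,15] 2 [12,13,13,14,14] (.fuse [0,6,6,7,7,8,8,11,12,12,14,15] 1 [13] (.fuse [0,7,7,8,8,11,11,12,13,15,15] 1 [14,14,15] (.fuse [0,7,7,8,8,9,9,12,14,14,15,15] 1 [15] (.prune [0,0,0,0,0,0,0,0,0,0,0,0,0,0,2,1]))))) (.fuse [0,6,6,7,7,8,8,10,10,11,12,12,15]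 1 [12,13,13,14,14] (.fuse [0,6,6,7,7,8,8,10,12,12,14] 1 [14,15] (.fuse [0,4,4,5,5,6,6,7,7,8,8,9,10,12,12,14,15,15] 1 [15] (.fuse [0,7,7,8,8,10,11,13,13] 2 [15,15] (.fuse [0,4,6,7,7,8,10,13,13,15] 2 [] (.leaf 452)))))) (.fuse [10,11,15,15] 1 [13,13,14,15,15] (.fuse [0,6,6,7,7,8,8,10,10,11,12,12,15] 1 [13,13,14,14] (.fuse [4,5,6,6,8,8,9,9,12,12,14,14,15] 1 [] (.fuse [0,4,5,6,6,7,7,8,9,9,10,10,11,11,12,12,14] 1 [15] (.prune [0,0,0,0,0,0,0,0,0,0,0,0,0,0,1,2])))))) (.split (.fuse [0,6,6,7,7,8,8,10,10,11,12,12,15] 2 [12,12,13,14,15,15] (.fuse [0,3,6,7,8,10,11,11,12,12,13,13,15] 2 [13,14,15,15] (.fuse [0,3,6,6,7,8,10,12,14,14] 1 [15,15] (.fuse [0,7,7,8,8,11,11,12,13,14,14,15] 1 [15,15] (.prune [0,0,0,0,0,0,0,0,0,0,0,0,0,0,1,1]))))) (.fuse [0,6,6,7,7,8,8,10,10,11,12,12,15] 1 [12,12,13,14,15,15]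 (.fuse [0,3,3,8,8,12,12,13,14,14,15,15] 2 [13,14,14,15,15] (.fuse [3,6,6,7,7,8,10,11,11,13,13,14] 1 [] (.fuse [3,4,5,6,7,7,8,9,9,10,11,12,12,13,13,14] 2 [15,15] (.prune [0,0,0,0,0,0,0,0,0,0,0,0,0,0,2,0]))))) (.fuse [3,6,6,7,7,10,10,11,13,13,15,15] 1 [14,14] (.fuse [0,6,6,7,7,8,8,10,10,11,12,12,15] 2 [13,14,15,15] (.fuse [3,6,6,7,7,10,13,13] 1 [14,15] (.fuse [0,4,4,5,5,6,6,7,7,8,8,9,10,10,11,12,13,14,14,15] 2 [15,15] (.fuse [0,4,4,5,5,6,6,7,7,8,8,9,10,10,11,12,12,15,15] 2 [] (.prune [0,0,0,0,0,0,0,0,0,0,0,0,0,0,0,2]))))))) (.split (.fuse [0,6,6,7,7,8,8,10,10,11,12,12,15] 2 [15] (.split (.fuse [3,6,6,7,7,11,13,13,14] 2 [14,14,15,15] (.fuse [0,3,3,8,8,12,12,13,14,14,15,15] 2 [15,15] (.fuse [3,6,6,7,7,9,11,14,15] 1 [] (.prune [0,0,0,0,0,0,0,0,0,0,0,0,0,0,0,1])))) (.fuse [3,6,6,7,7,11,13,13,14]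 2 [14,14,15,15] (.fuse [0,3,3,8,8,12,12,13,14,14,15,15] 2 [15] (.fuse [0,3,3,4,4,5,5,9,11,11,12,13,13,14] 1 [] (.prune [0,0,0,0,0,0,0,0,0,0,0,0,0,0,0,1])))) (.fuse [3,6,6,7,7,11,13,13,14] 2 [14,14,15,15] (.fuse [0,3,3,8,8,12,12,13,14,14,15,15] 2 [] (.fuse [3,6,6,7,7,9,11,14,15] 1 [] (.prune [0,0,0,0,0,0,0,0,0,0,0,0,0,0,0,1])))))) (.fuse [0,6,6,7,7,8,8,10,10,11,12,12,15] 1 [15] (.fuse [4,5,8,8,9,9,11,12,13,13,15,15] 1 [13,13] (.fuse [3,6,6,7,7,13,13,15] 2 [14,14,15,15] (.fuse [6,11,12,12,13,15,15] 2 [15,15] (.prune [0,0,0,0,0,0,0,0,0,0,0,0,0,0,1,0]))))) (.fuse [3,6,6,7,7,10,10,11,13,13,15,15] 2 [14] (.fuse [4,5,8,8,9,9,11,12,13,13,15,15] 2 [13] (.fuse [3,6,6,7,7,11,11,13,13,15,15] 2 [14,14,15,15] (.fuse [6,11,12,12,13,15,15] 2 [15,15] (.prune [0,0,0,0,0,0,0,0,0,0,0,0,0,0,2,2])))))))))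

theorem cert23_ok : certOK leafVecs cert23 [1,0,0,0,0,2,0] = true := by decide +kernel

def cert24 : Cert := (.split (.fuse [4,5,8,8,9,9,11,12,13,13,15,15] 2 [11,12,13,13,15] (.split (.split (.fuse [10,11,15,15] 1 [13,13,14] (.fuse [5,9,9,12,15,15] 1 [15] (.split (.fuse [4,5,6,7,8,8,9,9,10,11,12,12,13,13,14,15,15] 2 [15] (.fuse [4,5,7,9,10,13,14] 2 [] (.prune [0,0,0,0,0,0,0,0,0,0,0,0,0,0,0,2]))) (.fuse [0] 1 [] (.fuse [0,4,5,6,7,8,9,9,10,11,11,12,12,13,13,14,14,15,15] 1 [] (.prune [0,0,0,0,0,0,0,0,0,0,0,0,0,0,0,2]))) (.fuse [0] 2 [] (.fuse [0,4,4,5,5,6,6,7,7,9,10,10,12,12,15,15] 2 [] (.prune [0,0,0,0,0,0,0,0,0,0,0,0,0,0,0,2])))))) (.fuse [0] 2 [15] (.fuse [4,5,6,7,8,8,9,9,10,11,12,12,13,13,14,15,15] 1 [13,13,14,14,15] (.fuse [0,10,14] 2 [14,15] (.fuse [0,5,5,6,6,8,8,9,10,13,13,14,15]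 1 [15] (.prune [0,0,0,0,0,0,0,0,0,0,0,0,0,0,1,2]))))) (.fuse [0] 1 [15,15] (.fuse [4,5,6,7,8,8,9,9,10,11,12,12,13,13,14,15,15] 2 [13,14,14,15] (.fuse [0,10,10,11,11,14,14,15] 1 [14,14,15,15] (.fuse [4,6,6,7,8,8,10,11,11,13,14,14,15] 1 [15] (.prune [0,0,0,0,0,0,0,0,0,0,0,0,0,0,2,2])))))) (.split (.fuse [3,6,6,7,7,10,10,11,13,13,15,15] 1 [14,14] (.fuse [4,5,6,7,8,8,9,9,10,11,12,12,13,13,14,15,15] 2 [13,14,14,15] (.fuse [3,6,6,7,7,10,13,13] 1 [14] (.fuse [5,6,6,8,8,9,9,13,13] 2 [] (.fuse [5,6,8,11,11,13,13,14,14] 1 [] (.prune [0,0,0,0,0,0,0,0,0,0,0,0,0,0,0,1])))))) (.fuse [0] 2 [15] (.fuse [5,9,9,12,15,15] 1 [13,13,14,14,15,15] (.fuse [3,6,6,7,7,8,8,10,11,13,13,14,14,15,15] 1 [14,14,15] (.fuse [4,5,6,7,8,8,9,9,10,11,12,12,13,13,14,15,15] 2 [15] (.prune [0,0,0,0,0,0,0,0,0,0,0,0,0,0,1,1])))))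 (.fuse [0] 1 [15,15] (.fuse [4,5,6,7,8,8,9,9,10,11,12,12,13,13,14,15,15] 1 [13,13,14,14,15] (.fuse [3,6,6,7,7,8,10,11,11,13,13,14,14,15,15] 1 [] (.fuse [0,3,3,6,7,10,11,11,13,15] 1 [15] (.prune [0,0,0,0,0,0,0,0,0,0,0,0,0,0,2,1])))))) (.split (.fuse [3,6,6,7,7,10,10,11,13,13,15,15] 2 [14] (.fuse [4,5,6,7,8,8,9,9,10,11,12,12,13,13,14,15,15] 1 [13,13,14,14,15] (.fuse [3,6,6,7,7,11,11,13,13,15,15] 2 [14,14] (.fuse [5,9,11,12,13,13,15,15] 1 [15,15] (.fuse [5,6,8,8,9,13,13,15] 1 [] (.leaf 453)))))) (.fuse [0] 2 [15] (.fuse [4,5,6,7,8,8,9,9,10,11,12,12,13,13,14,15,15] 2 [13,14,14,15] (.fuse [3,6,6,7,7,11,13,13,14,15,15] 2 [14,14,15,15] (.fuse [0,3,3,6,7,10,11,11,13,15] 2 [15,15] (.prune [0,0,0,0,0,0,0,0,0,0,0,0,0,0,1,0]))))) (.fuse [0] 1 [15,15] (.fuse [5,9,9,12,15,15] 1 [13,14]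 (.fuse [3,6,6,7,7,13,13,14] 2 [14,14,15] (.fuse [3,5,6,6,7,7,8,9,11,11,12,12,15,15] 1 [15] (.prune [0,0,0,0,0,0,0,0,0,0,0,0,0,0,2,0])))))))) (.fuse [0] 2 [11,11,14,15,15] (.split (.split (.fuse [0,4,4,5,5,8,9,11,11,12,12,13,14,14,15] 1 [12,12,13,14,14,15] (.fuse [0,4,4,5,5,8,9,10,10,11,12,12,13,14,14,15,15] 2 [13,13,14] (.fuse [0,4,4,8,10,10,11,13,14,15] 2 [14,14,15] (.fuse [12,13,13,14,15,15] 1 [15,15] (.prune [0,0,0,0,0,0,0,0,0,0,0,0,0,0,1,0]))))) (.fuse [10,11,15,15] 1 [13,13,14,15] (.fuse [0,4,4,5,5,8,9,11,11,12,12,13,14,14,15] 1 [13,13,14,14,15,15] (.fuse [5,6,8,9,9,13,13,15,15] 2 [15] (.fuse [0,4,5,6,6,7,7,8,9,9,10,10,11,11,12,13,15,15] 2 [15] (.prune [0,0,0,0,0,0,0,0,0,0,0,0,0,0,2,1]))))) (.fuse [0,4,4,5,5,8,9,11,11,12,12,13,14,14,15] 2 [14,14] (.fuse [4,5,6,7,8,8,9,9,10,11,13,14,14,15]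 2 [13,15] (.fuse [0,4,4,5,5,8,9,10,11,11,12,13,13,14,14,15] 2 [14,14,15] (.fuse [0,4,6,6,7,7,8,11,11,13,13] 2 [15,15] (.fuse [0,4,5,6,7,7,8,8,11,11,13,15,15] 1 [] (.prune [0,0,0,0,0,0,0,0,0,0,0,0,0,0,0,2]))))))) (.split (.fuse [0,4,4,5,5,8,9,11,11,12,12,13,14,14,15] 1 [12,12,13,14,15] (.fuse [0,3,3,4,4,5,5,6,7,9,10,11,11,12,12,13,13,15] 2 [13,14,14,15] (.fuse [3,6,6,7,7,10,12,12,14,14,15,15] 1 [15] (.fuse [0,3,3,4,5,8,9,9,11,12,13,13,14,15,15] 2 [] (.prune [0,0,0,0,0,0,0,0,0,0,0,0,0,0,2,2]))))) (.fuse [3,6,6,7,7,10,10,11,13,13,15,15] 1 [14,14] (.fuse [0,4,4,5,5,8,9,11,11,12,12,13,14,14,15] 1 [13,13,14,15,15] (.fuse [3,6,6,7,7,10,13,13] 1 [14,15,15] (.fuse [0,4,4,5,8,9,9,11,11,12,13,15,15] 2 [] (.fuse [0,3,3,4,4,6,6,7,10,10,11,12,12,13,15] 1 [] (.leaf 454)))))) (.fuse [0,4,4,5,5,8,9,11,11,12,12,13,14,14,15]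 2 [14] (.fuse [4,5,6,7,8,8,9,9,10,11,13,14,14,15] 1 [13,13,15] (.fuse [3,6,6,7,7,10,12,13,14,15,15] 1 [14,14] (.fuse [12,13,13,14] 1 [15,15] (.prune [0,0,0,0,0,0,0,0,0,0,0,0,0,0,1,1])))))) (.split (.fuse [0,4,4,5,5,8,9,11,11,12,12,13,14,14,15] 1 [12,12,13,15] (.fuse [0,3,4,4,5,5,6,6,7,7,8,8,9,10,10,11,12,12,14,14,15] 2 [13,14,15,15] (.fuse [3,6,6,7,7,12,13] 2 [15,15] (.fuse [0,3,12,12,13] 1 [15] (.fuse [3,4,4,6,6,7,8,8,10,10,11,11,12,12,13,13] 2 [] (.prune [0,0,0,0,0,0,0,0,0,0,0,0,0,0,0,1])))))) (.fuse [3,6,6,7,7,10,10,11,13,13,15,15] 2 [14] (.fuse [0,4,4,5,5,8,9,11,11,12,12,13,14,14,15] 1 [13,13,15,15] (.fuse [3,6,6,7,7,11,11,13,13,15,15] 2 [14,14,15] (.fuse [4,5,5,6,7,8,8,9,10,11,13,13] 2 [] (.prune [0,0,0,0,0,0,0,0,0,0,0,0,0,0,1,2]))))) (.fuse [0,4,4,5,5,8,9,11,11,12,12,13,14,14,15]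 2 [] (.fuse [5,9,9,12,15,15] 1 [13,14] (.fuse [3,6,6,7,7,11,12,12] 2 [14] (.fuse [0,3,3,4,4,5,5,6,7,9,10,11,11,12,12,13,13,15] 2 [15] (.prune [0,0,0,0,0,0,0,0,0,0,0,0,0,0,2,0])))))))) (.fuse [0] 1 [11,14,14] (.split (.split (.fuse [0,4,5,8,8,9,9,11,12,13,13,15,15] 2 [12,13,13,14,14,15] (.fuse [0,4,5,8,8,9,9,10,11,12,12,13,14,15,15] 1 [13,14] (.fuse [0,4,8,8,10,11,12,13,13,14,15,15] 1 [14,15,15] (.fuse [0,4,6,6,9,9,10,12] 1 [] (.prune [0,0,0,0,0,0,0,0,0,0,0,0,0,0,2,0]))))) (.fuse [0,4,5,8,8,9,9,11,12,13,13,15,15] 1 [12,12,13,14,15,15] (.fuse [0,4,5,8,8,9,9,10,10,12,13,13,14,14] 2 [13,13] (.fuse [0,4,4,5,5,6,7,8,9,11,12] 1 [14,15] (.fuse [4,6,7,8,8,10,11,12,14] 1 [15,15] (.fuse [3,6,6,7,7,10,10,11,13,13,15,15] 1 [] (.prune [0,0,0,0,0,0,0,0,0,0,0,0,0,0,0,2])))))) (.fuse [10,11,15,15]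 1 [13,13,14,15,15] (.fuse [4,5,6,7,8,9,9,10,11,11,13,14,14,15] 2 [13] (.fuse [4,5,5,6,7,8,9,10,11,11,12,12,15] 2 [15] (.fuse [4,6,6,7,8,10,12,15] 2 [15,15] (.prune [0,0,0,0,0,0,0,0,0,0,0,0,0,0,1,1])))))) (.split (.fuse [0,4,5,8,8,9,9,11,12,13,13,15,15] 2 [12,13,13,15] (.fuse [0,3,4,5,6,6,7,7,8,8,9,9,10,10,11,12,13,14,14,15,15] 1 [13,13,14] (.fuse [3,6,6,7,7,8,10,11,11,12,12,14,14,15,15] 1 [14,14,15] (.fuse [0,3,4,4,5,5,9,12,13,13,15] 1 [15] (.prune [0,0,0,0,0,0,0,0,0,0,0,0,0,0,1,2]))))) (.fuse [0,4,5,8,8,9,9,11,12,13,13,15,15] 1 [12,12,13,14,14,15,15] (.fuse [0,3,3,4,5,6,7,9,9,10,11,11,12,14,15] 2 [13,15,15] (.fuse [3,6,6,7,7,8,8,10,11,12,13,14,15,15] 1 [] (.fuse [3,5,6,7,7,9,9,10,11,11,12,14] 2 [15] (.prune [0,0,0,0,0,0,0,0,0,0,0,0,0,0,2,1]))))) (.fuse [3,6,6,7,7,10,10,11,13,13,15,15]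 1 [14,14] (.fuse [4,5,6,7,8,9,9,10,11,11,13,14,14,15] 1 [13,13,14] (.fuse [3,6,6,7,7,10,13,13] 1 [14,15] (.fuse [0,4,5,8,8,9,9,11,12,13,13,15,15] 1 [] (.fuse [0,3,3,4,4,5,6,6,7,7,9,9,13,14,15,15] 2 [] (.leaf 455))))))) (.split (.fuse [0,4,5,8,8,9,9,11,12,13,13,15,15] 2 [12,13,13,14,15] (.fuse [0,3,3,4,5,6,7,9,9,10,11,11,12,14,15] 1 [13,13,15] (.fuse [3,6,6,7,7,11,12,13,14,14,15] 2 [15] (.fuse [0,3,3,8,8,12,13,13,14,14,15,15] 1 [15,15] (.fuse [0,3,3,6,8,8,11,14,14] 1 [] (.prune [0,0,0,0,0,0,0,0,0,0,0,0,0,0,0,1])))))) (.fuse [0,4,5,8,8,9,9,11,12,13,13,15,15] 1 [12,12,13,15,15] (.fuse [0,3,4,5,6,6,7,7,8,8,9,9,10,10,11,12,13,14,14,15,15] 2 [13,14,14] (.fuse [3,6,6,7,7,12,12,14] 2 [14] (.fuse [4,5,5,6,7,8,8,9,10,11,13,13,14,14,15,15] 2 [15] (.prune [0,0,0,0,0,0,0,0,0,0,0,0,0,0,1,0])))))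 (.fuse [3,6,6,7,7,10,10,11,13,13,15,15] 2 [14] (.fuse [5,9,9,12,15,15] 1 [13,14] (.fuse [3,6,6,7,7,11,11,13,13,15,15] 2 [14,14,15,15] (.fuse [0,4,5,8,8,9,9,11,12,13,13,15,15] 2 [] (.prune [0,0,0,0,0,0,0,0,0,0,0,0,0,0,2,2])))))))))

theorem cert24_ok : certOK leafVecs cert24 [1,0,0,0,0,2,1] = true := by decide +kernel

def cert25 : Cert := (.split (.fuse [4,5,8,8,9,9,11,12,13,13,15,15] 1 [11,11,12,12,13,14,14] (.split (.split (.fuse [10,11,15,15] 1 [13,13,14] (.fuse [5,9,9,12,15,15] 2 [] (.split (.fuse [4,5,6,6,7,7,8,9,9,10,10,11,11,12,12,15,15] 2 [15,15] (.fuse [4,7,7,8,8,10,10,11,11,14] 2 [] (.prune [0,0,0,0,0,0,0,0,0,0,0,0,0,0,0,2]))) (.fuse [0] 1 [] (.fuse [0,4,5,6,6,7,7,8,8,9,9,10,10,11,12,12,14,15] 2 [] (.prune [0,0,0,0,0,0,0,0,0,0,0,0,0,0,0,2]))) (.fuse [0] 2 [] (.fuse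 [0,4,4,5,5,6,7,9,10,13,14,15] 1 [] (.prune [0,0,0,0,0,0,0,0,0,0,0,0,0,0,0,2])))))) (.fuse [0] 2 [15] (.fuse [4,5,6,6,7,7,8,9,9,10,10,11,11,12,12,15,15] 1 [13,13,14,14,15] (.fuse [0,10,14] 2 [14,15] (.fuse [0,4,5,5,6,6,7,7,8,8,9,11,12,12,13,14,14] 1 [15] (.prune [0,0,0,0,0,0,0,0,0,0,0,0,0,0,1,2]))))) (.fuse [0] 1 [15,15] (.fuse [4,5,6,6,7,7,8,9,9,10,10,11,11,12,12,15,15] 2 [13,14,14] (.fuse [0,10,10,11,11,14,14,15] 1 [14,14,15,15] (.fuse [0,5,5,6,8,8,9,10,10,11,12,12,13,14] 2 [15,15] (.prune [0,0,0,0,0,0,0,0,0,0,0,0,0,0,2,2])))))) (.split (.fuse [3,6,6,7,7,10,10,11,13,13,15,15] 1 [14,14] (.fuse [4,5,6,6,7,7,8,9,9,10,10,11,11,12,12,15,15] 1 [13,13,14,14,15] (.fuse [3,6,6,7,7,10,13,13] 1 [14] (.fuse [3,4,5,5,6,7,8,9,11,11,13,13] 1 [] (.fuse [3,4,5,7,8,8,9,9,14,14,15,15] 1 []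 (.prune [0,0,0,0,0,0,0,0,0,0,0,0,0,0,0,1])))))) (.fuse [0] 2 [15] (.fuse [4,5,6,6,7,7,8,9,9,10,10,11,11,12,12,15,15] 2 [13,14,14] (.fuse [3,6,6,7,7,8,8,10,11,13,13,14,14,15,15] 1 [14,14,15] (.fuse [3,4,6,7,8,11,11,12,12,13,14] 2 [15] (.prune [0,0,0,0,0,0,0,0,0,0,0,0,0,0,1,1]))))) (.fuse [0] 1 [15,15] (.fuse [5,9,9,12,15,15] 2 [13,14,15,15] (.fuse [3,6,6,7,7,8,10,11,11,13,13,14,14,15,15] 1 [] (.fuse [0,3,3,6,7,10,11,11,13,15] 1 [15] (.prune [0,0,0,0,0,0,0,0,0,0,0,0,0,0,2,1])))))) (.split (.fuse [3,6,6,7,7,10,10,11,13,13,15,15] 2 [14] (.fuse [4,5,6,6,7,7,8,9,9,10,10,11,11,12,12,15,15] 2 [13,14,14] (.fuse [3,6,6,7,7,11,11,13,13,15,15] 2 [14,14] (.fuse [3,4,6,7,8,8,10,10,12,12,13,14,14,15,15] 1 [15,15] (.fuse [3,4,5,5,6,7,8,8,9,9,10,10,11,11,12,12,13,13,15,15] 1 [] (.leaf 456))))))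 (.fuse [0] 2 [15] (.fuse [5,9,9,12,15,15] 2 [13,13,14,14,15] (.fuse [3,6,6,7,7,11,13,13,14,15,15] 2 [14,14,15,15] (.fuse [0,3,3,6,7,10,11,11,13,15] 2 [15,15] (.prune [0,0,0,0,0,0,0,0,0,0,0,0,0,0,1,0]))))) (.fuse [0] 1 [15,15] (.fuse [4,5,6,6,7,7,8,9,9,10,10,11,11,12,12,15,15] 1 [13,13,14,14,15] (.fuse [3,6,6,7,7,13,13,14] 2 [14,14,15] (.fuse [3,5,6,6,7,7,8,9,11,11,12,12] 1 [] (.prune [0,0,0,0,0,0,0,0,0,0,0,0,0,0,2,0])))))))) (.fuse [0] 2 [11,11,14,15,15] (.split (.split (.fuse [0,4,5,8,8,9,9,11,12,13,13,15,15] 1 [12,12,13,15,15] (.fuse [0,4,5,8,8,9,9,10,10,12,13,13,14,14] 2 [13,13,14,14,15] (.fuse [0,4,8,8,10,10,13,14,15,15] 2 [14,14,15] (.fuse [0,4,6,8,8,9,9,10,10,11,11,12,12,13] 1 [15] (.prune [0,0,0,0,0,0,0,0,0,0,0,0,0,0,1,0]))))) (.fuse [10,11,15,15] 1 [13,13,14,15] (.fuse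 [4,5,6,6,7,7,9,9,10,10,13,13,14,15] 1 [13,13] (.fuse [4,5,5,6,6,7,7,9,10,10,14,14] 1 [15,15] (.fuse [0,4,5,8,8,9,9,11,12,13,13,15,15] 2 [] (.prune [0,0,0,0,0,0,0,0,0,0,0,0,0,0,2,1]))))) (.fuse [0,4,5,8,8,9,9,11,12,13,13,15,15] 2 [12,13,13,14,15] (.fuse [0,4,5,8,8,9,9,10,11,12,12,13,14,15,15] 1 [13,15,15] (.fuse [0,4,4,5,5,6,6,7,7,8,9,11,11,12,12,14,14,15,15] 2 [14,14] (.fuse [4,6,6,7,7,8,8,10,10,11,14,14] 2 [15,15] (.fuse [3,6,6,7,7,10,10,11,13,13,15,15] 2 [] (.prune [0,0,0,0,0,0,0,0,0,0,0,0,0,0,0,2]))))))) (.split (.fuse [0,4,5,8,8,9,9,11,12,13,13,15,15] 1 [12,12,13,14,15,15] (.fuse [0,3,3,4,5,6,7,9,9,10,11,11,12,14,15] 2 [13,14,14,15,15] (.fuse [3,6,6,7,7,8,8,10,11,12,13,14,15,15] 1 [15] (.fuse [0,3,3,4,4,5,5,9,11,11,12,13,13,15] 1 [15,15] (.prune [0,0,0,0,0,0,0,0,0,0,0,0,0,0,2,2])))))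 (.fuse [3,6,6,7,7,10,10,11,13,13,15,15] 1 [14,14] (.fuse [4,5,6,6,7,7,9,9,10,10,13,13,14,15] 2 [13,14,15,15] (.fuse [3,6,6,7,7,10,13,13] 1 [14,15,15] (.fuse [4,5,5,6,7,7,8,9,10,10,11,12,13,14,15,15] 2 [15] (.fuse [3,4,6,7,8,11,11,14,14] 1 [] (.leaf 457)))))) (.fuse [0,4,5,8,8,9,9,11,12,13,13,15,15] 2 [12,13,13,14,14,15] (.fuse [0,3,4,5,6,6,7,7,8,8,9,9,10,10,11,12,13,14,14,15,15] 1 [13,13] (.fuse [3,6,6,7,7,8,10,11,11,12,12,14,14,15,15] 1 [14,14,15,15] (.fuse [3,5,5,6,7,7,9,10,11,11,12,13,14,14] 1 [] (.prune [0,0,0,0,0,0,0,0,0,0,0,0,0,0,1,1])))))) (.split (.fuse [0,4,5,8,8,9,9,11,12,13,13,15,15] 1 [12,12,13,14,14,15,15] (.fuse [0,3,4,5,6,6,7,7,8,8,9,9,10,10,11,12,13,14,14,15,15] 2 [13,14] (.fuse [3,6,6,7,7,12,12,14] 2 [14,15,15] (.fuse [0,3,8,8,11,12,13,13,14,14] 2 [] (.fuse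 [0,4,4,6,6,7,7,10,12,12,13,13,14,15,15] 1 [] (.prune [0,0,0,0,0,0,0,0,0,0,0,0,0,0,0,1])))))) (.fuse [3,6,6,7,7,10,10,11,13,13,15,15] 2 [14] (.fuse [5,9,9,12,15,15] 2 [13,13,14,14,15] (.fuse [3,6,6,7,7,11,11,13,13,15,15] 2 [14,14,15] (.fuse [0,4,5,8,8,9,9,11,12,13,13,15,15] 1 [] (.prune [0,0,0,0,0,0,0,0,0,0,0,0,0,0,1,2]))))) (.fuse [0,4,5,8,8,9,9,11,12,13,13,15,15] 2 [12,13,13,15] (.fuse [0,3,3,4,5,6,7,9,9,10,11,11,12,14,15] 1 [13,13,14,14,15] (.fuse [3,6,6,7,7,11,12,13,14,14,15] 2 [] (.fuse [4,5,5,6,6,7,7,8,8,9,10,10,11,12,12,13,15,15] 2 [15,15] (.prune [0,0,0,0,0,0,0,0,0,0,0,0,0,0,2,0])))))))) (.fuse [0] 1 [11,14,14] (.split (.split (.fuse [0,4,4,5,5,8,9,11,11,12,12,13,14,14,15] 2 [12,13,13,14,14] (.fuse [0,4,4,5,5,8,9,10,11,11,12,13,13,14,14,15] 1 [13,14,14,15,15] (.fuse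 [0,4,4,8,10,11,11,12,12,13,13,14] 1 [14,15,15] (.fuse [5,6,6,8,8,9,9,12,13,13,15,15] 1 [] (.prune [0,0,0,0,0,0,0,0,0,0,0,0,0,0,2,0]))))) (.fuse [0,4,4,5,5,8,9,11,11,12,12,13,14,14,15] 1 [14,14,15] (.fuse [4,5,6,6,7,7,8,9,9,10,10,11,11,13,13,14,14] 1 [13,13] (.fuse [0,4,4,5,5,8,9,10,10,11,12,12,13,14,14,15,15] 1 [14,15,15] (.fuse [0,4,6,7,8,11,12,13,15] 1 [] (.fuse [3,6,6,7,7,10,10,11,13,13,15,15] 1 [] (.prune [0,0,0,0,0,0,0,0,0,0,0,0,0,0,0,2])))))) (.fuse [10,11,15,15] 1 [13,13,14,15,15] (.fuse [0,4,4,5,5,8,9,11,11,12,12,13,14,14,15] 2 [13,14,14,15,15] (.fuse [5,6,6,8,9,9,11,12,12,14,14,15] 1 [14,15,15] (.fuse [0,4,5,6,7,8,9,9,10,11,11,13,15,15] 2 [] (.prune [0,0,0,0,0,0,0,0,0,0,0,0,0,0,1,1])))))) (.split (.fuse [0,4,4,5,5,8,9,11,11,12,12,13,14,14,15] 2 [12,13,13,14] (.fuse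 [0,3,4,4,5,5,6,6,7,7,8,8,9,10,10,11,12,12,14,14,15] 1 [13,13,15,15] (.fuse [3,6,6,7,7,10,12,13,14,15,15] 1 [14,14,15] (.fuse [3,4,5,5,6,7,8,8,9,11,12,13] 1 [15,15] (.prune [0,0,0,0,0,0,0,0,0,0,0,0,0,0,1,2]))))) (.fuse [0,4,4,5,5,8,9,11,11,12,12,13,14,14,15] 1 [14,15] (.fuse [4,5,6,6,7,7,8,9,9,10,10,11,11,13,13,14,14] 2 [13,15,15] (.fuse [3,6,6,7,7,10,12,12,14,14,15,15] 1 [15] (.fuse [0,3,3,4,4,5,5,6,7,9,10,11,11,12,12,13,13,15] 2 [] (.prune [0,0,0,0,0,0,0,0,0,0,0,0,0,0,2,1]))))) (.fuse [3,6,6,7,7,10,10,11,13,13,15,15] 1 [14,14] (.fuse [0,4,4,5,5,8,9,11,11,12,12,13,14,14,15] 2 [13,14,15,15] (.fuse [3,6,6,7,7,10,13,13] 1 [14,15] (.fuse [8,11,11,12,13,15] 1 [] (.fuse [3,5,5,6,7,7,8,8,9,10,12,12] 1 [] (.leaf 458))))))) (.split (.fuse [0,4,4,5,5,8,9,11,11,12,12,13,14,14,15] 2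 [12,13,13] (.fuse [0,3,3,4,4,5,5,6,7,9,10,11,11,12,12,13,13,15] 1 [13,13,14,14] (.fuse [3,6,6,7,7,11,12,12] 2 [14,15] (.fuse [0,3,3,8,8,12,12,13,14,14,15,15] 2 [] (.fuse [3,5,5,6,6,7,7,8,9,9,11,14,14] 1 [] (.prune [0,0,0,0,0,0,0,0,0,0,0,0,0,0,0,1])))))) (.fuse [0,4,4,5,5,8,9,11,11,12,12,13,14,14,15] 1 [15] (.fuse [5,9,9,12,15,15] 2 [13,13,14,14,15] (.fuse [3,6,6,7,7,12,13] 2 [] (.fuse [0,3,4,4,5,5,6,6,7,7,8,8,9,10,10,11,12,12,14,14,15] 1 [15,15] (.prune [0,0,0,0,0,0,0,0,0,0,0,0,0,0,1,0]))))) (.fuse [3,6,6,7,7,10,10,11,13,13,15,15] 2 [14] (.fuse [0,4,4,5,5,8,9,11,11,12,12,13,14,14,15] 2 [13,15,15] (.fuse [3,6,6,7,7,11,11,13,13,15,15] 2 [14,14,15,15] (.fuse [4,5,5,6,6,7,7,8,9,10,10,11,11,12,12,13,14,15] 1 [15,15] (.prune [0,0,0,0,0,0,0,0,0,0,0,0,0,0,2,2])))))))))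

theorem cert25_ok : certOK leafVecs cert25 [1,0,0,0,0,2,2] = true := by decide +kernel

def cert26 : Cert := (.fuse [0] 2 [4,5,5,6,6,9,12,14,15] (.fuse [0,1,1] 2 [5,7,9,9,10,11,13,13,14] (.fuse [4,6,6,7,7,10,10,11,11,12,13,14] 2 [6,6,8,9,11,11,14,15,15] (.prune [0,0,0,0,0,2,1,2,0,1,2,2,1,1,1,2]))))

theorem cert26_ok : certOK leafVecs cert26 [1,0,1] = true := by decide +kernel

def cert27 : Cert := (.fuse [0] 1 [4,4,5,5,8,8,9,11,12,13,13,14,14,15,15] (.fuse [1] 1 [5,6,6,9,9,11,11,12,12,13,14,14,15,15] (.fuse [4,7,7,10,10,11,11,13,14,14] 1 [6,7,7,8,8,9,9,10,10,11,11,13,13,14,15,15] (.prune [0,0,0,0,0,2,1,1,0,1,1,1,2,2,2,0]))))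

theorem cert27_ok : certOK leafVecs cert27 [1,0,2] = true := by decide +kernel


end H49.Order3.Fi24
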