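/-
Generated data: part of the certificate tree, with its check.
-/
import Cfsg.Agent.H49.Order3.Fi24.CertDef
import Cfsg.Agent.H49.Order3.Fi24.Data.Leaves

set_option autoImplicit false
set_option maxRecDepth 100000
set_option linter.all false
set_option Elab.async false

namespace H49.Order3.Fi24

def cert28 : Cert := (.fuse [0] 2 [6,7,10,11,11,13,15] (.split (.split (.fuse [2] 1 [8,8,11,12,14,15,15] (.fuse [5,6,7,9,9,10,11,11,14,14,15,15] 2 [8,10,10,13,14,15,15] (.split (.split (.fuse [9,11,11,13,14,15] 2 [11,11,15] (.split (.fuse [2,4,6,6,7,7,10,10,12,15,15] 1 [13] (.split (.split (.fuse [6,7,7,8,10,10,12,12,13,14,14,15,15] 1 [] (.leaf 459)) (.fuse [0,1,3,3,6,7,10,11,11,13,15] 2 [] (.leaf 460)) (.fuse [0,1,3,3,6,7,10,11,11,13,15] 1 [] (.leaf 461))) (.split (.fuse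 [0,1,3,3,6,7,10,11,11,13,15] 1 [] (.leaf 462)) (.fuse [3,6,6,7,7,8,8,10,10,11,13,13] 2 [] (.leaf 463)) (.fuse [0,1,3,3,6,7,10,11,11,13,15] 2 [] (.leaf 464))) (.split (.fuse [0,1,3,3,6,7,10,11,11,13,15] 2 [] (.leaf 465)) (.fuse [0,1,3,3,6,7,10,11,11,13,15] 1 [] (.leaf 466)) (.fuse [3,6,6,7,7,8,8,10,10,11,13,13] 1 [] (.leaf 467))))) (.fuse [2,4,6,6,7,7,10,10,12,15,15] 2 [13,13,15,15] (.split (.split (.fuse [0,1,3,3,6,7,10,11,11,13,15] 1 [] (.leaf 468)) (.fuse [3,6,6,7,7,8,8,10,10,11,13,13] 2 [] (.leaf 469)) (.fuse [0,1,3,3,6,7,10,11,11,13,15] 2 [] (.leaf 470))) (.split (.fuse [0,1,3,3,6,7,10,11,11,13,15] 2 [] (.leaf 471)) (.fuse [0,1,3,3,6,7,10,11,11,13,15] 1 [] (.leaf 472)) (.fuse [3,6,6,7,7,8,8,10,10,11,13,13] 1 [] (.leaf 473))) (.split (.fuse [6,7,7,8,10,10,12,12,13,14,14,15,15]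 2 [] (.leaf 474)) (.fuse [0,1,3,3,6,7,10,11,11,13,15] 2 [] (.leaf 475)) (.fuse [0,1,3,3,6,7,10,11,11,13,15] 1 [] (.leaf 476))))) (.split (.split (.split (.fuse [0,1,3,3,6,7,10,11,11,13,15] 2 [] (.leaf 477)) (.fuse [0,1,3,3,6,7,10,11,11,13,15] 1 [] (.leaf 478)) (.fuse [2,4,6,6,7,7,10,10,12,15,15] 2 [] (.leaf 479))) (.split (.fuse [2,4,6,6,7,7,10,10,12,15,15] 2 [] (.leaf 480)) (.fuse [0,1,3,3,6,7,10,11,11,13,15] 2 [] (.leaf 481)) (.fuse [0,1,3,3,6,7,10,11,11,13,15] 1 [] (.leaf 482))) (.split (.fuse [0,1,3,3,6,7,10,11,11,13,15] 1 [] (.leaf 483)) (.fuse [2,4,6,6,7,7,10,10,12,15,15] 2 [] (.leaf 484)) (.fuse [0,1,3,3,6,7,10,11,11,13,15] 2 [] (.leaf 485)))) (.fuse [2,4,6,6,7,7,10,10,12,15,15] 2 [15] (.split (.fuse [0,1,3,3,6,7,10,11,11,13,15] 2 [] (.leaf 486)) (.fuse [0,1,3,3,6,7,10,11,11,13,15]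 1 [] (.leaf 487)) (.fuse [3,6,6,7,7,8,8,10,10,11,13,13] 1 [] (.leaf 488)))) (.fuse [2,4,6,6,7,7,10,10,12,15,15] 1 [15] (.split (.fuse [0,1,3,3,6,7,10,11,11,13,15] 2 [] (.leaf 489)) (.fuse [0,1,3,3,6,7,10,11,11,13,15] 1 [] (.leaf 490)) (.fuse [3,6,6,7,7,8,8,10,10,11,13,13] 1 [] (.leaf 491))))))) (.fuse [0,1,3,3,6,7,10,11,11,13,15] 1 [14,15] (.fuse [2,4,6,6,7,7,9,11,11,12,13,14,14] 2 [12,15] (.fuse [0,1,2,2,3,3,4,4,5,6,6,9,9,11,14,14,15] 2 [13,13,14,15] (.fuse [0,1,2,3,4,6,6,7,7,8,9,9,10,10,11,11,13,14] 1 [14,15,15] (.fuse [0,1,2,3,4,6,6,7,8,8,9,9,10,11,11,13,13,14,14] 1 [] (.fuse [0,1,2,3,4,6,6,7,9,9,10,11,12,14] 1 [] (.leaf 492))))))) (.fuse [0,1,3,3,6,7,10,11,11,13,15] 2 [14,14,15,15] (.fuse [2,4,8,8,9,9,11,13,13,14,15,15] 1 [12,12,13] (.fuse [0,1,2,2,3,3,4,4,5,6,6,9,9,11,14,14,15]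 2 [14,14] (.fuse [0,1,7,7,9,9,10,10,11,12,12,13,14] 1 [14,14] (.fuse [0,1,2,3,4,9,10,10,11,12,13] 2 [] (.fuse [2,3,4,8,9,9,11,12,13,14,15,15] 2 [] (.leaf 493)))))))) (.split (.fuse [9,11,11,13,14,15] 2 [11,11,14] (.split (.split (.split (.split (.fuse [2,4,6,6,7,7,10,10,12,15,15] 1 [] (.leaf 494)) (.fuse [0,1,3,3,6,7,10,11,11,13,15] 2 [] (.leaf 495)) (.fuse [0,1,3,3,6,7,10,11,11,13,15] 1 [] (.leaf 496))) (.split (.fuse [0,1,3,3,6,7,10,11,11,13,15] 1 [] (.leaf 497)) (.fuse [2,4,6,6,7,7,10,10,12,15,15] 1 [] (.leaf 498)) (.fuse [0,1,3,3,6,7,10,11,11,13,15] 2 [] (.leaf 499))) (.split (.fuse [0,1,3,3,6,7,10,11,11,13,15] 2 [] (.leaf 500)) (.fuse [0,1,3,3,6,7,10,11,11,13,15] 1 [] (.leaf 501)) (.fuse [2,4,6,6,7,7,10,10,12,15,15] 1 [] (.leaf 502)))) (.fuse [2,4,6,6,7,7,10,10,12,15,15]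 2 [15] (.split (.fuse [6,7,7,8,10,10,12,12,13,14,14,15,15] 1 [] (.leaf 503)) (.fuse [0,1,3,3,6,7,10,11,11,13,15] 2 [] (.leaf 504)) (.fuse [0,1,3,3,6,7,10,11,11,13,15] 1 [] (.leaf 505)))) (.fuse [2,4,6,6,7,7,10,10,12,15,15] 1 [15] (.split (.fuse [6,7,7,8,10,10,12,12,13,14,14,15,15] 2 [] (.leaf 506)) (.fuse [0,1,3,3,6,7,10,11,11,13,15] 2 [] (.leaf 507)) (.fuse [0,1,3,3,6,7,10,11,11,13,15] 1 [] (.leaf 508))))) (.fuse [2,4,6,6,7,7,10,10,12,15,15] 1 [13] (.split (.split (.fuse [0,1,3,3,6,7,10,11,11,13,15] 1 [] (.leaf 509)) (.fuse [3,6,6,7,7,8,8,10,10,11,13,13] 2 [] (.leaf 510)) (.fuse [0,1,3,3,6,7,10,11,11,13,15] 2 [] (.leaf 511))) (.split (.fuse [0,1,3,3,6,7,10,11,11,13,15] 2 [] (.leaf 512)) (.fuse [0,1,3,3,6,7,10,11,11,13,15] 1 [] (.leaf 513)) (.fuse [3,6,6,7,7,8,8,10,10,11,13,13]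 1 [] (.leaf 514))) (.split (.fuse [6,7,7,8,10,10,12,12,13,14,14,15,15] 1 [] (.leaf 515)) (.fuse [0,1,3,3,6,7,10,11,11,13,15] 2 [] (.leaf 516)) (.fuse [0,1,3,3,6,7,10,11,11,13,15] 1 [] (.leaf 517))))) (.fuse [2,4,6,6,7,7,10,10,12,15,15] 2 [13,13,15,15] (.split (.split (.fuse [0,1,3,3,6,7,10,11,11,13,15] 2 [] (.leaf 518)) (.fuse [0,1,3,3,6,7,10,11,11,13,15] 1 [] (.leaf 519)) (.fuse [3,6,6,7,7,8,8,10,10,11,13,13] 1 [] (.leaf 520))) (.split (.fuse [6,7,7,8,10,10,12,12,13,14,14,15,15] 2 [] (.leaf 521)) (.fuse [0,1,3,3,6,7,10,11,11,13,15] 2 [] (.leaf 522)) (.fuse [0,1,3,3,6,7,10,11,11,13,15] 1 [] (.leaf 523))) (.split (.fuse [0,1,3,3,6,7,10,11,11,13,15] 1 [] (.leaf 524)) (.fuse [3,6,6,7,7,8,8,10,10,11,13,13] 2 [] (.leaf 525)) (.fuse [0,1,3,3,6,7,10,11,11,13,15] 2 [] (.leaf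 526))))))) (.fuse [0,1,3,3,6,7,10,11,11,13,15] 1 [14,15] (.fuse [2,4,6,6,7,7,9,11,11,12,13,14,14] 2 [13,13,14] (.fuse [2,3,4,7,7,8,8,9,11,11,13,13,14,14] 1 [14,15,15] (.fuse [0,1,2,2,3,3,4,4,5,6,6,9,9,11,14,14,15] 1 [14,15] (.fuse [0,1,8,8,9,10,11,11,12,14,14,15] 2 [15,15] (.fuse [0,1,2,3,4,6,7,7,8,9,9,10,10,11,11,12,13,13,14,14] 2 [] (.prune [0,0,0,0,0,0,0,0,0,0,0,0,0,0,0,2]))))))) (.fuse [0,1,3,3,6,7,10,11,11,13,15] 2 [14,14,15,15] (.fuse [2,4,8,8,9,9,11,13,13,14,15,15] 1 [12,14,14,15,15] (.fuse [6,7,7,8,10,10,12,12,15,15] 1 [13,15,15] (.fuse [0,1,2,2,3,3,4,4,5,6,6,9,9,11,14,14,15] 2 [14,14] (.fuse [2,3,4,6,7,7,8,8,9,9,10,10,11,12,12,14,15] 2 [] (.fuse [2,3,4,6,7,7,9,9,10,10,13,15,15] 1 [] (.prune [0,0,0,0,0,0,0,0,0,0,0,0,0,0,0,1])))))))) (.split (.fuse [9,11,11,13,14,15]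 2 [11,11,14,14,15,15] (.split (.fuse [2,4,6,6,7,7,10,10,12,15,15] 2 [13,13,15,15] (.split (.split (.fuse [6,7,7,8,10,10,12,12,13,14,14,15,15] 2 [] (.leaf 527)) (.fuse [0,1,3,3,6,7,10,11,11,13,15] 2 [] (.leaf 528)) (.fuse [0,1,3,3,6,7,10,11,11,13,15] 1 [] (.leaf 529))) (.split (.fuse [0,1,3,3,6,7,10,11,11,13,15] 1 [] (.leaf 530)) (.fuse [3,6,6,7,7,8,8,10,10,11,13,13] 2 [] (.leaf 531)) (.fuse [0,1,3,3,6,7,10,11,11,13,15] 2 [] (.leaf 532))) (.split (.fuse [0,1,3,3,6,7,10,11,11,13,15] 2 [] (.leaf 533)) (.fuse [0,1,3,3,6,7,10,11,11,13,15] 1 [] (.leaf 534)) (.fuse [3,6,6,7,7,8,8,10,10,11,13,13] 1 [] (.leaf 535))))) (.split (.split (.split (.fuse [0,1,3,3,6,7,10,11,11,13,15] 1 [] (.leaf 536)) (.fuse [3,6,6,7,7,8,8,10,10,11,13,13] 2 [] (.leaf 537)) (.fuse [0,1,3,3,6,7,10,11,11,13,15]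 2 [] (.leaf 538))) (.split (.fuse [0,1,3,3,6,7,10,11,11,13,15] 2 [] (.leaf 539)) (.fuse [0,1,3,3,6,7,10,11,11,13,15] 1 [] (.leaf 540)) (.fuse [3,6,6,7,7,8,8,10,10,11,13,13] 1 [] (.leaf 541))) (.split (.fuse [8,11,11,14,14] 2 [] (.leaf 542)) (.fuse [0,1,3,3,6,7,10,11,11,13,15] 2 [] (.leaf 543)) (.fuse [0,1,3,3,6,7,10,11,11,13,15] 1 [] (.leaf 544)))) (.fuse [2,4,6,6,7,7,10,10,12,15,15] 2 [15] (.split (.fuse [0,1,3,3,6,7,10,11,11,13,15] 1 [] (.leaf 545)) (.fuse [3,6,6,7,7,8,8,10,10,11,13,13] 2 [] (.leaf 546)) (.fuse [0,1,3,3,6,7,10,11,11,13,15] 2 [] (.leaf 547)))) (.fuse [2,4,6,6,7,7,10,10,12,15,15] 1 [15] (.split (.fuse [0,1,3,3,6,7,10,11,11,13,15] 1 [] (.leaf 548)) (.fuse [3,6,6,7,7,8,8,10,10,11,13,13] 2 [] (.leaf 549)) (.fuse [0,1,3,3,6,7,10,11,11,13,15] 2 [] (.leaf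 550))))) (.fuse [2,4,6,6,7,7,10,10,12,15,15] 1 [13] (.split (.split (.fuse [0,1,3,3,6,7,10,11,11,13,15] 2 [] (.leaf 551)) (.fuse [0,1,3,3,6,7,10,11,11,13,15] 1 [] (.leaf 552)) (.fuse [3,6,6,7,7,8,8,10,10,11,13,13] 1 [] (.leaf 553))) (.split (.fuse [6,7,7,8,10,10,12,12,13,14,14,15,15] 1 [] (.leaf 554)) (.fuse [0,1,3,3,6,7,10,11,11,13,15] 2 [] (.leaf 555)) (.fuse [0,1,3,3,6,7,10,11,11,13,15] 1 [] (.leaf 556))) (.split (.fuse [0,1,3,3,6,7,10,11,11,13,15] 1 [] (.leaf 557)) (.fuse [3,6,6,7,7,8,8,10,10,11,13,13] 2 [] (.leaf 558)) (.fuse [0,1,3,3,6,7,10,11,11,13,15] 2 [] (.leaf 559))))))) (.fuse [0,1,3,3,6,7,10,11,11,13,15] 1 [14,15] (.fuse [2,4,6,6,7,7,9,11,11,12,13,14,14] 2 [12,12,13,14,14,15,15] (.fuse [0,1,2,2,3,3,4,4,5,6,6,9,9,11,14,14,15] 1 [14,15] (.fuse [2,3,4,7,7,8,8,9,11,11,13,13,14,14]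 2 [14,14,15] (.fuse [0,1,2,2,3,3,4,4,5,9,9,11,12,12,13,13,14] 1 [15,15] (.fuse [0,1,8,8,9,10,11,11,15,15] 1 [] (.prune [0,0,0,0,0,0,0,0,0,0,0,0,0,0,0,1]))))))) (.fuse [0,1,3,3,6,7,10,11,11,13,15] 2 [14,14,15,15] (.fuse [2,4,8,8,9,9,11,13,13,14,15,15] 1 [13,13,14,15] (.fuse [0,1,2,2,3,3,4,4,5,6,6,9,9,11,14,14,15] 1 [13,14,14] (.fuse [0,1,7,7,9,9,10,10,11,12,12,13,14] 1 [] (.fuse [0,1,2,2,3,3,4,4,5,6,7,8,8,9,9,10,11,12,12,13,13,14,15] 2 [15] (.fuse [0,1,8,8,9,9,11,12,13,14,15,15] 1 [] (.prune [0,0,0,0,0,0,0,0,0,0,0,0,0,0,0,2]))))))))))) (.fuse [2] 1 [7,10,10,11,11,12,12,13,13] (.fuse [0,1,3,3,6,7,10,11,11,13,15] 1 [8,10,10,11,13,14,14] (.fuse [2,4,5,7,8,9,9,10,12,12] 2 [10,11,12,12] (.split (.fuse [2,3,4,5,6,7,9,9,10,13,15,15] 1 [11,12,13,13,14,14] (.split (.fuse [0,1,2,2,3,3,4,4,5,6,6,9,9,11,14,14,15]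 2 [13,13,14,15] (.fuse [0,1,5,8,8,10,12,12,14,14,15,15] 1 [14,15] (.fuse [0,1,5,7,8,10,10,12,12,13,13,15] 1 [15] (.fuse [0,1,5,7,10,10,11,12,12,13] 1 [] (.leaf 560))))) (.fuse [0,1,2,2,3,3,4,4,5,6,6,9,9,11,14,14,15] 1 [14,15,15] (.fuse [0,1,5,8,8,10,12,12,14,14,15,15] 1 [14,14,15] (.fuse [2,3,4,5,6,6,8,10,15] 1 [15] (.fuse [0,1,2,3,4,5,5,6,6,7,7,8,10,10,11,12,15,15] 2 [] (.prune [0,0,0,0,0,0,0,0,0,0,0,0,0,0,0,2]))))) (.fuse [6,7,7,8,10,10,14,14] 1 [13,15] (.fuse [0,1,2,2,3,3,4,4,5,6,6,9,9,11,14,14,15] 1 [14] (.fuse [0,1,2,2,3,3,4,4,5,6,6,7,8,8,9,9,10,11,15] 1 [15] (.fuse [0,1,5,7,8,10,10,12,12,13,15] 2 [] (.prune [0,0,0,0,0,0,0,0,0,0,0,0,0,0,0,1]))))))) (.fuse [2,3,4,5,6,7,9,9,10,13,15,15] 2 [11,11,12,14,14,15,15] (.split (.fuse [0,1,2,2,3,3,4,4,5,6,6,9,9,11,14,14,15]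 2 [14,14] (.fuse [10,11,12,12,13,14,14,15] 1 [15] (.prune [0,0,0,0,0,0,0,0,0,0,0,0,0,2,0,1]))) (.fuse [0,1,2,2,3,3,4,4,5,6,6,9,9,11,14,14,15] 1 [13,14,14,15] (.fuse [10,11,12,12,13,14,14,15] 1 [15] (.prune [0,0,0,0,0,0,0,0,0,0,0,0,0,2,0,0]))) (.split (.fuse [0,1,2,2,3,3,4,4,5,6,6,9,9,11,14,14,15] 2 [14,14,15,15] (.prune [0,0,0,0,0,0,0,0,0,0,0,0,0,2,0,2])) (.fuse [10,11,12,12,13,14,14,15] 1 [15] (.prune [0,0,0,0,0,0,0,0,0,0,0,0,0,2,0,2])) (.fuse [0,1,2,2,3,3,4,4,5,6,6,9,9,11,14,14,15] 1 [14,14] (.prune [0,0,0,0,0,0,0,0,0,0,0,0,0,2,0,2]))))) (.fuse [9,11,11,13,14,15] 2 [11,11,13,14] (.split (.fuse [0,1,2,2,3,3,4,4,5,6,6,9,9,11,14,14,15] 2 [13,15,15] (.fuse [2,3,4,5,6,6,7,9,9,10,12,13,13,15,15] 1 [14,14] (.prune [0,0,0,0,0,0,0,0,0,0,0,0,0,1,0,2]))) (.fuse [0,1,2,2,3,3,4,4,5,6,6,9,9,11,14,14,15]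 1 [13,13] (.fuse [7,8,8,10,13,13,14,15] 1 [] (.prune [0,0,0,0,0,0,0,0,0,0,0,0,0,1,0,1]))) (.fuse [6,7,7,8,10,10,14,14] 2 [13,13,15,15] (.fuse [7,8,8,10,13,14] 1 [15,15] (.prune [0,0,0,0,0,0,0,0,0,0,0,0,0,1,0,0]))))))))) (.fuse [2] 1 [7,7,8,10,13,14,14,15,15] (.fuse [0,1,3,3,6,7,10,11,11,13,15] 2 [8,8,10,11,11,13,13,14,15] (.fuse [2,4,5,5,6,6,7,9,10,11,12,13,15,15] 1 [10,10,11,11,12,15] (.split (.fuse [2,3,4,5,5,7,8,8,9,10,11,12,13,13,15,15] 2 [11,11,12,12,13,14,14,15,15] (.split (.fuse [0,1,2,2,3,3,4,4,5,6,6,9,9,11,14,14,15] 2 [14,14] (.fuse [0,1,2,3,4,5,6,6,7,7,8,8,10,12,12,14,15] 1 [14,14,15,15] (.fuse [0,1,5,5,8,11,11,12,13,14,14] 2 [15,15] (.fuse [0,1,5,5,12,14,14,15,15] 2 [] (.leaf 561))))) (.fuse [0,1,2,2,3,3,4,4,5,6,6,9,9,11,14,14,15] 1 [13,14,14,15] (.fuse [0,1,2,2,3,3,4,4,5,9,9,11,12,13,13,14,14,15]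 1 [14,14] (.fuse [0,1,2,2,3,3,4,4,5,7,7,8,9,9,10,10,11,13,14,14,15,15] 2 [15] (.fuse [0,1,2,3,4,5,8,10,10] 2 [] (.prune [0,0,0,0,0,0,0,0,0,0,0,0,0,0,0,1]))))) (.fuse [2,3,4,5,5,7,8,8,10,11,11,12,14,14,15,15] 1 [13,14,15] (.fuse [0,1,2,2,3,3,4,4,5,6,6,9,9,11,14,14,15] 2 [14,14,15,15] (.fuse [0,1,2,2,3,3,4,4,5,6,6,7,8,8,9,9,10,11,12,13,13,14,14,15] 2 [] (.fuse [0,1,5,5,8,11,11,13,13,14] 1 [] (.prune [0,0,0,0,0,0,0,0,0,0,0,0,0,0,0,2]))))))) (.fuse [9,11,11,13,14,15] 2 [11,11,13,13,14,14,15,15] (.split (.fuse [0,1,2,2,3,3,4,4,5,6,6,9,9,11,14,14,15] 2 [13,15,15] (.fuse [0,1,2,2,3,3,4,4,5,9,9,11,12,13,13,14,14,15] 1 [] (.prune [0,0,0,0,0,0,0,0,0,0,0,0,0,1,0,2]))) (.fuse [0,1,2,2,3,3,4,4,5,6,6,9,9,11,14,14,15] 1 [13,13] (.fuse [7,8,8,10,12,12,13,14,15] 2 [15,15] (.prune [0,0,0,0,0,0,0,0,0,0,0,0,0,1,0,0])))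 (.fuse [2,3,4,5,5,7,8,8,9,10,11,12,13,13,15,15] 2 [14] (.fuse [2,3,4,5,5,6,9,11,12,12,13,14,14,15] 1 [14] (.prune [0,0,0,0,0,0,0,0,0,0,0,0,0,1,0,1]))))) (.fuse [2,3,4,5,5,7,8,8,9,10,11,12,13,13,15,15] 1 [11,12,13,14,15,15] (.split (.fuse [0,1,2,2,3,3,4,4,5,6,6,9,9,11,14,14,15] 2 [13,13,14,15] (.fuse [0,1,5,5,6,6,7,9,9,10,10,11,13,13] 2 [14,15] (.prune [0,0,0,0,0,0,0,0,0,0,0,0,0,2,0,1]))) (.fuse [0,1,2,2,3,3,4,4,5,6,6,9,9,11,14,14,15] 1 [14,15,15] (.fuse [0,1,5,5,6,6,7,9,9,10,10,11,13,13] 2 [] (.prune [0,0,0,0,0,0,0,0,0,0,0,0,0,2,0,2]))) (.split (.fuse [0,1,2,2,3,3,4,4,5,6,6,9,9,11,14,14,15] 1 [14] (.prune [0,0,0,0,0,0,0,0,0,0,0,0,0,2,0,0])) (.fuse [0,1,2,2,3,3,4,4,5,6,6,9,9,11,14,14,15] 2 [14,15,15] (.prune [0,0,0,0,0,0,0,0,0,0,0,0,0,2,0,0])) (.fuse [2,3,4,5,5,7,8,8,9,9,10,10,11,12,13,13]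 2 [14,15,15] (.prune [0,0,0,0,0,0,0,0,0,0,0,0,0,2,0,0])))))))))) (.fuse [2] 1 [6,6,7,8,8,9,9,10,12,12,13] (.fuse [0,1,3,3,6,7,10,11,11,13,15] 1 [8,11,11,13] (.fuse [0,1,3,3,4,5,5,7,8,8,9,10,11,11,13,13] 1 [8,10,11,12,13,13] (.fuse [6,7,7,8,10,10,12,14,15] 1 [11,11,12,13,14,14,15] (.prune [0,0,0,0,0,0,0,0,1,0,0,2,0,1,0,0]))))) (.fuse [2] 2 [7,7,8,9,10,10,12,13,14,15,15] (.fuse [0,1,3,3,6,7,10,11,11,13,15] 2 [8,11,11,13] (.fuse [0,1,3,3,4,4,5,8,8,9,9,11,11,14,14,15,15] 2 [8,8,10,10,11,11,13,13,14,15,15] (.fuse [0,1,3,3,4,4,6,6,7,7,10,10,11,11,14,14,15,15] 2 [11,12,13,13,14] (.prune [0,0,0,0,0,0,0,0,1,0,0,2,0,1,0,0])))))))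

theorem cert28_ok : certOK leafVecs cert28 [1,1,0] = true := by decide +kernel

def cert29 : Cert := (.fuse [0] 1 [4,5,5,6,9,12,12,14,15,15] (.split (.fuse [4,5,5,6,7,9,10,11,14,14] 2 [6,7,7,8,9,10,10,12,12,14,14] (.fuse [0,1,3,3,6,7,10,11,11,13,15] 1 [7,8,8,10,13,13,15] (.fuse [2,3,3,6,7,7,8,10,10,11,12,13,13,14] 2 [10,10,11,12,14,14,15,15] (.split (.split (.fuse [9,11,11,13,14,15] 1 [11,11,12,13,14,15] (.split (.fuse [0,1,2,2,3,3,7,8,10,11,14,14,15] 1 [14,14,15] (.fuse [0,1,3,6,7,7,8,8,10,10,12,13,13,15,15] 1 [14,14,15] (.prune [0,0,0,0,0,0,0,0,0,0,0,0,0,1,2,0]))) (.fuse [5,6,7,7,9,9,10,10,11,12,13,13,14,14] 1 [14,15] (.fuse [0,1,2,2,3,3,7,8,10,11,14,14,15] 1 [14,14] (.fuse [0,1,2,2,3,3,5,5,6,6,7,7,9,10,10,11,13] 1 [] (.fuse [7,10,11,11,12] 2 [] (.leaf 562))))) (.fuse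 [0,1,2,2,3,3,7,8,10,11,14,14,15] 2 [13,13,14,14,15,15] (.fuse [0,1,3,6,7,7,8,8,10,10,12,13,13,15,15] 1 [14,14,15,15] (.prune [0,0,0,0,0,0,0,0,0,0,0,0,0,2,1,0]))))) (.fuse [2,3,3,7,8,8,10,11,12,14,15] 1 [11,11,12,13,13] (.split (.fuse [8,11,11,12,12,14,14] 2 [13,14,14] (.fuse [0,1,2,2,3,3,7,8,10,11,14,14,15] 2 [14,14] (.fuse [0,1,3,6,7,7,8,8,9,9,10,10,11,12,14,14,15] 1 [15,15] (.fuse [2,3,3,5,6,7,8,8,9,10,11,11,15,15] 1 [] (.leaf 563))))) (.fuse [0,1,2,2,3,3,7,8,10,11,14,14,15] 2 [14,14,15,15] (.fuse [2,3,3,7,9,9,10,11,12,13,15] 1 [14,15,15] (.prune [0,0,0,0,0,0,0,0,0,0,0,0,0,2,1,0]))) (.fuse [0,1,2,2,3,3,7,8,10,11,14,14,15] 1 [13,14,14,15] (.fuse [2,3,3,7,8,9,9,10,12,12,13,14,15,15] 2 [14,14,15,15] (.prune [0,0,0,0,0,0,0,0,0,0,0,0,0,1,2,0]))))) (.fuse [2,3,3,7,8,8,10,11,12,14,15]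 2 [11,13,13,14] (.split (.fuse [0,1,2,2,3,3,7,8,10,11,14,14,15] 2 [13,14,14,15,15] (.fuse [0,1,3,6,7,7,8,8,9,11,12,12,14] 2 [] (.prune [0,0,0,0,0,0,0,0,0,0,0,0,0,2,1,0]))) (.fuse [0,1,2,2,3,3,7,8,10,11,14,14,15] 1 [13,13,14,14,15] (.fuse [0,1,3,6,7,7,8,8,9,11,12,12,14] 2 [15,15] (.prune [0,0,0,0,0,0,0,0,0,0,0,0,0,1,2,0]))) (.fuse [5,6,7,7,9,9,10,10,11,12,13,13,14,14] 2 [13,14] (.fuse [2,3,3,7,8,8,9,10,10,11,11,12,12,14,14] 2 [14,15] (.fuse [0,1,2,2,3,3,7,8,10,11,14,14,15] 2 [] (.fuse [0,1,2,2,3,3,7,8,8,10,11,11,13,13,14,14,15,15] 1 [] (.leaf 564)))))))) (.split (.fuse [9,11,11,13,14,15] 1 [11,11,12,13,14,14,15,15] (.split (.fuse [0,1,2,2,3,3,7,8,10,11,14,14,15] 2 [13,13,14,14] (.fuse [0,1,3,6,7,7,8,8,10,10,12,13,13,15,15] 1 [14,14,15] (.prune [0,0,0,0,0,0,0,0,0,0,0,0,0,2,1,0])))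 (.fuse [0,1,2,2,3,3,7,8,10,11,14,14,15] 1 [14,14,15,15] (.fuse [0,1,3,6,7,7,8,8,10,10,12,13,13,15,15] 1 [14,14] (.prune [0,0,0,0,0,0,0,0,0,0,0,0,0,1,2,0]))) (.fuse [5,6,7,7,9,9,10,10,11,12,13,13,14,14] 1 [14,15] (.fuse [0,1,2,2,3,3,7,8,10,11,14,14,15] 1 [14,14,15] (.fuse [0,1,2,2,3,3,5,5,6,6,7,7,9,10,10,11,13] 1 [15] (.fuse [0,1,2,2,3,3,7,8,10,11,12,12,15,15] 1 [] (.leaf 565))))))) (.fuse [2,3,3,7,8,8,10,11,12,14,15] 1 [11,11,13,14,14,15] (.split (.fuse [0,1,2,2,3,3,7,8,10,11,14,14,15] 1 [13,14,14,15,15] (.fuse [2,3,3,7,8,9,9,10,12,12,13,14,15,15] 2 [14,15,15] (.prune [0,0,0,0,0,0,0,0,0,0,0,0,0,1,2,1]))) (.fuse [8,11,11,12,12,14,14] 2 [13,14,14] (.fuse [0,1,2,2,3,3,7,8,10,11,14,14,15] 2 [14,14,15] (.fuse [2,3,3,5,6,7,8,8,9,10,11,11,15,15] 2 [15] (.fuse [2,3,3,5,5,6,6,8,11,11,13]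 2 [] (.prune [0,0,0,0,0,0,0,0,0,0,0,0,0,0,0,1]))))) (.fuse [0,1,2,2,3,3,7,8,10,11,14,14,15] 2 [14,14] (.fuse [2,3,3,7,9,9,10,11,12,13,15] 1 [15,15] (.prune [0,0,0,0,0,0,0,0,0,0,0,0,0,2,1,1]))))) (.fuse [2,3,3,7,8,8,10,11,12,14,15] 2 [11,12,12,13,15] (.split (.fuse [5,6,7,7,9,9,10,10,11,12,13,13,14,14] 2 [13,14] (.fuse [2,3,3,7,8,8,9,10,10,11,11,12,12,14,14] 2 [14,14,15,15] (.fuse [0,1,2,2,3,3,7,8,10,11,14,14,15] 2 [15] (.fuse [2,3,3,7,7,8,9,12,12,13,15] 1 [] (.prune [0,0,0,0,0,0,0,0,0,0,0,0,0,0,0,2]))))) (.fuse [0,1,2,2,3,3,7,8,10,11,14,14,15] 2 [13,14,14] (.fuse [0,1,3,6,7,7,8,8,9,11,12,12,14] 2 [14,15,15] (.prune [0,0,0,0,0,0,0,0,0,0,0,0,0,2,1,2]))) (.fuse [0,1,2,2,3,3,7,8,10,11,14,14,15] 1 [13,13,14,14,15,15] (.fuse [0,1,3,6,7,7,8,8,9,11,12,12,14] 2 [14,15] (.prune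 [0,0,0,0,0,0,0,0,0,0,0,0,0,1,2,2])))))) (.split (.fuse [9,11,11,13,14,15] 1 [11,11,12,13] (.split (.fuse [5,6,7,7,9,9,10,10,11,12,13,13,14,14] 1 [14,15] (.fuse [0,1,2,2,3,3,7,8,10,11,14,14,15] 1 [14,14,15,15] (.fuse [0,1,2,2,3,3,5,5,6,6,7,7,9,10,10,11,13] 1 [15,15] (.fuse [0,1,2,2,3,3,7,8,10,11,12,12,15,15] 2 [] (.leaf 566))))) (.fuse [0,1,2,2,3,3,7,8,10,11,14,14,15] 2 [13,13,14,14,15] (.fuse [0,1,3,6,7,7,8,8,10,10,12,13,13,15,15] 1 [14,14] (.prune [0,0,0,0,0,0,0,0,0,0,0,0,0,2,1,0]))) (.fuse [0,1,2,2,3,3,7,8,10,11,14,14,15] 1 [14,14] (.fuse [0,1,3,6,7,7,8,8,10,10,12,13,13,15,15] 1 [14,14,15,15] (.prune [0,0,0,0,0,0,0,0,0,0,0,0,0,1,2,0]))))) (.fuse [2,3,3,7,8,8,10,11,12,14,15] 1 [11,11,12,12,14,15,15] (.split (.fuse [0,1,2,2,3,3,7,8,10,11,14,14,15] 2 [14,14,15] (.fuse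 [2,3,3,7,9,9,10,11,12,13,15] 1 [14,14,15,15] (.prune [0,0,0,0,0,0,0,0,0,0,0,0,0,2,1,2]))) (.fuse [0,1,2,2,3,3,7,8,10,11,14,14,15] 1 [13,14,14] (.fuse [2,3,3,7,8,9,9,10,12,12,13,14,15,15] 2 [15,15] (.prune [0,0,0,0,0,0,0,0,0,0,0,0,0,1,2,2]))) (.fuse [8,11,11,12,12,14,14] 2 [13,14,14] (.fuse [0,1,2,2,3,3,7,8,10,11,14,14,15] 2 [14,14,15,15] (.fuse [0,1,3,6,7,7,8,8,9,9,10,10,11,12,14,14,15] 2 [15] (.fuse [0,1,2,5,6,7,8,8,11,11,15] 1 [] (.prune [0,0,0,0,0,0,0,0,0,0,0,0,0,0,0,2]))))))) (.fuse [2,3,3,7,8,8,10,11,12,14,15] 2 [11,12,14,14,15,15] (.split (.fuse [0,1,2,2,3,3,7,8,10,11,14,14,15] 1 [13,13,14,14] (.fuse [0,1,3,6,7,7,8,8,9,11,12,12,14] 2 [14,14] (.prune [0,0,0,0,0,0,0,0,0,0,0,0,0,1,2,1]))) (.fuse [5,6,7,7,9,9,10,10,11,12,13,13,14,14] 2 [13,14] (.fuse [2,3,3,7,8,8,9,10,10,11,11,12,12,14,14]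 2 [] (.fuse [0,1,2,2,3,3,7,8,10,11,14,14,15] 2 [15,15] (.fuse [0,1,2,7,7,8,8,9,9,10,10,11,11,12,13,13,14] 2 [] (.prune [0,0,0,0,0,0,0,0,0,0,0,0,0,0,0,1]))))) (.fuse [0,1,2,2,3,3,7,8,10,11,14,14,15] 2 [13,14,14,15] (.fuse [0,1,3,6,7,7,8,8,9,11,12,12,14] 2 [14,14,15] (.prune [0,0,0,0,0,0,0,0,0,0,0,0,0,2,1,1])))))))))) (.fuse [2] 1 [6,6,7,7,8,8,9,9,10,10,11,11,12,13,13,14,15] (.fuse [0,1,3,3,6,7,10,11,11,13,15] 2 [7,8,8,10,12,13,13,14] (.fuse [2,4,6,6,7,7,10,10,12,15,15] 1 [8,8,10,13,14] (.prune [0,0,0,0,0,0,0,1,2,0,1,0,0,2,1,1])))) (.fuse [2] 2 [8,9,11,11,12] (.fuse [2,4,4,5,6,6,8,8,9,9,11,11,12,13,13,14,14,15] 2 [7,8,8,10,12,13,13,14,14] (.fuse [0,1,3,3,6,7,10,11,11,13,15] 1 [8,10,11,12,12,13,14] (.prune [0,0,0,0,0,0,0,2,2,0,2,2,1,0,0,2]))))))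

theorem cert29_ok : certOK leafVecs cert29 [1,1,1] = true := by decide +kernel

def cert30 : Cert := (.split (.fuse [0] 2 [5,5,9,14,15,15] (.fuse [4,5,5,6,7,9,10,11,14,14] 1 [7,9,9,10,11,11,14,14,15,15] (.fuse [0,1,3,3,6,7,10,11,11,13,15] 2 [8,11,11,12,15,15] (.fuse [0,1,2,3,3,7,8,10,11,12,12,13,14,14] 2 [10,10,11,12,14,14] (.prune [0,0,0,0,0,0,0,2,0,0,2,1,2,2,2,0]))))) (.fuse [0] 2 [5,5,8,8,9,12,12,13,14,14,15] (.fuse [4,5,5,6,7,9,10,11,14,14] 1 [7,8,9,9,10,11,12,12,13,14,14,15,15] (.fuse [0,1,3,3,6,7,10,11,11,13,15] 2 [8,11,11,12,15,15] (.fuse [0,1,3,6,6,7,7,8,10,10,11,13,13,15] 1 [10,11,11,12,13,14,15] (.prune [0,0,0,0,0,0,0,1,0,0,1,2,1,0,2,0]))))) (.fuse [0] 2 [5,5,8,9,12,13,13] (.fuse [4,5,5,6,7,9,10,11,14,14] 1 [7,8,8,9,9,10,12,13,13,14,14] (.fuse [0,1,3,3,6,7,10,11,11,13,15]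 2 [8,11,11,12,15,15] (.fuse [2,3,3,6,7,7,8,10,10,11,12,13,13,14] 1 [10,11,11,13,13,14] (.split (.split (.split (.split (.fuse [0,1,2,2,3,3,7,8,10,11,14,14,15] 1 [14,14] (.fuse [0,1,2,2,3,3,5,7,8,8,9,9,10,12,13,15,15] 1 [14,15] (.prune [0,0,0,0,0,0,0,0,0,0,0,0,0,1,2,0]))) (.fuse [2,3,3,5,5,8,9,12,13,14,15,15] 1 [13,14,15,15] (.fuse [0,1,2,2,3,3,7,8,10,11,14,14,15] 1 [14,14,15,15] (.fuse [9,11,11,13,14,15] 1 [] (.fuse [0,1,2,8,8,12,14,14,15,15] 2 [] (.leaf 567))))) (.fuse [0,1,2,2,3,3,7,8,10,11,14,14,15] 2 [13,13,14,14,15] (.fuse [8,11,12,12,13,13,14,14] 1 [14,14,15,15] (.prune [0,0,0,0,0,0,0,0,0,0,0,0,0,2,1,0])))) (.split (.fuse [2,3,3,5,5,8,9,12,13,14,15,15] 1 [14,14] (.fuse [2,3,3,7,8,8,10,11,12,14,15] 2 [14] (.fuse [9,11,11,13,14,15] 1 [] (.fuse [0,1,2,2,3,3,7,8,10,11,14,14,15]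 1 [] (.leaf 568))))) (.fuse [0,1,2,2,3,3,7,8,10,11,14,14,15] 2 [13] (.fuse [5,7,8,8,9,9,10,12,12,15] 2 [14,14,15,15] (.prune [0,0,0,0,0,0,0,0,0,0,0,0,0,2,1,0]))) (.fuse [0,1,2,2,3,3,7,8,10,11,14,14,15] 1 [13,13,15,15] (.fuse [0,1,2,2,3,3,5,7,8,8,9,9,10,12,13,15,15] 2 [15,15] (.prune [0,0,0,0,0,0,0,0,0,0,0,0,0,1,2,0])))) (.split (.fuse [0,1,2,2,3,3,7,8,10,11,14,14,15] 2 [14,15,15] (.fuse [5,7,8,8,9,9,10,12,12,15] 1 [15,15] (.prune [0,0,0,0,0,0,0,0,0,0,0,0,0,2,1,0]))) (.fuse [0,1,2,2,3,3,7,8,10,11,14,14,15] 1 [13,14,15] (.fuse [2,3,3,5,5,8,9,12,13,14,15,15] 1 [] (.prune [0,0,0,0,0,0,0,0,0,0,0,0,0,1,2,0]))) (.fuse [2,3,3,5,5,8,9,12,13,14,15,15] 1 [13,13,15] (.fuse [0,1,2,2,3,3,7,8,10,11,14,14,15] 2 [14] (.fuse [9,11,11,13,14,15] 1 [] (.fuse [8,11,13,13,14,15,15] 1 [] (.leaf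 569))))))) (.fuse [2,3,3,5,5,8,9,12,13,14,15,15] 1 [11,11,12,12] (.split (.fuse [5,8,9,9,11,11,13,15] 2 [13,13,15] (.fuse [0,1,2,2,3,3,7,8,10,11,14,14,15] 2 [14,14,15,15] (.fuse [0,1,2,2,3,3,5,5,7,8,8,9,10,12,13,15,15] 1 [15,15] (.fuse [0,1,2,2,3,3,5,5,7,7,9,10,10] 1 [] (.leaf 570))))) (.fuse [0,1,2,2,3,3,7,8,10,11,14,14,15] 2 [14,14,15] (.fuse [0,1,2,2,3,3,5,5,7,9,10,11,11,13,13] 1 [14] (.prune [0,0,0,0,0,0,0,0,0,0,0,0,0,2,1,0]))) (.fuse [0,1,2,2,3,3,7,8,10,11,14,14,15] 1 [13,14,14] (.fuse [0,1,2,2,3,3,5,7,8,8,9,9,10,12,13,15,15] 2 [14,14,15] (.prune [0,0,0,0,0,0,0,0,0,0,0,0,0,1,2,0]))))) (.fuse [2,3,3,5,5,8,9,12,13,14,15,15] 2 [11,12,14,14,15,15] (.split (.fuse [0,1,2,2,3,3,7,8,10,11,14,14,15] 2 [13,14,14,15] (.fuse [0,1,2,2,3,3,5,5,7,9,10,11,11,13,13] 2 [] (.prune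 [0,0,0,0,0,0,0,0,0,0,0,0,0,2,1,0]))) (.fuse [0,1,2,2,3,3,7,8,10,11,14,14,15] 1 [13,13,14,14] (.fuse [5,8,8,9,9,11,15] 1 [14] (.prune [0,0,0,0,0,0,0,0,0,0,0,0,0,1,2,0]))) (.fuse [5,8,9,9,11,11,13,15] 2 [13,13,14,15] (.fuse [5,8,8,9,9,11,12,12,13,14,15] 2 [14] (.fuse [0,1,2,2,3,3,7,8,10,11,14,14,15] 2 [15,15] (.fuse [0,1,2,2,3,3,5,7,8,9,9,10,12,14,14,15] 1 [] (.leaf 571)))))))) (.split (.split (.split (.fuse [0,1,2,2,3,3,7,8,10,11,14,14,15] 2 [13,13,14,14,15,15] (.fuse [8,11,12,12,13,13,14,14] 1 [14,14,15,15] (.prune [0,0,0,0,0,0,0,0,0,0,0,0,0,2,1,0]))) (.fuse [0,1,2,2,3,3,7,8,10,11,14,14,15] 1 [14,14,15] (.fuse [0,1,2,2,3,3,5,7,8,8,9,9,10,12,13,15,15] 1 [14,15,15] (.prune [0,0,0,0,0,0,0,0,0,0,0,0,0,1,2,0]))) (.fuse [2,3,3,5,5,8,9,12,13,14,15,15] 1 [13,14] (.fuse [0,1,2,2,3,3,7,8,10,11,14,14,15]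 1 [14,14] (.fuse [9,11,11,13,14,15] 2 [] (.fuse [0,1,2,8,8,12,14,14,15,15] 2 [] (.leaf 572)))))) (.split (.fuse [0,1,2,2,3,3,7,8,10,11,14,14,15] 1 [13,13] (.fuse [0,1,2,2,3,3,5,7,8,8,9,9,10,12,13,15,15] 2 [] (.prune [0,0,0,0,0,0,0,0,0,0,0,0,0,1,2,0]))) (.fuse [2,3,3,5,5,8,9,12,13,14,15,15] 1 [14,14,15] (.fuse [2,3,3,7,8,8,10,11,12,14,15] 2 [14,15] (.fuse [9,11,11,13,14,15] 2 [] (.fuse [0,1,2,2,3,3,7,8,10,11,14,14,15] 2 [] (.leaf 573))))) (.fuse [0,1,2,2,3,3,7,8,10,11,14,14,15] 2 [13,15] (.fuse [5,7,8,8,9,9,10,12,12,15] 2 [14,14,15,15] (.prune [0,0,0,0,0,0,0,0,0,0,0,0,0,2,1,0])))) (.split (.fuse [2,3,3,5,5,8,9,12,13,14,15,15] 1 [13,13,15,15] (.fuse [0,1,2,2,3,3,7,8,10,11,14,14,15] 2 [14,15] (.fuse [9,11,11,13,14,15] 2 [] (.fuse [0,1,2,2,3,3,5,7,9,9,10,11,11,12,14] 1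 [] (.leaf 574))))) (.fuse [0,1,2,2,3,3,7,8,10,11,14,14,15] 2 [14] (.fuse [5,7,8,8,9,9,10,12,12,15] 1 [15,15] (.prune [0,0,0,0,0,0,0,0,0,0,0,0,0,2,1,0]))) (.fuse [0,1,2,2,3,3,7,8,10,11,14,14,15] 1 [13,14,15,15] (.fuse [2,3,3,5,5,8,9,12,13,14,15,15] 1 [15] (.prune [0,0,0,0,0,0,0,0,0,0,0,0,0,1,2,0]))))) (.fuse [2,3,3,5,5,8,9,12,13,14,15,15] 1 [11,11,12,13,13] (.split (.fuse [0,1,2,2,3,3,7,8,10,11,14,14,15] 1 [13,14,14,15] (.fuse [0,1,2,2,3,3,5,7,8,8,9,9,10,12,13,15,15] 2 [14,14,15,15] (.prune [0,0,0,0,0,0,0,0,0,0,0,0,0,1,2,0]))) (.fuse [5,8,9,9,11,11,13,15] 2 [13,13,15] (.fuse [0,1,2,2,3,3,7,8,10,11,14,14,15] 2 [14,14] (.fuse [0,1,2,2,3,3,5,5,7,8,8,9,10,12,13,15,15] 1 [] (.fuse [0,1,2,2,3,3,5,5,7,7,9,10,10] 2 [] (.leaf 575))))) (.fuse [0,1,2,2,3,3,7,8,10,11,14,14,15] 2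 [14,14,15,15] (.fuse [0,1,2,2,3,3,5,5,7,9,10,11,11,13,13] 1 [14,15] (.prune [0,0,0,0,0,0,0,0,0,0,0,0,0,2,1,0]))))) (.fuse [2,3,3,5,5,8,9,12,13,14,15,15] 2 [11,13,13,14,14,15,15] (.split (.fuse [5,8,9,9,11,11,13,15] 2 [13,13,14,15] (.fuse [5,8,8,9,9,11,12,12,13,14,15] 2 [14] (.fuse [0,1,2,2,3,3,7,8,10,11,14,14,15] 2 [] (.fuse [0,1,2,2,3,3,5,7,8,9,9,10,12,14,14,15] 2 [] (.leaf 576))))) (.fuse [0,1,2,2,3,3,7,8,10,11,14,14,15] 2 [13,14,14,15,15] (.fuse [0,1,2,2,3,3,5,5,7,9,10,11,11,13,13] 2 [15] (.prune [0,0,0,0,0,0,0,0,0,0,0,0,0,2,1,0]))) (.fuse [0,1,2,2,3,3,7,8,10,11,14,14,15] 1 [13,13,14,14,15] (.fuse [5,8,8,9,9,11,15] 1 [14] (.prune [0,0,0,0,0,0,0,0,0,0,0,0,0,1,2,0])))))) (.split (.split (.split (.fuse [2,3,3,5,5,8,9,12,13,14,15,15] 1 [13,14,15] (.fuse [0,1,2,2,3,3,7,8,10,11,14,14,15]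 1 [14,14,15] (.split (.fuse [0,1,2,8,8,12,14,14,15,15] 2 [] (.leaf 577)) (.fuse [2,3,3,8,8,11,11,12,14,14,15,15] 1 [] (.leaf 578)) (.fuse [0,1,2,8,8,12,14,14,15,15] 1 [] (.leaf 579))))) (.fuse [0,1,2,2,3,3,7,8,10,11,14,14,15] 2 [13,13,14,14] (.fuse [8,11,12,12,13,13,14,14] 1 [14,14,15,15] (.prune [0,0,0,0,0,0,0,0,0,0,0,0,0,2,1,0]))) (.fuse [0,1,2,2,3,3,7,8,10,11,14,14,15] 1 [14,14,15,15] (.fuse [0,1,2,2,3,3,5,7,8,8,9,9,10,12,13,15,15] 1 [14] (.prune [0,0,0,0,0,0,0,0,0,0,0,0,0,1,2,0])))) (.split (.fuse [0,1,2,2,3,3,7,8,10,11,14,14,15] 2 [13,15,15] (.fuse [5,7,8,8,9,9,10,12,12,15] 2 [14,14,15,15] (.prune [0,0,0,0,0,0,0,0,0,0,0,0,0,2,1,0]))) (.fuse [0,1,2,2,3,3,7,8,10,11,14,14,15] 1 [13,13,15] (.fuse [0,1,2,2,3,3,5,7,8,8,9,9,10,12,13,15,15] 2 [15] (.prune [0,0,0,0,0,0,0,0,0,0,0,0,0,1,2,0])))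 (.fuse [2,3,3,5,5,8,9,12,13,14,15,15] 1 [14,14,15,15] (.fuse [2,3,3,7,8,8,10,11,12,14,15] 2 [14,15,15] (.split (.fuse [2,3,3,5,5,7,9,10,14,14] 2 [] (.leaf 580)) (.fuse [2,3,3,5,5,7,9,10,14,14] 1 [] (.leaf 581)) (.split (.leaf 582) (.leaf 583) (.leaf 584)))))) (.split (.fuse [0,1,2,2,3,3,7,8,10,11,14,14,15] 1 [13,14] (.fuse [2,3,3,5,5,8,9,12,13,14,15,15] 1 [15,15] (.prune [0,0,0,0,0,0,0,0,0,0,0,0,0,1,2,0]))) (.fuse [2,3,3,5,5,8,9,12,13,14,15,15] 1 [13,13] (.fuse [0,1,2,2,3,3,7,8,10,11,14,14,15] 2 [14,15,15] (.split (.fuse [0,1,2,2,3,3,5,7,9,9,10,11,11,12,14] 2 [] (.leaf 585)) (.fuse [0,1,2,2,3,3,5,7,9,9,10,11,11,12,14] 2 [] (.leaf 586)) (.fuse [0,1,2,2,3,3,5,7,9,9,10,11,11,12,14] 2 [] (.leaf 587))))) (.fuse [0,1,2,2,3,3,7,8,10,11,14,14,15] 2 [14,15] (.fuse [5,7,8,8,9,9,10,12,12,15]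 1 [15,15] (.prune [0,0,0,0,0,0,0,0,0,0,0,0,0,2,1,0]))))) (.fuse [2,3,3,5,5,8,9,12,13,14,15,15] 1 [11,11,13] (.split (.fuse [0,1,2,2,3,3,7,8,10,11,14,14,15] 2 [14,14] (.fuse [0,1,2,2,3,3,5,5,7,9,10,11,11,13,13] 1 [14,15,15] (.prune [0,0,0,0,0,0,0,0,0,0,0,0,0,2,1,0]))) (.fuse [0,1,2,2,3,3,7,8,10,11,14,14,15] 1 [13,14,14,15,15] (.fuse [0,1,2,2,3,3,5,7,8,8,9,9,10,12,13,15,15] 2 [14,14] (.prune [0,0,0,0,0,0,0,0,0,0,0,0,0,1,2,0]))) (.fuse [5,8,9,9,11,11,13,15] 2 [13,13,15] (.fuse [0,1,2,2,3,3,7,8,10,11,14,14,15] 2 [14,14,15] (.fuse [0,1,2,2,3,3,5,5,7,8,8,9,10,12,13,15,15] 1 [15] (.split (.leaf 588) (.leaf 589) (.leaf 590))))))) (.fuse [2,3,3,5,5,8,9,12,13,14,15,15] 2 [11,12,12,13,14,14,15,15] (.split (.fuse [0,1,2,2,3,3,7,8,10,11,14,14,15] 1 [13,13,14,14,15,15] (.fuse [5,8,8,9,9,11,15]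 1 [14] (.prune [0,0,0,0,0,0,0,0,0,0,0,0,0,1,2,0]))) (.fuse [5,8,9,9,11,11,13,15] 2 [13,13,14,15] (.fuse [5,8,8,9,9,11,12,12,13,14,15] 2 [14] (.fuse [0,1,2,2,3,3,7,8,10,11,14,14,15] 2 [15] (.split (.leaf 591) (.leaf 592) (.leaf 593))))) (.fuse [0,1,2,2,3,3,7,8,10,11,14,14,15] 2 [13,14,14] (.fuse [0,1,2,2,3,3,5,5,7,9,10,11,11,13,13] 2 [15,15] (.prune [0,0,0,0,0,0,0,0,0,0,0,0,0,2,1,0]))))))))))))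

theorem cert30_ok : certOK leafVecs cert30 [1,1,2] = true := by decide +kernel


end H49.Order3.Fi24
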