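/-
Generated data: part of the certificate tree, with its check.
-/
import Cfsg.Agent.H49.Order3.Fi24.CertDef
import Cfsg.Agent.H49.Order3.Fi24.Data.Leaves

set_option autoImplicit false
set_option maxRecDepth 100000
set_option linter.all false
set_option Elab.async false

namespace H49.Order3.Fi24

def cert31 : Cert := (.split (.fuse [0] 1 [6,6,7,7,8,8,10,10,11,13,13] (.fuse [1,2,3,3,4,5,5,6,6,8,9,13,13,14,15,15] 1 [5,5,6,7,9,10,11,12,12,14] (.split (.fuse [4,5,5,6,7,8,8,9,10,11,12,12,14,15] 1 [7,7,8,8,10,10,11,11,12,12,13] (.fuse [5,6,6,8,9,9,12,12,13,13,15,15] 1 [8,10,11,13,13,15] (.fuse [3,6,6,7,7,10,10,11,13,13,15,15] 2 [] (.prune [0,0,0,0,0,0,0,0,2,0,0,0,0,0,0,0])))) (.fuse [4,5,5,6,7,8,8,9,10,11,12,12,14,15] 1 [7,7,8,8,10,10,11,11,12,12,13,13,14,15,15] (.fuse [0,1,1]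 2 [8,8,10,11,11,13,13,14,15] (.fuse [0,1,1,5,6,6,7,7,9,9,10,10,11,11,12,12,13,14,15,15] 1 [10,10,11,11,12,12,13,13,14] (.prune [0,0,0,0,0,0,0,0,1,0,0,0,0,0,0,0])))) (.fuse [4,5,5,6,7,8,8,9,10,11,12,12,14,15] 1 [7,7,8,8,10,10,11,11,12,12,14,14,15] (.fuse [0,1,1] 1 [8,10,10,11,13,14,14] (.fuse [3,6,6,7,7,10,10,11,13,13,15,15] 1 [] (.split (.fuse [0,1,1,5,5,6,9,11,12,13,13,14,14,15,15] 1 [12,12,13,14] (.fuse [3,6,8,8,11,11,12,13,15] 1 [12,13,15] (.fuse [0,1,1,5,5,6,12,13,13,14,14,15] 2 [14,14] (.split (.fuse [0,1,1,3,5,5,6,6,8,10,11,12,13,15] 1 [15,15] (.fuse [0,1,1,5,5,8,8,12,12,14] 2 [] (.leaf 594))) (.fuse [3,6,6,10,11] 1 [15,15] (.fuse [0,1,1,3,5,5,6,6,8,10,11,12,13,15] 2 [] (.prune [0,0,0,0,0,0,0,0,0,0,0,0,0,0,0,2]))) (.fuse [0,1,1,3,5,5,6,6,8,10,11,12,13,15] 2 [15,15]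 (.fuse [0,1,1,3,3,5,5,6,10,10,11,11,13,13,14,15] 1 [] (.prune [0,0,0,0,0,0,0,0,0,0,0,0,0,0,0,1]))))))) (.fuse [9,11,11,13,14,15] 1 [13,14,14] (.fuse [3,6,8,8,11,11,12,13,15] 2 [12,12,13,13,14,14] (.prune [0,0,0,0,0,0,0,0,0,0,0,2,0,2,2,0]))) (.fuse [0,1,1,5,5,6,9,11,12,13,13,14,14,15,15] 2 [13,13,14] (.fuse [0,1,1,5,5,6,9,9,10,10,13,13,14,15] 1 [13,14,15,15] (.prune [0,0,0,0,0,0,0,0,0,0,0,1,0,1,1,0])))))))))) (.fuse [1] 2 [4,4,5,7,8,9,9,10,11,12,13,13,14] (.fuse [0] 1 [5,5,8,8,9,12,13,14,15] (.fuse [0,1,1,2,3,3,4,5,5,7,8,9,10,11,12,12,14,15,15] 2 [6,6,7,7,9,10,10,11,11,12,13,13,14,15,15] (.prune [0,0,0,0,0,1,0,0,0,2,0,0,2,1,2,0])))) (.fuse [0] 2 [4,4,5,5,9,11,11,12,13,13,14,14] (.fuse [0,2,2,5,6,6,9,9,11,12,13,14,14,15] 1 [6,6,7,7,8,10,10,15] (.fuse [0,1,1,2,2,3,4,4,6,6,7,8,8,10,12,12,13,14,14,15,15]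 2 [7,9,10,11,13,13,15] (.prune [0,0,0,0,0,1,1,2,2,2,2,0,2,0,1,1])))))

theorem cert31_ok : certOK leafVecs cert31 [1,2] = true := by decide +kernel

def cert32 : Cert := (.split (.fuse [3,6,6,7,7,10,10,11,13,13,15,15] 2 [] (.split (.split (.fuse [3,6,7,8,8,10,11,11,12,12,13,13,14,14] 2 [14,15] (.split (.split (.fuse [3,6,7,8,8,11,12,12,13,13,14,14,15] 2 [] (.split (.leaf 595) (.leaf 596) (.leaf 597))) (.fuse [0] 1 [] (.fuse [0,3,6,7,8,8,11,12,12,13,13,14,15] 2 [] (.leaf 598))) (.fuse [0] 2 [] (.fuse [0,3,3,6,6,7,7,8,11,11,12,13,14,15,15] 2 [] (.leaf 599)))) (.split (.fuse [3,6,7,8,8,11,12,12,13,13,14,14,15] 2 [15,15] (.fuse [3,4,4,5,5,6,7,8,9,11,11,12,12,13,13,14,14] 2 [] (.leaf 600))) (.fuse [0] 1 [] (.fuse [0,3,6,7,8,8,11,12,12,13,13,14,15] 1 [] (.leaf 601))) (.fuse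 [0] 2 [] (.fuse [4,5,6,6,9,9,11,11,13,13,15] 2 [] (.leaf 602)))) (.split (.fuse [3,6,7,8,8,11,12,12,13,13,14,14,15] 2 [15] (.fuse [3,4,5,6,7,9,9,12,12,13,13,15,15] 1 [] (.leaf 603))) (.fuse [0] 1 [] (.fuse [4,5,6,8,8,9,9,11,11,12,15] 2 [] (.leaf 604))) (.fuse [0] 2 [] (.fuse [0,3,3,6,6,7,7,8,11,11,12,13,14,15,15] 1 [] (.leaf 605)))))) (.fuse [0] 2 [15] (.fuse [4,5,8,8,9,9,11,12,13,13,15,15] 1 [13,13] (.fuse [5,9,9,12,15,15] 2 [14,14,15] (.fuse [0,3,3,6,6,7,7,8,10,10,11,12,13,15,15] 2 [15] (.prune [0,0,0,0,0,0,0,0,0,0,0,0,0,0,2,0]))))) (.fuse [0] 1 [15,15] (.fuse [4,5,8,8,9,9,11,12,13,13,15,15] 2 [13] (.fuse [5,9,9,12,15,15] 1 [14,15,15] (.fuse [3,6,7,8,8,11,12,12,13,13,14,14,15,15] 2 [15] (.prune [0,0,0,0,0,0,0,0,0,0,0,0,0,0,1,0])))))) (.split (.fuse [10,11,15,15] 2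 [14,14,15] (.fuse [3,6,7,8,8,10,11,11,12,12,13,13,14,14] 1 [13,13,14,14,15] (.fuse [3,6,6,7,8,8,10,12,14,14,15,15] 2 [14] (.fuse [4,5,8,8,9,9,11,12,13,13,15,15] 1 [] (.split (.leaf 606) (.leaf 607) (.leaf 608)))))) (.fuse [0] 2 [15] (.fuse [3,6,7,8,8,10,11,11,12,12,13,13,14,14] 1 [13,13,14,14] (.fuse [4,5,6,8,8,9,9,11,11,12,14,15,15] 2 [15,15] (.fuse [0,10,10,11,11,14,14,15] 1 [] (.prune [0,0,0,0,0,0,0,0,0,0,0,0,0,0,2,0]))))) (.fuse [0] 1 [15,15] (.fuse [3,6,7,8,8,10,11,11,12,12,13,13,14,14] 1 [13,13,14,14,15,15] (.fuse [4,5,6,6,9,9,11,11,12,12,14] 1 [14,14,15] (.fuse [0,10,14] 1 [] (.prune [0,0,0,0,0,0,0,0,0,0,0,0,0,0,1,0])))))) (.split (.fuse [3,6,7,8,8,10,11,11,12,12,13,13,14,14] 1 [12,12,13,15] (.fuse [3,6,7,8,8,10,10,12,12,13,13,14,14,15] 2 [13,14,14,15,15] (.fuse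 [3,6,6,7,8,8,10,10,11,12,14,14] 1 [14] (.fuse [4,5,8,8,9,9,11,12,13,13,15,15] 2 [] (.split (.leaf 609) (.leaf 610) (.leaf 611)))))) (.fuse [0] 2 [15] (.fuse [0,3,6,7,8,8,10,11,12,12,13,13,14,14,15] 2 [13,14,14,15] (.fuse [4,5,6,6,9,9,11,11,12,12,14] 2 [14,14,15,15] (.fuse [0,10,10,14,14,15,15] 2 [] (.prune [0,0,0,0,0,0,0,0,0,0,0,0,0,0,2,0]))))) (.fuse [0] 1 [15,15] (.fuse [0,3,3,6,6,7,7,8,10,10,11,12,13,15,15] 1 [13,13] (.fuse [4,5,6,8,8,9,9,11,13,14,14,15] 1 [14,15] (.fuse [0,10,11,14,14] 2 [] (.prune [0,0,0,0,0,0,0,0,0,0,0,0,0,0,1,0])))))))) (.fuse [0] 2 [11,11,14,15,15] (.split (.split (.fuse [0,3,3,6,7,10,11,11,13,15] 2 [14,15,15] (.split (.fuse [9,11,11,13,14,15] 2 [14] (.fuse [0,3,8,11,11,12,13,13,14,15,15] 2 [15,15] (.prune [0,0,0,0,0,0,0,0,0,0,0,0,0,0,2,2])))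 (.fuse [9,11,11,13,14,15] 2 [14] (.fuse [0,3,8,11,11,12,13,13,14,15,15] 2 [] (.prune [0,0,0,0,0,0,0,0,0,0,0,0,0,0,2,2]))) (.fuse [9,11,11,13,14,15] 2 [14] (.fuse [0,3,8,11,11,12,13,13,14,15,15] 2 [15] (.prune [0,0,0,0,0,0,0,0,0,0,0,0,0,0,2,2]))))) (.fuse [0,3,3,6,7,10,11,11,13,15] 1 [14] (.fuse [4,5,8,8,9,9,11,12,13,13,15,15] 1 [13,13] (.fuse [5,9,9,12,15,15] 2 [14,14,15] (.fuse [0,6,6,7,7,8,8,10,10,11,12,12,14,14] 2 [15] (.prune [0,0,0,0,0,0,0,0,0,0,0,0,0,0,1,1]))))) (.fuse [3,6,7,8,8,10,12,12,13,13,14,15] 2 [14,14,15] (.fuse [4,5,8,8,9,9,11,12,13,13,15,15] 2 [13] (.fuse [5,9,9,12,15,15] 1 [14,15,15] (.fuse [0,3,3,6,7,10,11,11,13,15] 1 [15] (.fuse [5,6,6,8,8,11,14,14] 1 [] (.leaf 612))))))) (.split (.fuse [0,3,3,6,7,10,11,11,13,15] 1 [14,14,15] (.fuse [3,6,7,8,8,10,12,12,13,13,14,15]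 1 [13,13] (.fuse [3,6,6,7,8,8,10,11,12,14,14,15] 2 [14,14] (.fuse [3,6,6,7,8,8,9,9,10,11,11,12,13,13,14,15] 1 [] (.prune [0,0,0,0,0,0,0,0,0,0,0,0,0,0,1,2]))))) (.fuse [10,11,15,15] 2 [14,14,15] (.fuse [3,6,7,8,8,10,12,12,13,13,14,15] 1 [13,13,15,15] (.fuse [4,5,6,8,8,9,9,11,11,12,14,14] 2 [] (.fuse [0,3,3,6,7,10,11,11,13,15] 2 [15,15] (.fuse [3,5,5,6,6,7,8,8,9,10,11,12,12,13,13,14,15,15] 1 [] (.prune [0,0,0,0,0,0,0,0,0,0,0,0,0,0,0,1])))))) (.fuse [0,3,3,6,7,10,11,11,13,15] 2 [14,14] (.fuse [3,6,7,8,8,10,12,12,13,13,14,15] 1 [13,13,15] (.fuse [4,5,6,6,9,9,11,11,12,12,14,14,15,15] 1 [14,14] (.fuse [3,4,5,6,7,9,9,10,11,11,12,12,13,13,14,14,15,15] 1 [15] (.prune [0,0,0,0,0,0,0,0,0,0,0,0,0,0,2,0])))))) (.split (.fuse [3,6,7,8,8,10,12,12,13,13,14,15] 1 [12,12,13,14] (.fuse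 [3,6,7,8,8,10,10,11,12,12,13,13,14,15,15] 2 [13,15] (.fuse [3,6,6,7,8,8,10,10,11,11,12,14,14,15,15] 1 [14,14] (.fuse [4,5,8,8,9,9,11,12,13,13,15,15] 2 [] (.fuse [3,6,6,7,8,8,9,10,10,11,11,12,14,15] 1 [] (.prune [0,0,0,0,0,0,0,0,0,0,0,0,0,0,0,2])))))) (.fuse [0,3,3,6,7,10,11,11,13,15] 2 [15] (.fuse [0,6,6,7,7,8,8,10,10,11,12,12,14,14] 2 [13,15,15] (.fuse [4,5,6,6,8,8,9,9,12,12,14,15,15] 2 [14,14] (.fuse [0,3,3,6,7,11,11,13] 2 [15] (.prune [0,0,0,0,0,0,0,0,0,0,0,0,0,0,2,1]))))) (.fuse [0,3,3,6,7,10,11,11,13,15] 1 [15,15] (.fuse [0,3,8,11,11,12,13,13,14,15,15] 1 [13,13,14,14,15] (.fuse [4,5,6,8,9,9,11,11,13,14,15] 1 [14,15,15] (.fuse [0,3,3,6,7,10,10,13,15] 2 [] (.prune [0,0,0,0,0,0,0,0,0,0,0,0,0,0,1,0])))))))) (.fuse [0] 1 [11,14,14] (.split (.split (.fuse [0,3,6,6,7,7,8,8,10,10,11,13,13]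 1 [14,14,15] (.split (.fuse [9,11,11,13,14,15] 1 [14,14] (.fuse [0,3,3,8,11,12,12,13,14,15,15] 1 [] (.prune [0,0,0,0,0,0,0,0,0,0,0,0,0,0,1,2]))) (.fuse [9,11,11,13,14,15] 1 [14,14] (.fuse [0,3,3,8,11,12,12,13,14,15,15] 1 [15,15] (.prune [0,0,0,0,0,0,0,0,0,0,0,0,0,0,1,2]))) (.fuse [9,11,11,13,14,15] 1 [14,14] (.fuse [0,3,3,8,11,12,12,13,14,15,15] 1 [15] (.prune [0,0,0,0,0,0,0,0,0,0,0,0,0,0,1,2]))))) (.fuse [3,6,7,8,8,10,11,12,12,13,13,14,14] 2 [] (.fuse [4,5,8,8,9,9,11,12,13,13,15,15] 1 [13,13] (.fuse [5,9,9,12,15,15] 2 [14,14,15] (.fuse [0,3,6,6,7,7,8,8,10,10,11,13,13] 2 [15] (.fuse [3,5,5,6,7,11,13,13,14,15,15] 1 [] (.leaf 613)))))) (.fuse [0,3,6,6,7,7,8,8,10,10,11,13,13] 2 [14,14,15] (.fuse [4,5,8,8,9,9,11,12,13,13,15,15] 2 [13] (.fuse [5,9,9,12,15,15] 1 [14,15,15]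 (.fuse [0,6,7,10,12,15,15] 2 [15,15] (.prune [0,0,0,0,0,0,0,0,0,0,0,0,0,0,2,1])))))) (.split (.fuse [0,3,6,6,7,7,8,8,10,10,11,13,13] 2 [14,14,15] (.fuse [3,6,7,8,8,10,11,12,12,13,13,14,14] 1 [13,13,14,15] (.fuse [3,6,6,7,8,8,10,11,11,12,14] 2 [15,15] (.fuse [3,6,6,7,8,8,9,10,11,11,12,15,15] 2 [15] (.prune [0,0,0,0,0,0,0,0,0,0,0,0,0,0,2,2]))))) (.fuse [0,3,6,6,7,7,8,8,10,10,11,13,13] 1 [14,14,15] (.fuse [3,6,7,8,8,10,11,12,12,13,13,14,14] 1 [13,13,14] (.fuse [4,5,6,8,8,9,9,11,11,12] 2 [15] (.fuse [4,6,8,8,11,11,12,15] 1 [] (.prune [0,0,0,0,0,0,0,0,0,0,0,0,0,0,1,0]))))) (.fuse [10,11,15,15] 2 [14,14,15] (.fuse [3,6,7,8,8,10,11,12,12,13,13,14,14] 1 [13,13,14,15,15] (.fuse [4,5,6,6,9,9,11,11,12,12,15,15] 1 [14,14,15,15] (.fuse [0,3,6,6,7,7,8,8,10,10,11,13,13] 2 [15] (.fuse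 [0,4,4,5,5,6,7,8,8,9,10,11,13,15] 2 [] (.prune [0,0,0,0,0,0,0,0,0,0,0,0,0,0,0,1]))))))) (.split (.fuse [3,6,7,8,8,10,11,12,12,13,13,14,14] 1 [12,12,13,14,14,15] (.fuse [3,6,7,8,8,10,10,11,11,12,12,13,13,14,14,15] 2 [13,14,15,15] (.fuse [3,6,6,7,8,8,10,10,12,14,15] 1 [15,15] (.fuse [0,3,6,6,7,7,8,8,10,10,11,13,13] 2 [15] (.fuse [3,4,5,6,6,7,8,9,10,10,11,11,12,12,13,13,15] 2 [] (.prune [0,0,0,0,0,0,0,0,0,0,0,0,0,0,0,2])))))) (.fuse [0,3,6,6,7,7,8,8,10,10,11,13,13] 2 [14,14,15] (.fuse [0,3,3,8,11,12,12,13,14,15,15] 2 [13,15,15] (.fuse [4,5,6,6,8,9,9,11,12,12] 2 [14,14,15] (.fuse [0,3,6,6,7,7,8,8,10,11,13,13,14,15,15] 1 [15,15] (.prune [0,0,0,0,0,0,0,0,0,0,0,0,0,0,2,0]))))) (.fuse [0,3,6,6,7,7,8,8,10,10,11,13,13] 1 [14,14,15] (.fuse [0,6,7,10,12,15,15] 1 [13,13,15,15] (.fuse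 [4,5,6,9,9,13,14,14,15] 1 [14] (.fuse [0,3,6,6,7,7,8,8,11,11,13,13,14,15,15] 1 [15,15] (.prune [0,0,0,0,0,0,0,0,0,0,0,0,0,0,1,1])))))))))

theorem cert32_ok : certOK leafVecs cert32 [2,0,0,0,0,0,0] = true := by decide +kernel

def cert33 : Cert := (.split (.fuse [3,6,6,7,7,10,10,11,13,13,15,15] 2 [] (.split (.split (.fuse [3,4,4,5,5,6,6,7,7,9,10,10,11,12,12,15] 2 [12,12,13,14,15,15] (.fuse [3,4,4,5,5,6,6,7,7,9,10,12,12,14] 2 [13,14,14,15] (.fuse [4,6,6,7,7,10,10,13,13,14,15,15] 2 [14,14,15,15] (.fuse [3,6,7,8,8,11,12,12,13,13,15,15] 2 [15] (.fuse [5,8,9,11,11,12,13,15] 2 [] (.leaf 614)))))) (.fuse [0] 2 [15] (.fuse [0,3,3,4,5,6,7,9,9,10,11,11,12] 2 [13,14,15] (.fuse [5,8,8,9,12,13,13,14,14,15] 2 [14,15,15] (.fuse [0,10,10,11,11,15] 1 [] (.prune [0,0,0,0,0,0,0,0,0,0,0,0,0,0,2,0])))))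 (.fuse [0] 1 [15,15] (.fuse [5,9,9,12,15,15] 1 [13,14] (.fuse [5,9,11,12,13,13,14,14,15] 1 [14,15] (.fuse [0,3,4,4,5,5,6,6,7,7,8,8,9,10,10,11,12,12,15,15] 1 [15,15] (.prune [0,0,0,0,0,0,0,0,0,0,0,0,0,0,1,0])))))) (.split (.fuse [10,11,15,15] 2 [14,14,15] (.fuse [3,4,4,5,5,6,6,7,7,9,10,10,11,12,12,15] 2 [13,14,15,15] (.fuse [4,5,5,6,6,7,7,8,8,9,10,10,11,12,12,13,15] 1 [15,15] (.fuse [3,4,5,8,8,9,9,11,11] 2 [15] (.fuse [3,4,5,9,9,11,14] 1 [] (.prune [0,0,0,0,0,0,0,0,0,0,0,0,0,0,0,2])))))) (.fuse [0] 2 [15] (.fuse [3,4,4,5,5,6,6,7,7,9,10,10,11,12,12,15] 1 [13,13,15] (.fuse [5,6,8,9,9,13,13,14,15,15] 2 [15] (.fuse [0,10,10,11,11,14,14,15] 1 [] (.prune [0,0,0,0,0,0,0,0,0,0,0,0,0,0,2,2]))))) (.fuse [0] 1 [15,15] (.fuse [4,5,6,6,7,7,8,9,9,10,10,11,11,13,13,15] 1 [13,13,14,14,15,15]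 (.fuse [4,6,6,7,7,8,10,10,11,11,12,15,15] 1 [14,15,15] (.fuse [0,10,14] 1 [] (.prune [0,0,0,0,0,0,0,0,0,0,0,0,0,0,1,2])))))) (.split (.fuse [3,4,4,5,5,6,6,7,7,9,10,10,11,12,12,15] 1 [12,12,13,14,15,15] (.fuse [3,4,4,5,5,6,6,7,7,9,11,11,12,13,14,15] 2 [13,14,15] (.fuse [3,4,4,6,6,7,7,8,11,14,15] 1 [14,14,15,15] (.fuse [4,5,6,6,7,7,8,9,9,10,10,11,11,13,13,15] 2 [] (.fuse [4,5,5,6,7,7,8,8,9,10,10,12,14,15] 1 [] (.prune [0,0,0,0,0,0,0,0,0,0,0,0,0,0,0,1])))))) (.fuse [0] 2 [15] (.fuse [0,3,4,4,5,5,6,6,7,7,8,8,9,10,10,11,12,12,15,15] 1 [13,13,15,15] (.fuse [5,6,6,9,9,11,11,12,12,14,14,15] 2 [14,15] (.fuse [3,4,5,8,9,9,10,11,12,13,13,15,15] 1 [] (.prune [0,0,0,0,0,0,0,0,0,0,0,0,0,0,2,1]))))) (.fuse [0] 1 [15,15] (.fuse [4,5,6,6,7,7,8,9,9,10,10,11,11,13,13,15] 2 [13,14,14,15]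 (.fuse [4,5,5,6,6,7,7,8,9,10,10,11,11,14,14] 2 [14,14] (.fuse [0,3,3,4,5,6,7,9,9,10,11,11,12] 1 [15,15] (.prune [0,0,0,0,0,0,0,0,0,0,0,0,0,0,1,1])))))))) (.fuse [0] 2 [11,11,14,15,15] (.split (.split (.fuse [0,3,3,6,7,10,11,11,13,15] 2 [14,15,15] (.fuse [0,3,4,5,6,6,7,7,8,8,9,9,10,10,11,12,13] 1 [13,13,14,15,15] (.fuse [4,6,6,7,7,8,8,10,10,11,12,12,13,13,14,14] 2 [15,15] (.fuse [0,3,3,6,7,11,13,15,15] 2 [15] (.prune [0,0,0,0,0,0,0,0,0,0,0,0,0,0,2,2]))))) (.fuse [0,3,3,6,7,10,11,11,13,15] 1 [14] (.fuse [0,4,4,5,5,8,9,11,11,12,12,13,15,15] 1 [13,13,15,15] (.split (.fuse [0,3,3,6,7,10,10,11,11,13,14,14] 2 [] (.prune [0,0,0,0,0,0,0,0,0,0,0,0,0,0,1,1])) (.fuse [4,5,5,6,6,7,7,8,9,10,10,11,11,12,12,13,14,14] 1 [15,15] (.prune [0,0,0,0,0,0,0,0,0,0,0,0,0,0,1,1])) (.fuse [0,3,3,6,7,10,10,11,11,13,14,14]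 1 [15,15] (.prune [0,0,0,0,0,0,0,0,0,0,0,0,0,0,1,1]))))) (.fuse [3,4,4,5,5,6,6,7,7,9,10,10,11,11,12,12,14,15] 2 [] (.fuse [5,9,9,12,15,15] 1 [13,14] (.fuse [5,9,11,12,13,13,14,14,15] 2 [15] (.fuse [0,3,3,6,7,10,11,11,13,15] 1 [15] (.fuse [0,3,4,5,6,6,7,7,8,8,9,9,11,11,12,12,14] 2 [] (.leaf 615))))))) (.split (.fuse [0,3,3,6,7,10,11,11,13,15] 1 [14,14,15] (.fuse [3,4,4,5,5,6,6,7,7,9,10,10,11,11,12,12,14,15] 2 [13,14,14,15,15] (.fuse [4,5,5,6,6,7,7,8,8,9,10,10,11,12,12,13,15,15] 1 [15] (.fuse [4,5,5,7,7,9,9,10,10,11,12,13,13,14,14] 1 [] (.prune [0,0,0,0,0,0,0,0,0,0,0,0,0,0,1,1]))))) (.fuse [10,11,15,15] 2 [14,14,15] (.fuse [3,4,4,5,5,6,6,7,7,9,10,10,11,11,12,12,14,15] 1 [13,13,14,15] (.fuse [5,6,8,9,9,13,13,14,14] 2 [15,15] (.fuse [0,3,3,6,7,10,11,11,13,15] 2 [15,15] (.fuse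 [4,5,5,6,6,7,7,10,10,11,11,12,12,14,14,15] 2 [] (.leaf 616)))))) (.fuse [0,3,3,6,7,10,11,11,13,15] 2 [14,14] (.fuse [4,5,6,6,7,7,8,9,9,10,10,11,11,13,13,14,15,15] 1 [13,13,14,14,15] (.fuse [4,6,6,7,7,8,10,10,11,11,12,14] 1 [14,15] (.fuse [5,6,6,11,13,13,14,14] 2 [15] (.prune [0,0,0,0,0,0,0,0,0,0,0,0,0,0,2,2])))))) (.split (.fuse [3,4,4,5,5,6,6,7,7,9,10,10,11,11,12,12,14,15] 1 [12,12,13,14,14,15,15] (.fuse [3,4,4,5,5,6,6,7,7,9,12,13,14,14,15] 2 [13,14,14,15] (.fuse [3,4,4,6,6,7,7,8,11,11,14,14,15] 1 [15,15] (.fuse [3,4,4,6,7,7,9,11,11,12,12,13,13,14] 2 [15] (.fuse [3,4,5,5,6,6,8,9,9,10,11,12,13,13,14,14,15] 2 [] (.leaf 617)))))) (.fuse [0,3,3,6,7,10,11,11,13,15] 2 [15] (.fuse [0,4,4,5,5,8,9,11,11,12,12,13,15,15] 1 [13,13,14,15,15] (.fuse [5,6,6,8,9,9,11,12,12,14,14,15]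 2 [14,15] (.fuse [3,4,5,8,8,9,9,10,11,12,13,13,14,15,15] 2 [15,15] (.prune [0,0,0,0,0,0,0,0,0,0,0,0,0,0,2,2]))))) (.fuse [0,3,3,6,7,10,11,11,13,15] 1 [15,15] (.fuse [4,5,6,6,7,7,8,9,9,10,10,11,11,13,13,14,15,15] 2 [13,14,14] (.fuse [4,5,5,6,6,7,7,8,9,10,10,11,11,15] 2 [14,14,15,15] (.fuse [3,4,4,5,5,6,6,7,7,9,11,11,12,12,14,15] 1 [] (.prune [0,0,0,0,0,0,0,0,0,0,0,0,0,0,1,1])))))))) (.fuse [0] 1 [11,14,14] (.split (.split (.fuse [0,3,6,6,7,7,8,8,10,10,11,13,13] 1 [14,14,15] (.fuse [0,3,3,4,4,5,5,6,7,9,10,11,11,12,12,13,13,14,15] 2 [13,14,15,15] (.fuse [4,6,6,7,7,10,10,12,12,13,13,14,15] 2 [14,14,15] (.fuse [3,6,7,8,8,12,12,13,13,14] 1 [15] (.prune [0,0,0,0,0,0,0,0,0,0,0,0,0,0,1,2]))))) (.fuse [3,4,4,5,5,6,6,7,7,8,9,10,10,11,11,12,12] 2 [12,13,13,14,15] (.fuse [3,4,4,5,5,6,6,7,7,8,9,10,11,12,12,14,15,15]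 1 [13,13,14,14] (.fuse [5,8,8,9,12,14,15] 1 [15] (.fuse [0,3,6,6,7,7,8,8,10,10,11,13,13] 2 [15] (.fuse [0,3,3,8,10,10,11,12,12,13,14,15,15] 1 [] (.leaf 618)))))) (.fuse [0,3,6,6,7,7,8,8,10,10,11,13,13] 2 [14,14,15] (.fuse [5,9,9,12,15,15] 1 [13,14] (.split (.fuse [0,4,5,8,8,9,9,11,12,13,13,14,14,15] 2 [] (.prune [0,0,0,0,0,0,0,0,0,0,0,0,0,0,2,1])) (.fuse [3,4,4,5,5,6,6,7,7,9,10,11,11,13,13,14,14] 1 [15,15] (.prune [0,0,0,0,0,0,0,0,0,0,0,0,0,0,2,1])) (.fuse [0,4,5,8,8,9,9,11,12,13,13,14,14,15] 1 [] (.prune [0,0,0,0,0,0,0,0,0,0,0,0,0,0,2,1])))))) (.split (.fuse [0,3,6,6,7,7,8,8,10,10,11,13,13] 2 [14,14,15] (.fuse [3,4,4,5,5,6,6,7,7,8,9,10,10,11,11,12,12] 2 [13,14,15] (.fuse [4,5,5,6,6,7,7,8,9,10,10,11,11,12,12,13,14] 1 [14,14] (.fuse [12,13,14,14] 1 [15,15] (.prune [0,0,0,0,0,0,0,0,0,0,0,0,0,0,2,1])))))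 (.fuse [0,3,6,6,7,7,8,8,10,10,11,13,13] 1 [14,14,15] (.fuse [3,4,4,5,5,6,6,7,7,8,9,10,10,11,11,12,12] 1 [13,13,15] (.fuse [5,6,8,9,9,13,13] 2 [] (.fuse [3,4,4,5,6,6,7,7,8,9,9,10,10,11,11,13,15,15] 1 [15,15] (.prune [0,0,0,0,0,0,0,0,0,0,0,0,0,0,1,2]))))) (.fuse [10,11,15,15] 2 [14,14,15] (.fuse [4,5,6,6,7,7,9,9,10,10,13,13] 1 [13,13,14,15] (.fuse [4,6,6,7,7,10,10,12,14,14,15] 1 [15] (.fuse [0,3,6,6,7,7,8,8,10,10,11,13,13] 2 [15] (.fuse [3,4,6,11,11] 2 [] (.leaf 619))))))) (.split (.fuse [3,4,4,5,5,6,6,7,7,8,9,10,10,11,11,12,12] 1 [12,12,13,15] (.fuse [3,4,4,5,5,6,6,7,7,8,9,12,13,14,15] 2 [13] (.fuse [3,4,4,6,6,7,7,8,8,11,11,14,14,15] 1 [14,15] (.fuse [0,3,6,6,7,7,8,8,10,10,11,13,13] 2 [15] (.fuse [0,3,3,4,4,6,6,7,8,9,9,10,10,14,14,15] 1 [] (.leaf 620)))))) (.fuse [0,3,6,6,7,7,8,8,10,10,11,13,13]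 2 [14,14,15] (.fuse [0,3,3,4,4,5,5,6,7,9,10,11,11,12,12,13,13,14,15] 1 [13,13,14,15,15] (.fuse [5,6,6,8,8,9,9,12,12,14] 2 [14,15] (.fuse [0,3,6,6,7,7,10,12,12,14,15,15] 2 [15] (.prune [0,0,0,0,0,0,0,0,0,0,0,0,0,0,2,1]))))) (.fuse [0,3,6,6,7,7,8,8,10,10,11,13,13] 1 [14,14,15] (.fuse [4,5,6,6,7,7,9,9,10,10,13,13] 2 [13,14,14] (.fuse [4,5,5,6,6,7,7,9,10,10,14,15,15] 2 [14,14,15,15] (.fuse [0,4,5,8,8,9,9,11,12,13,13,14,14,15] 1 [] (.prune [0,0,0,0,0,0,0,0,0,0,0,0,0,0,1,2])))))))))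

theorem cert33_ok : certOK leafVecs cert33 [2,0,0,0,0,0,1] = true := by decide +kernel

def cert34 : Cert := (.split (.fuse [3,6,6,7,7,10,10,11,13,13,15,15] 2 [] (.split (.split (.fuse [3,4,5,6,6,7,7,8,9,9,10,10,12,13] 2 [12,12,13,14] (.fuse [3,4,5,6,6,7,7,8,9,9,10,11,11,12,13,14] 2 [13,14,14,15,15] (.fuse [4,6,7,8,10,11,11,12,13,15] 1 [15] (.fuse [3,6,7,8,8,11,12,12,13,13] 2 [15,15] (.fuse [5,8,8,9,12,15] 1 [] (.leaf 621)))))) (.fuse [0] 2 [15] (.fuse [5,9,9,12,15,15] 2 [13,13,14,14,15] (.fuse [5,9,11,12,13,13,14,14,15] 2 [14,14,15,15] (.fuse [0,3,3,4,4,5,5,6,7,8,8,9,10,12,12,13,13,14,14,15] 2 [15] (.prune [0,0,0,0,0,0,0,0,0,0,0,0,0,0,2,0]))))) (.fuse [0] 1 [15,15] (.fuse [0,3,4,5,6,6,7,7,9,9,10,10,12,13,14,14,15] 1 [13,13,14,14,15,15] (.fuse [5,8,9,11,11,12,13,13,14,14,15,15]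 1 [14,14,15,15] (.fuse [0,10,14,14] 1 [] (.prune [0,0,0,0,0,0,0,0,0,0,0,0,0,0,1,0])))))) (.split (.fuse [10,11,15,15] 2 [14,14,15] (.fuse [3,4,5,6,6,7,7,8,9,9,10,10,12,13] 2 [13,14] (.fuse [4,5,5,6,7,8,8,9,10,11,13,13,14] 2 [14] (.fuse [3,4,4,5,5,8,8,9,11,11,12,13,13] 2 [15] (.fuse [3,4,4,6,6] 1 [] (.prune [0,0,0,0,0,0,0,0,0,0,0,0,0,0,0,2])))))) (.fuse [0] 2 [15] (.fuse [4,5,6,7,9,9,10,13] 2 [13,14,14,15] (.fuse [4,6,7,10,14] 2 [] (.fuse [0,10,10,11,11,14,14,15] 1 [] (.prune [0,0,0,0,0,0,0,0,0,0,0,0,0,0,2,2]))))) (.fuse [0] 1 [15,15] (.fuse [3,4,5,6,6,7,7,8,9,9,10,10,12,13] 1 [13,13,14] (.fuse [5,6,6,8,8,9,9,12,12,14,14,15] 1 [14,14,15] (.fuse [0,10,14] 1 [] (.prune [0,0,0,0,0,0,0,0,0,0,0,0,0,0,1,2])))))) (.split (.fuse [3,4,5,6,6,7,7,8,9,9,10,10,12,13] 1 [12,12,13,14]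 (.fuse [3,4,5,6,6,7,7,8,9,9,11,12,12,14,15] 2 [13,14,14,15,15] (.fuse [3,4,6,6,7,7,8,11,13,13,14] 1 [14,14,15,15] (.fuse [4,5,6,7,9,9,10,13] 1 [] (.fuse [4,7,8,10,11,12,14,15,15] 2 [] (.prune [0,0,0,0,0,0,0,0,0,0,0,0,0,0,0,1])))))) (.fuse [0] 2 [15] (.fuse [4,5,6,7,9,9,10,13] 1 [13,13,14,15] (.fuse [4,5,5,6,7,9,10,12,12] 1 [14,15] (.fuse [0,3,4,5,6,6,7,7,9,9,10,10,12,13,14,14,15] 2 [15] (.prune [0,0,0,0,0,0,0,0,0,0,0,0,0,0,2,1]))))) (.fuse [0] 1 [15,15] (.fuse [0,3,3,4,4,5,5,6,7,8,8,9,10,12,12,13,13,14,14,15] 2 [13,14] (.fuse [5,6,9,9,12,12,14] 1 [14] (.fuse [6,8,8,9,11,12,12,13,14] 1 [15] (.prune [0,0,0,0,0,0,0,0,0,0,0,0,0,0,1,1])))))))) (.fuse [0] 2 [11,11,14,15,15] (.split (.split (.fuse [0,3,3,6,7,10,11,11,13,15] 2 [14,15,15] (.fuse [0,3,4,4,5,5,6,6,7,7,8,9,10,10,12,12,15,15]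 1 [13,13,15,15] (.fuse [4,6,7,8,8,10,12,12,13,15,15] 1 [14,15,15] (.fuse [0,3,3,6,7,11,13,15,15] 2 [15] (.prune [0,0,0,0,0,0,0,0,0,0,0,0,0,0,2,2]))))) (.fuse [0,3,3,6,7,10,11,11,13,15] 1 [14] (.fuse [5,9,9,12,15,15] 2 [13,13,14,14,15] (.split (.fuse [0,4,5,9,9,11,11,12,13,13,14,14] 2 [] (.prune [0,0,0,0,0,0,0,0,0,0,0,0,0,0,1,1])) (.fuse [5,9,11,12,13,13,14,14,15] 1 [15,15] (.prune [0,0,0,0,0,0,0,0,0,0,0,0,0,0,1,1])) (.fuse [0,4,5,9,9,11,11,12,13,13,14,14] 1 [] (.prune [0,0,0,0,0,0,0,0,0,0,0,0,0,0,1,1]))))) (.fuse [3,4,5,6,6,7,7,9,9,10,10,11,12,13,14,14,15] 2 [12,13,13,14,14] (.fuse [3,4,5,6,6,7,7,9,9,10,12,13,15] 1 [13,13,15,15] (.fuse [5,8,9,11,11,12,13,14,15] 2 [15] (.fuse [0,3,3,6,7,10,11,11,13,15] 1 [15] (.fuse [0,3,3,4,5,5,6,6,7,7,8,8,9,10,10,11,11,12,12,15] 2 []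 (.leaf 622))))))) (.split (.fuse [0,3,3,6,7,10,11,11,13,15] 1 [14,14,15] (.fuse [3,4,5,6,6,7,7,9,9,10,10,11,12,13,14,14,15] 2 [13,15,15] (.fuse [4,5,5,6,7,8,9,10,11,13,13] 2 [14,14] (.fuse [3,4,4,5,5,9,12,13,13,14,15] 2 [] (.prune [0,0,0,0,0,0,0,0,0,0,0,0,0,0,1,1]))))) (.fuse [10,11,15,15] 2 [14,14,15] (.fuse [4,5,6,7,8,8,9,9,10,13] 2 [13] (.fuse [4,6,7,8,8,10,14] 2 [14,15,15] (.fuse [0,3,3,6,7,10,11,11,13,15] 2 [15,15] (.fuse [0,3,3,4,5,5,7,7,8,8,9,10,10,12,13] 1 [] (.leaf 623)))))) (.fuse [0,3,3,6,7,10,11,11,13,15] 2 [14,14] (.fuse [3,4,5,6,6,7,7,9,9,10,10,11,12,13,14,14,15] 1 [13,13] (.fuse [5,6,6,8,8,9,9,12,12,14,14] 1 [14,14] (.fuse [3,4,5,5,6,6,7,7,8,9,10,10,15] 2 [15] (.prune [0,0,0,0,0,0,0,0,0,0,0,0,0,0,2,2])))))) (.split (.fuse [3,4,5,6,6,7,7,9,9,10,10,11,12,13,14,14,15]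 1 [12,12,13,14,15,15] (.fuse [3,4,5,6,6,7,7,9,9,11,11,12,12,15] 2 [13,14,14,15] (.fuse [3,4,6,6,7,7,11,11,13,13,14,14] 1 [14,14,15] (.fuse [3,4,7,7,8,8,9,12,12,15] 1 [15,15] (.fuse [5,6,9,9,12,12,14] 1 [] (.leaf 624)))))) (.fuse [0,3,3,6,7,10,11,11,13,15] 2 [15] (.fuse [4,5,6,7,8,8,9,9,10,13] 1 [13,13] (.fuse [4,5,5,6,7,8,8,9,10,12,12,14,14] 1 [] (.fuse [0,4,5,9,9,11,11,12,13,13,14,14] 2 [] (.prune [0,0,0,0,0,0,0,0,0,0,0,0,0,0,2,2]))))) (.fuse [0,3,3,6,7,10,11,11,13,15] 1 [15,15] (.fuse [0,3,4,4,5,5,6,6,7,7,8,9,10,10,12,12,15,15] 2 [13,14] (.fuse [5,6,8,8,9,9,11,12,12,14,14,15] 1 [14,15] (.fuse [3,4,4,5,5,8,8,9,10,11,12,12,13,14,15,15] 2 [15] (.prune [0,0,0,0,0,0,0,0,0,0,0,0,0,0,1,1])))))))) (.fuse [0] 1 [11,14,14] (.split (.split (.fuse [0,3,6,6,7,7,8,8,10,10,11,13,13]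 1 [14,14,15] (.fuse [0,3,3,4,5,6,7,9,9,10,12,14,15] 2 [13,14,15,15] (.fuse [4,6,7,8,10,12,12,13] 1 [14] (.fuse [3,6,7,8,8,12,14,14,15] 2 [15] (.prune [0,0,0,0,0,0,0,0,0,0,0,0,0,0,1,2]))))) (.fuse [3,4,5,6,6,7,7,9,9,10,10,11,12,13,14,14,15] 2 [14,14] (.fuse [5,9,9,12,15,15] 2 [13,13,14,14,15] (.fuse [5,9,11,12,13,13,14,14,15] 1 [15,15] (.fuse [0,3,6,6,7,7,8,8,10,10,11,13,13] 2 [15] (.fuse [3,4,5,6,6,7,7,9,9,10,12,13,15] 2 [] (.leaf 625)))))) (.fuse [0,3,6,6,7,7,8,8,10,10,11,13,13] 2 [14,14,15] (.fuse [0,4,4,5,5,8,9,11,12,12,13] 2 [13,14,14] (.split (.fuse [3,6,7,8,8,12,14,14,15] 2 [15,15] (.prune [0,0,0,0,0,0,0,0,0,0,0,0,0,0,2,1])) (.fuse [0,3,6,6,7,7,8,8,10,13,13,15] 1 [15,15] (.prune [0,0,0,0,0,0,0,0,0,0,0,0,0,0,2,1])) (.fuse [0,3,6,6,7,7,8,8,10,13,13,15] 2 [15] (.prune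 [0,0,0,0,0,0,0,0,0,0,0,0,0,0,2,1])))))) (.split (.fuse [0,3,6,6,7,7,8,8,10,10,11,13,13] 2 [14,14,15] (.fuse [3,4,5,6,6,7,7,9,9,10,10,11,12,13,14,14,15] 2 [13,15] (.fuse [4,5,5,6,7,8,9,10,13,13,14,15] 2 [14,15] (.fuse [3,4,4,5,5,9,11,11,12,13,13,14,14] 1 [] (.prune [0,0,0,0,0,0,0,0,0,0,0,0,0,0,2,1]))))) (.fuse [0,3,6,6,7,7,8,8,10,10,11,13,13] 1 [14,14,15] (.fuse [4,5,6,7,8,8,9,9,10,11,11,13,14,14,15] 2 [13,14,14,15] (.fuse [4,6,7,8,8,10,11,11,14,15] 2 [] (.fuse [8,11,11,12] 1 [15,15] (.prune [0,0,0,0,0,0,0,0,0,0,0,0,0,0,1,2]))))) (.fuse [10,11,15,15] 2 [14,14,15] (.fuse [3,4,5,6,6,7,7,9,9,10,10,11,12,13,14,14,15] 1 [13,13,15,15] (.fuse [5,6,6,8,8,9,9,12,12,14] 1 [14,14,15,15] (.fuse [0,3,6,6,7,7,8,8,10,10,11,13,13] 2 [15] (.fuse [0,4,4,5,8,9,9,11,12,13,14,14,15] 1 []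 (.leaf 626))))))) (.split (.fuse [3,4,5,6,6,7,7,9,9,10,10,11,12,13,14,14,15] 1 [12,12,13,14,15] (.fuse [3,4,5,6,6,7,7,9,9,11,11,12,12,15] 2 [13,14,14] (.fuse [3,4,6,6,7,7,11,11,13,13,14,14] 1 [14,14] (.fuse [0,3,6,6,7,7,8,8,10,10,11,13,13] 2 [15] (.fuse [0,4,4,6,8,9,10,10,11,12,12,13,14,14] 1 [] (.leaf 627)))))) (.fuse [0,3,6,6,7,7,8,8,10,10,11,13,13] 2 [14,14,15] (.fuse [4,5,6,7,8,8,9,9,10,11,11,13,14,14,15] 1 [13,13,14,14,15] (.fuse [4,5,5,6,7,8,8,9,10,11,11,12,12,14,15] 1 [14,14,15] (.fuse [0,3,3,4,5,6,7,9,9,10,12,14,15] 1 [] (.prune [0,0,0,0,0,0,0,0,0,0,0,0,0,0,2,1]))))) (.fuse [0,3,6,6,7,7,8,8,10,10,11,13,13] 1 [14,14,15] (.fuse [0,4,4,5,5,8,9,11,12,12,13] 2 [13] (.fuse [5,6,8,9,9,11,11,12,12,14] 1 [14,15,15] (.fuse [0,3,6,6,7,7,8,8,11,11,12,12,14,14,15] 2 [15]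 (.prune [0,0,0,0,0,0,0,0,0,0,0,0,0,0,1,2])))))))))

theorem cert34_ok : certOK leafVecs cert34 [2,0,0,0,0,0,2] = true := by decide +kernel

def cert35 : Cert := (.split (.fuse [6,7,8,10,11,11,12,14,15] 2 [11,12,13,13,14,15] (.split (.split (.fuse [10,11,15,15] 2 [13,14] (.fuse [6,11,12,12,13] 1 [14,15,15] (.split (.fuse [4,5,8,8,9,9,11,12,13,13,15,15] 2 [] (.split (.leaf 628) (.leaf 629) (.leaf 630))) (.fuse [0] 1 [] (.fuse [3,6,6,7,7,10,10,11,13,13,15,15] 2 [] (.leaf 631))) (.fuse [0] 2 [] (.fuse [3,6,6,7,7,10,10,11,13,13,15,15] 1 [] (.leaf 632)))))) (.fuse [0] 2 [15] (.fuse [4,5,8,8,9,9,11,12,13,13,15,15] 1 [13,13,14,14] (.fuse [0,10,10,11,11,14,14,15] 2 [14,14,15] (.fuse [0,4,4,5,5,6,8,8,9,10,10,11,13,13,14,14,15] 1 [] (.prune [0,0,0,0,0,0,0,0,0,0,0,0,0,0,1,0])))))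 (.fuse [0] 1 [15,15] (.fuse [4,5,8,8,9,9,11,12,13,13,15,15] 2 [13,14,14] (.fuse [0,10,14] 1 [14,15,15] (.fuse [0,4,4,5,5,6,6,8,9,10,11,13,14,15] 2 [] (.prune [0,0,0,0,0,0,0,0,0,0,0,0,0,0,2,0])))))) (.split (.fuse [3,6,6,7,7,10,10,11,13,13,15,15] 1 [14,14] (.split (.fuse [3,6,6,7,7,11,11,13,13,15,15] 1 [] (.fuse [6,11,12,12,13] 1 [] (.split (.leaf 633) (.leaf 634) (.leaf 635)))) (.fuse [3,6,6,7,7,11,11,13,13,15,15] 1 [] (.fuse [4,5,8,8,9,9,11,12,13,13,15,15] 2 [] (.fuse [4,5,6,8,9,9,12,12,13,13] 1 [] (.leaf 636)))) (.fuse [3,6,6,7,7,11,11,13,13,15,15] 1 [] (.fuse [4,5,8,8,9,9,11,12,13,13,15,15] 1 [] (.fuse [4,5,6,6,8,8,9,9,12,13,14] 1 [] (.leaf 637)))))) (.fuse [0] 2 [15] (.fuse [4,5,8,8,9,9,11,12,13,13,15,15] 1 [13,13] (.fuse [3,6,6,7,7,13,13,14] 1 [15,15] (.fuse [3,5,6,6,7,7,8,9,9,11,11,12,12,13]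 2 [15] (.prune [0,0,0,0,0,0,0,0,0,0,0,0,0,0,1,0]))))) (.fuse [0] 1 [15,15] (.fuse [4,5,8,8,9,9,11,12,13,13,15,15] 2 [13] (.fuse [3,6,6,7,7,11,13,13,14,15,15] 1 [15] (.fuse [0,3,3,6,7,10,11,11,13,15] 1 [15] (.prune [0,0,0,0,0,0,0,0,0,0,0,0,0,0,2,0])))))) (.split (.fuse [3,6,6,7,7,10,10,11,13,13,15,15] 2 [14] (.fuse [6,11,12,12,13] 2 [14,15] (.fuse [3,6,6,7,7,10,13,13] 2 [] (.fuse [4,5,8,8,9,9,11,12,13,13,15,15] 1 [] (.split (.leaf 638) (.leaf 639) (.leaf 640)))))) (.fuse [0] 2 [15] (.fuse [4,5,8,8,9,9,11,12,13,13,15,15] 1 [13,13,14] (.fuse [3,6,6,7,7,8,10,11,11,13,13,14,14,15,15] 2 [14] (.fuse [0,3,3,6,7,10,11,11,13,15] 2 [15,15] (.prune [0,0,0,0,0,0,0,0,0,0,0,0,0,0,1,0]))))) (.fuse [0] 1 [15,15] (.fuse [4,5,8,8,9,9,11,12,13,13,15,15] 2 [13,14] (.fuse [3,6,6,7,7,8,8,10,11,13,13,14,14,15,15]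 2 [14,14,15,15] (.fuse [3,4,5,6,7,7,9,9,10,11,11,12,14,14] 2 [] (.prune [0,0,0,0,0,0,0,0,0,0,0,0,0,0,2,0])))))))) (.fuse [0] 2 [11,11,14,15,15] (.split (.split (.fuse [0,6,6,7,7,8,8,10,10,11,12,12,15] 1 [12,12,13,15,15] (.fuse [0,6,6,7,7,8,8,11,12,12,14,15] 2 [13,13,14,15] (.fuse [0,7,7,8,8,11,11,12,13,15,15] 2 [14,14] (.fuse [4,5,8,8,9,9,11,12,13,13,15,15] 2 [] (.prune [0,0,0,0,0,0,0,0,0,0,0,0,0,0,1,2]))))) (.fuse [10,11,15,15] 2 [13,14] (.fuse [0,6,6,7,7,8,8,10,10,11,12,12,15] 2 [13,15,15] (.fuse [4,5,6,6,8,8,9,9,12,12,14,14,15] 2 [] (.fuse [0,4,5,6,6,7,7,8,9,9,10,10,11,11,12,12,14] 1 [15] (.prune [0,0,0,0,0,0,0,0,0,0,0,0,0,0,2,1]))))) (.fuse [0,6,6,7,7,8,8,10,10,11,12,12,15] 2 [12,12,13,15,15] (.fuse [0,6,6,7,7,8,8,10,12,12,14] 2 [14,14,15,15] (.fuse [0,4,4,5,5,6,6,7,7,8,8,9,10,12,12,14,15,15]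 2 [15,15] (.fuse [0,7,7,8,8,10,11,13,13] 1 [15] (.fuse [0,4,6,7,7,8,10,13,13,15] 1 [] (.leaf 641))))))) (.split (.fuse [0,6,6,7,7,8,8,10,10,11,12,12,15] 1 [14,14,15] (.split (.fuse [3,6,6,7,7,11,13,13,14] 1 [] (.fuse [3,6,6,7,7,9,11,14,15] 2 [15] (.fuse [3,7,7,9,11,11,12,12,13,14,15] 2 [] (.prune [0,0,0,0,0,0,0,0,0,0,0,0,0,0,0,2])))) (.fuse [3,6,6,7,7,11,13,13,14] 1 [] (.fuse [3,6,6,7,7,9,11,14,15] 2 [15] (.fuse [0,3,3,8,8,12,12,13,14,14,15,15] 2 [] (.prune [0,0,0,0,0,0,0,0,0,0,0,0,0,0,0,2])))) (.fuse [3,6,6,7,7,11,13,13,14] 1 [] (.fuse [3,6,6,7,7,9,11,14,15] 2 [15] (.fuse [0,3,3,8,8,12,12,13,14,14,15,15] 1 [] (.prune [0,0,0,0,0,0,0,0,0,0,0,0,0,0,0,2])))))) (.fuse [3,6,6,7,7,10,10,11,13,13,15,15] 1 [14,14] (.fuse [4,5,8,8,9,9,11,12,13,13,15,15] 1 [13,13] (.fuse [3,6,6,7,7,11,11,13,13,15,15]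 1 [] (.fuse [0,6,6,7,7,8,8,10,10,11,12,12,15] 2 [15] (.prune [0,0,0,0,0,0,0,0,0,0,0,0,0,0,1,1]))))) (.fuse [0,6,6,7,7,8,8,10,10,11,12,12,15] 2 [14,14,15] (.fuse [4,5,8,8,9,9,11,12,13,13,15,15] 2 [13] (.fuse [3,6,6,7,7,13,13,15] 1 [] (.fuse [0,3,6,7,8,10,11,11,12,12,13,13,15] 2 [15] (.prune [0,0,0,0,0,0,0,0,0,0,0,0,0,0,2,0])))))) (.split (.fuse [0,6,6,7,7,8,8,10,10,11,12,12,15] 1 [12,13,13,14] (.fuse [0,3,6,7,8,10,11,11,12,12,13,13,15] 1 [13,13,14] (.fuse [0,3,6,6,7,8,10,12,14,14] 2 [14,14] (.fuse [4,5,8,8,9,9,11,12,13,13,15,15] 1 [] (.prune [0,0,0,0,0,0,0,0,0,0,0,0,0,0,2,2]))))) (.fuse [3,6,6,7,7,10,10,11,13,13,15,15] 2 [14] (.fuse [0,6,6,7,7,8,8,10,10,11,12,12,15] 1 [13,13,14] (.fuse [3,6,6,7,7,10,13,13] 2 [] (.fuse [3,4,4,5,5,6,7,7,8,8,9,10,14,14,15] 1 [] (.fuse [4,6,8,8,11,11,12,14,15]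 2 [] (.prune [0,0,0,0,0,0,0,0,0,0,0,0,0,0,0,1])))))) (.fuse [0,6,6,7,7,8,8,10,10,11,12,12,15] 2 [12,13,13,14] (.fuse [0,3,3,8,8,12,12,13,14,14,15,15] 1 [13,13] (.fuse [3,6,6,7,7,8,10,11,11,13,13,14] 2 [14,15] (.fuse [0,3,3,4,5,8,8,9,9,12,12,13] 2 [15,15] (.prune [0,0,0,0,0,0,0,0,0,0,0,0,0,0,1,0])))))))) (.fuse [0] 1 [11,14,14] (.split (.split (.fuse [0,6,7,10,12,14,15] 2 [12,13,13] (.fuse [0,6,7,11,11,12,14,15,15] 1 [13,14,14] (.fuse [0,7,11,12,12,13,13,14,14] 1 [14,15,15] (.fuse [0,7,9,9,11,11,12,12,13,14] 1 [15,15] (.prune [0,0,0,0,0,0,0,0,0,0,0,0,0,0,2,2]))))) (.fuse [0,6,7,10,12,14,15] 1 [12,13,13,15] (.fuse [0,6,7,10,10,12,14,14] 1 [14,15,15] (.fuse [0,4,4,5,5,6,7,8,8,9,10,10,11,12,12,13,13] 1 [14,14,15,15] (.fuse [5,11,11,12,14,15,15] 1 [15] (.fuse [0,7,10,10,11,11,12,12,13,13,14,14,15]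 1 [] (.leaf 642)))))) (.fuse [10,11,15,15] 2 [13,14] (.fuse [0,6,7,10,12,14,15] 1 [13,13,15,15] (.fuse [4,5,6,8,8,9,9,11,11,12,15,15] 1 [] (.fuse [4,6,8,8,11,11,12] 2 [15] (.prune [0,0,0,0,0,0,0,0,0,0,0,0,0,0,1,1])))))) (.split (.fuse [0,6,7,10,12,14,15] 2 [14,14] (.split (.fuse [3,6,6,7,7,13,13,14,14,15] 1 [15] (.fuse [0,3,8,8,11,12,13,13,14,15,15] 2 [15] (.fuse [3,6,6,7,7,9,9,11,13,14,15,15] 1 [] (.prune [0,0,0,0,0,0,0,0,0,0,0,0,0,0,0,2])))) (.fuse [3,6,6,7,7,13,13,14,14,15] 1 [15] (.fuse [0,3,8,8,11,12,13,13,14,15,15] 2 [15,15] (.fuse [0,3,4,4,5,5,9,14,14] 2 [] (.prune [0,0,0,0,0,0,0,0,0,0,0,0,0,0,0,2])))) (.fuse [3,6,6,7,7,13,13,14,14,15] 1 [15] (.fuse [0,3,8,8,11,12,13,13,14,15,15] 2 [] (.fuse [3,6,6,7,7,9,9,11,13,14,15,15] 1 [] (.prune [0,0,0,0,0,0,0,0,0,0,0,0,0,0,0,2]))))))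 (.fuse [0,6,7,10,12,14,15] 1 [14,14,15] (.fuse [4,5,8,8,9,9,11,12,13,13,15,15] 1 [13,13] (.fuse [3,6,6,7,7,11,13,13,14] 1 [15,15] (.fuse [3,5,6,6,7,7,8,9,9,12,12,13] 2 [15] (.prune [0,0,0,0,0,0,0,0,0,0,0,0,0,0,1,0]))))) (.fuse [3,6,6,7,7,10,10,11,13,13,15,15] 1 [14,14] (.fuse [4,5,8,8,9,9,11,12,13,13,15,15] 2 [13] (.fuse [3,6,6,7,7,11,11,13,13,15,15] 1 [] (.fuse [0,6,7,10,12,14,15] 2 [15,15] (.prune [0,0,0,0,0,0,0,0,0,0,0,0,0,0,2,1])))))) (.split (.fuse [0,6,7,10,12,14,15] 2 [12,12,13,14] (.fuse [0,3,3,6,6,7,7,10,10,11,11,12,13,14,14] 2 [13,15,15] (.fuse [0,3,3,6,7,7,10,10,11,12,12,14,14] 1 [14,14,15,15] (.fuse [0,7,11,12,12,13,13] 2 [] (.prune [0,0,0,0,0,0,0,0,0,0,0,0,0,0,1,2]))))) (.fuse [0,6,7,10,12,14,15] 1 [12,12,13,14,15] (.fuse [0,3,8,8,11,12,13,13,14,15,15] 2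 [13,14] (.fuse [3,6,6,7,7,8,8,10,11,13,13,14,15] 2 [14,14] (.fuse [0,3,4,5,9,9,14,15] 1 [15,15] (.prune [0,0,0,0,0,0,0,0,0,0,0,0,0,0,2,0]))))) (.fuse [3,6,6,7,7,10,10,11,13,13,15,15] 2 [14] (.fuse [0,6,7,10,12,14,15] 2 [13,14,15,15] (.fuse [3,6,6,7,7,10,13,13] 2 [] (.fuse [3,4,5,6,7,7,8,9,9,10,11,12,12,13,13,15,15] 2 [15,15] (.fuse [0,4,4,5,5,6,7,8,8,9,10,11,13,14,14,15,15] 2 [] (.prune [0,0,0,0,0,0,0,0,0,0,0,0,0,0,0,1]))))))))))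

theorem cert35_ok : certOK leafVecs cert35 [2,0,0,0,0,1,0] = true := by decide +kernel


end H49.Order3.Fi24
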