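/-
Generated data: part of the certificate tree, with its check.
-/
import Cfsg.Agent.H49.Order3.Fi24.CertDef
import Cfsg.Agent.H49.Order3.Fi24.Data.Leaves

set_option autoImplicit false
set_option maxRecDepth 100000
set_option linter.all false
set_option Elab.async false

namespace H49.Order3.Fi24

def cert36 : Cert := (.split (.fuse [4,5,8,8,9,9,11,12,13,13,15,15] 2 [11,12,13,13,14,15] (.split (.split (.fuse [10,11,15,15] 2 [13,14] (.fuse [5,9,9,12,15,15] 1 [15] (.split (.fuse [5,6,6,8,8,9,9,12,12,13,14,14] 1 [15,15] (.fuse [5,6,8,11,11,12,14,14,15,15] 2 [] (.prune [0,0,0,0,0,0,0,0,0,0,0,0,0,0,0,1]))) (.fuse [0] 1 [] (.fuse [0,5,5,6,8,9,12,13,13] 1 [] (.prune [0,0,0,0,0,0,0,0,0,0,0,0,0,0,0,1]))) (.fuse [0] 2 [] (.fuse [0,5,6,6,8,8,9,9,12,12,13] 2 [] (.prune [0,0,0,0,0,0,0,0,0,0,0,0,0,0,0,1]))))))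 (.fuse [0] 2 [15] (.fuse [4,5,6,6,7,7,8,9,9,10,10,11,11,12,12,15,15] 1 [13,13,15,15] (.fuse [0,10,10,11,11,14,14,15] 2 [14,14,15] (.fuse [0,5,5,6,8,8,9,10,10,11,12,12,13,14] 2 [15,15] (.prune [0,0,0,0,0,0,0,0,0,0,0,0,0,0,1,1]))))) (.fuse [0] 1 [15,15] (.fuse [4,5,6,6,7,7,8,9,9,10,10,11,11,12,12,15,15] 2 [13,15] (.fuse [0,10,14] 1 [14,15,15] (.fuse [4,6,7,7,8,10,10,11,12,12,15] 1 [15,15] (.prune [0,0,0,0,0,0,0,0,0,0,0,0,0,0,2,1])))))) (.split (.fuse [3,6,6,7,7,10,10,11,13,13,15,15] 1 [14,14] (.fuse [4,5,6,6,7,7,8,9,9,10,10,11,11,12,12,15,15] 1 [13,13,15,15] (.fuse [3,6,6,7,7,11,11,13,13,15,15] 1 [] (.fuse [5,9,11,12,13,13,15,15] 2 [15,15] (.fuse [3,4,6,7,8,8,10,10,12,12,13,14,14,15,15] 2 [] (.leaf 643)))))) (.fuse [0] 2 [15] (.fuse [4,5,6,6,7,7,8,9,9,10,10,11,11,12,12,15,15]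 2 [13,15] (.fuse [3,6,6,7,7,13,13,14] 1 [15,15] (.fuse [3,5,6,6,7,7,8,9,11,11,12,12] 1 [] (.prune [0,0,0,0,0,0,0,0,0,0,0,0,0,0,1,0]))))) (.fuse [0] 1 [15,15] (.fuse [5,9,9,12,15,15] 1 [13,14] (.fuse [3,6,6,7,7,11,13,13,14,15,15] 1 [15] (.fuse [0,3,3,6,7,10,11,11,13,15] 1 [15] (.prune [0,0,0,0,0,0,0,0,0,0,0,0,0,0,2,0])))))) (.split (.fuse [3,6,6,7,7,10,10,11,13,13,15,15] 2 [14] (.fuse [4,5,6,6,7,7,8,9,9,10,10,11,11,12,12,15,15] 2 [13,15] (.fuse [3,6,6,7,7,10,13,13] 2 [] (.fuse [3,4,5,5,6,7,8,9,11,11,13,13] 2 [] (.fuse [3,4,5,7,8,8,9,9,14,14,15,15] 2 [] (.prune [0,0,0,0,0,0,0,0,0,0,0,0,0,0,0,2])))))) (.fuse [0] 2 [15] (.fuse [5,9,9,12,15,15] 1 [13,13,14,14,15,15] (.fuse [3,6,6,7,7,8,10,11,11,13,13,14,14,15,15] 2 [14] (.fuse [0,3,3,6,7,10,11,11,13,15] 2 [15,15] (.prune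 [0,0,0,0,0,0,0,0,0,0,0,0,0,0,1,2]))))) (.fuse [0] 1 [15,15] (.fuse [4,5,6,6,7,7,8,9,9,10,10,11,11,12,12,15,15] 1 [13,13,15,15] (.fuse [3,6,6,7,7,8,8,10,11,13,13,14,14,15,15] 2 [14,14,15,15] (.fuse [3,4,6,7,8,11,11,12,12,13,14] 1 [] (.prune [0,0,0,0,0,0,0,0,0,0,0,0,0,0,2,2])))))))) (.fuse [0] 2 [11,11,14,15,15] (.split (.split (.fuse [0,4,4,5,5,8,9,11,11,12,12,13,14,14,15] 1 [12,12,13,14,15] (.fuse [0,4,4,5,5,8,9,10,11,11,12,13,13,14,14,15] 2 [13,13,15] (.fuse [0,4,4,8,10,11,11,12,12,13,13,14] 2 [14,15,15] (.fuse [0,4,4,6,9,9,10,11,11,12,13,15] 2 [15,15] (.prune [0,0,0,0,0,0,0,0,0,0,0,0,0,0,1,0]))))) (.fuse [10,11,15,15] 2 [13,14] (.fuse [0,4,4,5,5,8,9,11,11,12,12,13,14,14,15] 1 [13,13,14,15,15] (.fuse [5,6,6,8,9,9,11,12,12,14,14,15] 2 [14,14] (.fuse [0,4,5,6,7,8,9,9,10,11,11,13,15,15]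 2 [15,15] (.prune [0,0,0,0,0,0,0,0,0,0,0,0,0,0,2,2]))))) (.fuse [0,4,4,5,5,8,9,11,11,12,12,13,14,14,15] 2 [14] (.fuse [4,5,6,6,7,7,8,9,9,10,10,11,11,13,13,14,14] 2 [13,14,14,15,15] (.fuse [0,4,4,5,5,8,9,10,10,11,12,12,13,14,14,15,15] 2 [] (.fuse [0,4,6,7,8,11,12,13,15] 1 [15,15] (.fuse [0,4,5,5,7,8,11,12,12,14] 1 [] (.prune [0,0,0,0,0,0,0,0,0,0,0,0,0,0,0,1]))))))) (.split (.fuse [0,4,4,5,5,8,9,11,11,12,12,13,14,14,15] 1 [12,12,13,15] (.fuse [0,3,3,4,4,5,5,6,7,9,10,11,11,12,12,13,13,15] 2 [13,14,15] (.fuse [3,6,6,7,7,11,12,12] 1 [14,15] (.fuse [3,4,6,7,8,8,10,10,11,11,15] 2 [] (.fuse [4,5,6,6,7,7,8,8,9,10,10,11,12,13,13,14,14,15] 2 [] (.prune [0,0,0,0,0,0,0,0,0,0,0,0,0,0,0,2])))))) (.fuse [3,6,6,7,7,10,10,11,13,13,15,15] 1 [14,14] (.fuse [0,4,4,5,5,8,9,11,11,12,12,13,14,14,15]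 1 [13,13,15,15] (.fuse [3,6,6,7,7,11,11,13,13,15,15] 1 [] (.fuse [0,6,6,7,7,8,8,10,10,11,12,12,14,14] 2 [15] (.prune [0,0,0,0,0,0,0,0,0,0,0,0,0,0,1,1]))))) (.fuse [0,4,4,5,5,8,9,11,11,12,12,13,14,14,15] 2 [] (.fuse [5,9,9,12,15,15] 1 [13,14] (.fuse [3,6,6,7,7,12,13] 1 [14,14,15,15] (.fuse [0,3,4,4,5,5,6,6,7,7,8,8,9,10,10,11,12,12,14,14,15] 2 [15,15] (.prune [0,0,0,0,0,0,0,0,0,0,0,0,0,0,2,0])))))) (.split (.fuse [0,4,4,5,5,8,9,11,11,12,12,13,14,14,15] 1 [12,12,13,14,14,15] (.fuse [0,3,4,4,5,5,6,6,7,7,8,8,9,10,10,11,12,12,14,14,15] 2 [13,15,15] (.fuse [3,6,6,7,7,10,12,13,14,15,15] 2 [14,14] (.fuse [0,3,4,5,8,9,9,11,11,14,15] 1 [] (.prune [0,0,0,0,0,0,0,0,0,0,0,0,0,0,2,1]))))) (.fuse [3,6,6,7,7,10,10,11,13,13,15,15] 2 [14] (.fuse [0,4,4,5,5,8,9,11,11,12,12,13,14,14,15]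 1 [13,13,14,14,15,15] (.fuse [3,6,6,7,7,10,13,13] 2 [] (.fuse [3,5,5,6,7,7,8,8,9,10,12,12] 1 [] (.fuse [3,4,7,8,8,14] 1 [] (.leaf 644)))))) (.fuse [0,4,4,5,5,8,9,11,11,12,12,13,14,14,15] 2 [14,14] (.fuse [4,5,6,6,7,7,8,9,9,10,10,11,11,13,13,14,14] 1 [13,13,14,14] (.fuse [3,6,6,7,7,10,12,12,14,14,15,15] 2 [14] (.fuse [0,3,3,4,4,5,5,6,7,9,10,11,11,12,12,13,13,15] 1 [15] (.prune [0,0,0,0,0,0,0,0,0,0,0,0,0,0,1,2])))))))) (.fuse [0] 1 [11,14,14] (.split (.split (.fuse [0,4,5,8,8,9,9,11,12,13,13,15,15] 2 [12,13,13,15] (.fuse [0,4,5,8,8,9,9,10,10,12,13,13,14,14] 1 [13,14,14,15] (.fuse [0,4,8,8,10,10,13,14,15,15] 1 [14,14] (.fuse [4,5,6,6,7,7,9,9,10,10,13,13,14,15] 2 [] (.prune [0,0,0,0,0,0,0,0,0,0,0,0,0,0,2,0]))))) (.fuse [0,4,5,8,8,9,9,11,12,13,13,15,15] 1 [12,12,13,14,14,15,15]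 (.fuse [0,4,5,8,8,9,9,10,11,12,12,13,14,15,15] 2 [13,13,14,14,15,15] (.fuse [0,4,4,5,5,6,6,7,7,8,9,11,11,12,12,14,14,15,15] 1 [14,14] (.fuse [0,4,4,6,7,7,8,11,12,12,13,14,14] 1 [15,15] (.fuse [0,4,4,6,7,7,8,11,12,12,14,14,15,15] 2 [] (.prune [0,0,0,0,0,0,0,0,0,0,0,0,0,0,0,1])))))) (.fuse [10,11,15,15] 2 [13,14] (.fuse [4,5,6,6,7,7,9,9,10,10,13,13,14,15] 2 [13,14,14,15,15] (.fuse [4,5,5,6,6,7,7,9,10,10,14,14] 2 [14,14,15] (.fuse [0,4,5,8,8,9,9,11,12,13,13,15,15] 1 [] (.prune [0,0,0,0,0,0,0,0,0,0,0,0,0,0,1,2])))))) (.split (.fuse [0,4,5,8,8,9,9,11,12,13,13,15,15] 2 [12,13,13,14,15] (.fuse [0,3,4,5,6,6,7,7,8,8,9,9,10,10,11,12,13,14,14,15,15] 1 [13,13,14,14] (.fuse [3,6,6,7,7,12,12,14] 1 [14,15,15] (.fuse [0,3,8,8,11,12,13,13,14,14] 2 [15] (.fuse [0,4,4,6,6,7,7,10,12,12,13,13,14,15,15]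 1 [] (.prune [0,0,0,0,0,0,0,0,0,0,0,0,0,0,0,2])))))) (.fuse [0,4,5,8,8,9,9,11,12,13,13,15,15] 1 [12,12,13,15,15] (.fuse [0,3,3,4,5,6,7,9,9,10,11,11,12,14,15] 2 [13,14,15,15] (.fuse [3,6,6,7,7,11,12,13,14,14,15] 1 [14,14,15] (.fuse [0,3,3,6,6,7,7,8,8,10,10,12,13] 1 [15,15] (.prune [0,0,0,0,0,0,0,0,0,0,0,0,0,0,1,0]))))) (.fuse [3,6,6,7,7,10,10,11,13,13,15,15] 1 [14,14] (.fuse [5,9,9,12,15,15] 1 [13,14] (.fuse [3,6,6,7,7,11,11,13,13,15,15] 1 [] (.fuse [0,4,5,8,8,9,9,11,12,13,13,15,15] 2 [] (.prune [0,0,0,0,0,0,0,0,0,0,0,0,0,0,2,1])))))) (.split (.fuse [0,4,5,8,8,9,9,11,12,13,13,15,15] 2 [12,13,13,14,14,15] (.fuse [0,3,3,4,5,6,7,9,9,10,11,11,12,14,15] 1 [13,13,14,15] (.fuse [3,6,6,7,7,8,8,10,11,12,13,14,15,15] 2 [14,15] (.fuse [0,3,3,4,4,5,5,9,11,11,12,13,13,15] 1 [] (.prune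 [0,0,0,0,0,0,0,0,0,0,0,0,0,0,1,1]))))) (.fuse [0,4,5,8,8,9,9,11,12,13,13,15,15] 1 [12,12,13,14,15,15] (.fuse [0,3,4,5,6,6,7,7,8,8,9,9,10,10,11,12,13,14,14,15,15] 2 [13] (.fuse [3,6,6,7,7,8,10,11,11,12,12,14,14,15,15] 2 [14,14] (.fuse [4,5,6,6,7,7,9,9,10,10,13,13,14,15] 1 [15,15] (.prune [0,0,0,0,0,0,0,0,0,0,0,0,0,0,2,2]))))) (.fuse [3,6,6,7,7,10,10,11,13,13,15,15] 2 [14] (.fuse [4,5,6,6,7,7,9,9,10,10,13,13,14,15] 1 [13,13,14] (.fuse [3,6,6,7,7,10,13,13] 2 [] (.fuse [5,8,9,11,11,12,13,14,14,15] 1 [15] (.fuse [3,4,6,7,8,11,11,14,14] 2 [] (.leaf 645))))))))))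

theorem cert36_ok : certOK leafVecs cert36 [2,0,0,0,0,1,1] = true := by decide +kernel

def cert37 : Cert := (.split (.fuse [4,5,8,8,9,9,11,12,13,13,15,15] 1 [11,11,12,12,13] (.split (.split (.fuse [10,11,15,15] 2 [13,14] (.fuse [5,9,9,12,15,15] 2 [] (.split (.fuse [4,5,6,7,8,8,9,9,10,11,12,12,13,13,14,15,15] 2 [15] (.fuse [4,5,6,6,7,10,15] 1 [] (.prune [0,0,0,0,0,0,0,0,0,0,0,0,0,0,0,1]))) (.fuse [0] 1 [] (.fuse [0,4,5,6,7,8,9,9,10,11,11,12,12,13,13,14,14,15,15] 1 [] (.prune [0,0,0,0,0,0,0,0,0,0,0,0,0,0,0,1]))) (.fuse [0] 2 [] (.fuse [0,4,4,5,5,6,6,7,7,9,10,10,12,12,15,15] 2 [] (.prune [0,0,0,0,0,0,0,0,0,0,0,0,0,0,0,1])))))) (.fuse [0] 2 [15] (.fuse [4,5,6,7,8,8,9,9,10,11,12,12,13,13,14,15,15] 1 [13,13,14,14,15] (.fuse [0,10,10,11,11,14,14,15] 2 [14,14,15] (.fuse [0,4,5,5,6,7,8,9,11,12,13,14,14]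 2 [15,15] (.prune [0,0,0,0,0,0,0,0,0,0,0,0,0,0,1,1]))))) (.fuse [0] 1 [15,15] (.fuse [4,5,6,7,8,8,9,9,10,11,12,12,13,13,14,15,15] 2 [13,14,14,15] (.fuse [0,10,14] 1 [14,15,15] (.fuse [0,5,5,6,6,8,8,9,10,13,13,14,15] 1 [] (.prune [0,0,0,0,0,0,0,0,0,0,0,0,0,0,2,1])))))) (.split (.fuse [3,6,6,7,7,10,10,11,13,13,15,15] 1 [14,14] (.fuse [4,5,6,7,8,8,9,9,10,11,12,12,13,13,14,15,15] 2 [13,14,14,15] (.fuse [3,6,6,7,7,11,11,13,13,15,15] 1 [] (.fuse [3,4,4,6,7,8,8,10,10,12,12,13,13,14,14,15,15] 1 [15,15] (.fuse [6,8,13,15,15] 2 [] (.leaf 646)))))) (.fuse [0] 2 [15] (.fuse [5,9,9,12,15,15] 2 [13,13,14,14,15] (.fuse [3,6,6,7,7,13,13,14] 1 [15,15] (.fuse [3,5,6,6,7,7,8,9,11,11,12,12,15,15] 1 [15,15] (.prune [0,0,0,0,0,0,0,0,0,0,0,0,0,0,1,0]))))) (.fuse [0] 1 [15,15] (.fuse [4,5,6,7,8,8,9,9,10,11,12,12,13,13,14,15,15]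 1 [13,13,14,14,15] (.fuse [3,6,6,7,7,11,13,13,14,15,15] 1 [15] (.fuse [0,3,3,6,7,10,11,11,13,15] 1 [15] (.prune [0,0,0,0,0,0,0,0,0,0,0,0,0,0,2,0])))))) (.split (.fuse [3,6,6,7,7,10,10,11,13,13,15,15] 2 [14] (.fuse [4,5,6,7,8,8,9,9,10,11,12,12,13,13,14,15,15] 1 [13,13,14,14,15] (.fuse [3,6,6,7,7,10,13,13] 2 [] (.fuse [5,6,6,8,8,9,9,13,13] 1 [] (.fuse [5,6,8,11,11,13,13,14,14] 2 [] (.prune [0,0,0,0,0,0,0,0,0,0,0,0,0,0,0,2])))))) (.fuse [0] 2 [15] (.fuse [4,5,6,7,8,8,9,9,10,11,12,12,13,13,14,15,15] 2 [13,14,14,15] (.fuse [3,6,6,7,7,8,10,11,11,13,13,14,14,15,15] 2 [14] (.fuse [0,3,3,6,7,10,11,11,13,15] 2 [15,15] (.prune [0,0,0,0,0,0,0,0,0,0,0,0,0,0,1,2]))))) (.fuse [0] 1 [15,15] (.fuse [5,9,9,12,15,15] 2 [13,14,15,15] (.fuse [3,6,6,7,7,8,8,10,11,13,13,14,14,15,15] 2 [14,14,15,15]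 (.fuse [3,5,6,7,7,8,9,9,10,11,12,13] 1 [15,15] (.prune [0,0,0,0,0,0,0,0,0,0,0,0,0,0,2,2])))))))) (.fuse [0] 2 [11,11,14,15,15] (.split (.split (.fuse [0,4,5,8,8,9,9,11,12,13,13,15,15] 1 [12,12,13,14,15,15] (.fuse [0,4,5,8,8,9,9,10,11,12,12,13,14,15,15] 2 [13,13,14,15,15] (.fuse [0,4,8,8,10,11,12,13,13,14,15,15] 2 [14,15,15] (.fuse [0,4,6,6,9,9,10,12] 1 [15,15] (.prune [0,0,0,0,0,0,0,0,0,0,0,0,0,0,1,0]))))) (.fuse [10,11,15,15] 2 [13,14] (.fuse [4,5,6,7,8,9,9,10,11,11,13,14,14,15] 1 [13,13,14,15,15] (.fuse [4,5,5,6,7,8,9,10,11,11,12,12,15] 1 [14,15,15] (.fuse [4,6,6,7,8,10,12,15] 2 [] (.prune [0,0,0,0,0,0,0,0,0,0,0,0,0,0,2,2]))))) (.fuse [0,4,5,8,8,9,9,11,12,13,13,15,15] 2 [12,13,13,14,14,15] (.fuse [0,4,5,8,8,9,9,10,10,12,13,13,14,14] 1 [13,14,15] (.fuse [0,4,4,5,5,6,7,8,9,11,12]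 2 [14,15,15] (.fuse [0,4,4,6,6,7,8,8,11,12,12,13,13,14,15,15] 2 [15,15] (.fuse [0,4,4,6,6,7,8,8,11,12,12,14,14] 2 [] (.prune [0,0,0,0,0,0,0,0,0,0,0,0,0,0,0,1]))))))) (.split (.fuse [0,4,5,8,8,9,9,11,12,13,13,15,15] 1 [12,12,13,14,14,15,15] (.fuse [0,3,3,4,5,6,7,9,9,10,11,11,12,14,15] 2 [13,15,15] (.fuse [3,6,6,7,7,11,12,13,14,14,15] 1 [14,14,15] (.fuse [0,3,3,8,8,12,13,13,14,14,15,15] 1 [15,15] (.fuse [6,11,11,14,15,15] 1 [] (.prune [0,0,0,0,0,0,0,0,0,0,0,0,0,0,0,2])))))) (.fuse [3,6,6,7,7,10,10,11,13,13,15,15] 1 [14,14] (.fuse [5,9,9,12,15,15] 2 [13,13,14,14,15] (.fuse [3,6,6,7,7,11,11,13,13,15,15] 1 [] (.fuse [0,4,5,8,8,9,9,11,12,13,13,15,15] 1 [] (.prune [0,0,0,0,0,0,0,0,0,0,0,0,0,0,1,1]))))) (.fuse [0,4,5,8,8,9,9,11,12,13,13,15,15] 2 [12,13,13,15] (.fuse [0,3,4,5,6,6,7,7,8,8,9,9,10,10,11,12,13,14,14,15,15]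 1 [13,13,14] (.fuse [3,6,6,7,7,12,12,14] 1 [14,15,15] (.fuse [0,3,6,7,8,8,10,11,12,14,15,15] 2 [15,15] (.prune [0,0,0,0,0,0,0,0,0,0,0,0,0,0,2,0])))))) (.split (.fuse [0,4,5,8,8,9,9,11,12,13,13,15,15] 1 [12,12,13,15,15] (.fuse [0,3,4,5,6,6,7,7,8,8,9,9,10,10,11,12,13,14,14,15,15] 2 [13,14,14] (.fuse [3,6,6,7,7,8,10,11,11,12,12,14,14,15,15] 2 [14,14] (.fuse [5,6,6,8,9,9,11,12,13,14,14] 2 [] (.prune [0,0,0,0,0,0,0,0,0,0,0,0,0,0,2,1]))))) (.fuse [3,6,6,7,7,10,10,11,13,13,15,15] 2 [14] (.fuse [4,5,6,7,8,9,9,10,11,11,13,14,14,15] 2 [13,15,15] (.fuse [3,6,6,7,7,10,13,13] 2 [] (.fuse [0,4,5,8,8,9,9,11,12,13,13,15,15] 2 [] (.fuse [0,3,3,4,4,5,6,6,7,7,9,9,13,14,15,15] 1 [] (.leaf 647)))))) (.fuse [0,4,5,8,8,9,9,11,12,13,13,15,15] 2 [12,13,13,14,15] (.fuse [0,3,3,4,5,6,7,9,9,10,11,11,12,14,15]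 1 [13,13,15] (.fuse [3,6,6,7,7,8,8,10,11,12,13,14,15,15] 2 [14,15] (.fuse [3,5,6,7,7,9,9,10,11,11,12,14] 2 [] (.prune [0,0,0,0,0,0,0,0,0,0,0,0,0,0,1,2])))))))) (.fuse [0] 1 [11,14,14] (.split (.split (.fuse [0,4,4,5,5,8,9,11,11,12,12,13,14,14,15] 2 [12,13,13,14] (.fuse [0,4,4,5,5,8,9,10,10,11,12,12,13,14,14,15,15] 1 [13] (.fuse [0,4,4,8,10,10,11,13,14,15] 1 [14,14] (.fuse [0,4,4,6,6,8,8,9,9,10,10,13,13,14,15] 1 [15,15] (.prune [0,0,0,0,0,0,0,0,0,0,0,0,0,0,2,0]))))) (.fuse [0,4,4,5,5,8,9,11,11,12,12,13,14,14,15] 1 [14,15] (.fuse [4,5,6,7,8,8,9,9,10,11,13,14,14,15] 1 [13,13,14,15] (.fuse [0,4,4,5,5,8,9,10,11,11,12,13,13,14,14,15] 1 [15] (.fuse [0,4,6,6,7,7,8,11,11,13,13] 2 [] (.fuse [3,6,6,7,7,10,10,11,13,13,15,15] 1 [] (.prune [0,0,0,0,0,0,0,0,0,0,0,0,0,0,0,1])))))) (.fuse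 [10,11,15,15] 2 [13,14] (.fuse [0,4,4,5,5,8,9,11,11,12,12,13,14,14,15] 2 [13,14,15,15] (.fuse [5,6,8,9,9,13,13,15,15] 1 [15] (.fuse [5,9,11,12,13,13,14,14,15,15] 1 [] (.prune [0,0,0,0,0,0,0,0,0,0,0,0,0,0,1,2])))))) (.split (.fuse [0,4,4,5,5,8,9,11,11,12,12,13,14,14,15] 2 [12,13,13] (.fuse [0,3,4,4,5,5,6,6,7,7,8,8,9,10,10,11,12,12,14,14,15] 1 [13,13,14,14,15,15] (.fuse [3,6,6,7,7,12,13] 1 [14,14,15,15] (.fuse [4,5,6,7,8,9,10,11,12,12,13,13,14,14,15] 1 [] (.fuse [0,3,12,12,13] 2 [] (.prune [0,0,0,0,0,0,0,0,0,0,0,0,0,0,0,2])))))) (.fuse [0,4,4,5,5,8,9,11,11,12,12,13,14,14,15] 1 [15] (.fuse [5,9,9,12,15,15] 2 [13,13,14,14,15] (.fuse [3,6,6,7,7,11,12,12] 1 [14,15] (.fuse [0,3,3,4,4,5,5,6,7,9,10,11,11,12,12,13,13,15] 1 [] (.prune [0,0,0,0,0,0,0,0,0,0,0,0,0,0,1,0]))))) (.fuse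 [3,6,6,7,7,10,10,11,13,13,15,15] 1 [14,14] (.fuse [0,4,4,5,5,8,9,11,11,12,12,13,14,14,15] 2 [13,15,15] (.fuse [3,6,6,7,7,11,11,13,13,15,15] 1 [] (.fuse [0,6,7,10,12,12,13,13,14,14] 1 [] (.prune [0,0,0,0,0,0,0,0,0,0,0,0,0,0,2,1])))))) (.split (.fuse [0,4,4,5,5,8,9,11,11,12,12,13,14,14,15] 2 [12,13,13,14,14] (.fuse [0,3,3,4,4,5,5,6,7,9,10,11,11,12,12,13,13,15] 1 [13,13,14] (.fuse [3,6,6,7,7,10,12,12,14,14,15,15] 2 [14,15] (.fuse [3,4,4,5,6,7,9,9,13,13,14,14,15,15] 1 [] (.prune [0,0,0,0,0,0,0,0,0,0,0,0,0,0,1,1]))))) (.fuse [0,4,4,5,5,8,9,11,11,12,12,13,14,14,15] 1 [14,14,15] (.fuse [4,5,6,7,8,8,9,9,10,11,13,14,14,15] 2 [13,14,15] (.fuse [3,6,6,7,7,10,12,13,14,15,15] 2 [14,14,15,15] (.fuse [4,5,5,6,6,7,9,10,11,12,12,13,13,14,15] 1 [] (.prune [0,0,0,0,0,0,0,0,0,0,0,0,0,0,2,2])))))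 (.fuse [3,6,6,7,7,10,10,11,13,13,15,15] 2 [14] (.fuse [0,4,4,5,5,8,9,11,11,12,12,13,14,14,15] 2 [13,14,14,15,15] (.fuse [3,6,6,7,7,10,13,13] 2 [] (.fuse [0,4,4,5,8,9,9,11,11,12,13,15,15] 1 [] (.fuse [3,4,5,5,6,6,9,10,10,11,11,12,14,14,15,15] 1 [] (.leaf 648))))))))))

theorem cert37_ok : certOK leafVecs cert37 [2,0,0,0,0,1,2] = true := by decide +kernel

def cert38 : Cert := (.split (.fuse [3,6,6,7,7,10,10,11,13,13,15,15] 1 [] (.split (.split (.fuse [3,8,12,13,13,14] 1 [12,12,13,15,15] (.fuse [3,8,10,11,12,13,13,14,15,15] 2 [15] (.split (.fuse [4,5,8,8,9,9,11,12,13,13,15,15] 1 [] (.split (.leaf 649) (.leaf 650) (.leaf 651))) (.fuse [0] 1 [] (.fuse [3,6,6,8,10,12,12,13,14,15,15] 2 [] (.leaf 652))) (.fuse [0] 2 [] (.fuse [3,6,6,8,10,12,12,13,14,15,15] 1 [] (.leaf 653))))))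 (.fuse [0] 2 [15] (.fuse [0,3,8,8,11,12,13,13,14] 2 [13,14,14,15,15] (.fuse [0,8,10,10,11,11] 1 [] (.fuse [0,3,4,5,8,9,9,12,13,13,15,15] 1 [15,15] (.fuse [0,3,3,4,5,6,6,8,9,9,10,12,12,14] 1 [] (.leaf 654)))))) (.fuse [0] 1 [15,15] (.fuse [0,3,3,8,8,12,12,13,15,15] 1 [13,13] (.fuse [0,8,10,15,15] 2 [14] (.fuse [0,3,3,4,5,8,8,9,9,12,12,13,14,14,15,15] 2 [15,15] (.fuse [0,3,4,5,6,8,8,9,9,10,10,11,11,12,12,13,13] 1 [] (.leaf 655))))))) (.split (.fuse [3,8,12,13,13,14] 2 [12,13,13,15] (.fuse [3,8,10,10,11,11,12,13,13,14,15] 1 [15,15] (.split (.fuse [4,5,8,8,9,9,11,12,13,13,15,15] 2 [] (.split (.leaf 656) (.leaf 657) (.leaf 658))) (.fuse [0] 1 [] (.fuse [3,6,6,8,10,10,11,12,12,13,14,15] 2 [] (.leaf 659))) (.fuse [0] 2 [] (.fuse [3,6,6,8,10,10,11,12,12,13,14,15] 1 [] (.leaf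 660)))))) (.fuse [0] 2 [15] (.fuse [0,3,3,8,8,12,12,13,15,15] 2 [13] (.fuse [0,10,10,11,11,15] 1 [15,15] (.fuse [0,3,3,4,5,8,8,9,9,12,12,13,14] 1 [15] (.fuse [0,4,5,6,6,8,9,9,10,10,12,12,14,14,15,15] 2 [] (.leaf 661)))))) (.fuse [0] 1 [15,15] (.fuse [0,3,8,8,11,12,13,13,14] 1 [13,13,14,15] (.fuse [0,10,14,14] 2 [14,15] (.fuse [0,3,4,5,8,9,9,11,11,12,12,13,15,15] 2 [15] (.fuse [8,9,13,15,15] 2 [] (.leaf 662))))))) (.split (.fuse [10,11,15,15] 2 [13,13,15,15] (.split (.split (.fuse [9,11,11,13,14,15] 2 [] (.split (.leaf 663) (.leaf 664) (.leaf 665))) (.fuse [0] 1 [] (.fuse [3,8,12,13,13,14] 2 [] (.leaf 666))) (.fuse [0] 2 [] (.fuse [3,8,12,13,13,14] 1 [] (.leaf 667)))) (.split (.fuse [4,5,8,8,9,9,11,12,13,13,15,15] 2 [] (.fuse [3,8,12,13,13,14] 1 [] (.leaf 668))) (.fuse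 [0] 1 [] (.fuse [6,11,12,12,13,15] 1 [] (.leaf 669))) (.fuse [0] 2 [] (.fuse [3,8,12,13,13,14] 2 [] (.leaf 670)))) (.split (.fuse [4,5,8,8,9,9,11,12,13,13,15,15] 1 [] (.fuse [3,8,12,13,13,14] 2 [] (.leaf 671))) (.fuse [0] 1 [] (.fuse [3,8,12,13,13,14] 1 [] (.leaf 672))) (.fuse [0] 2 [] (.fuse [6,11,12,12,13,15] 2 [] (.leaf 673)))))) (.fuse [0] 2 [15] (.fuse [4,5,8,8,9,9,11,12,13,13,15,15] 1 [13,13] (.fuse [0,10,10,11,11,14,14,15] 1 [15,15] (.fuse [0,5,9,9,10,10,11,11,12,14,14] 1 [] (.fuse [3,8,12,13,13,14] 2 [] (.leaf 674)))))) (.fuse [0] 1 [15,15] (.fuse [4,5,8,8,9,9,11,12,13,13,15,15] 2 [13] (.fuse [0,10,14] 2 [14,15] (.fuse [9,11,11,13,14,15] 2 [] (.fuse [3,8,12,13,13,14] 1 [] (.leaf 675))))))))) (.fuse [0] 2 [11,11,14,15,15] (.split (.split (.fuse [0,3,6,6,7,7,8,8,10,10,11,13,13]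 2 [14,15,15] (.fuse [0,3,3,6,6,7,7,8,8,10,10,11,12,13,14,15,15] 2 [13,14] (.fuse [0,3,6,6,7,7,10,13,13,14,14,15] 1 [14,15] (.fuse [4,5,8,8,9,9,11,12,13,13,15,15] 1 [] (.fuse [0,3,6,6,7,7,9,10,14,14,15,15] 2 [] (.prune [0,0,0,0,0,0,0,0,0,0,0,0,0,0,0,2])))))) (.fuse [0,3,6,6,7,7,8,8,10,10,11,13,13] 1 [14,15,15] (.fuse [0,6,6,7,7,10,10,11,11,12,12,14,14] 1 [13,13] (.fuse [0,3,6,6,7,7,11,13,13,14,14] 2 [14,14,15,15] (.fuse [0,4,4,5,5,6,6,7,7,8,8,9,10,10,11,13,13] 1 [] (.fuse [0,3,4,4,5,5,6,7,7,8,9,15,15] 2 [] (.prune [0,0,0,0,0,0,0,0,0,0,0,0,0,0,0,1])))))) (.fuse [3,8,8,11,11,12,13,13,14,14,15] 1 [12,12,13,14] (.fuse [3,8,8,10,12,13,13,14,14,15] 2 [14,15,15] (.fuse [3,4,4,5,5,9,10,11,11,12,12,13] 2 [15,15] (.fuse [0,3,6,6,7,7,8,8,10,10,11,13,13] 1 [15,15] (.fuse [0,7,7,10,11,11,12,13,14]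 2 [] (.leaf 676))))))) (.split (.fuse [3,8,8,11,11,12,13,13,14,14,15] 2 [12,13,13,15,15] (.fuse [3,8,8,10,10,11,12,13,13,14,14,15,15] 1 [] (.fuse [9,11,11,13,14,15] 2 [] (.fuse [0,3,6,6,7,7,8,8,10,10,11,13,13] 1 [15,15] (.prune [0,0,0,0,0,0,0,0,0,0,0,0,0,0,2,2]))))) (.fuse [0,3,6,6,7,7,8,8,10,10,11,13,13] 2 [14,15,15] (.fuse [0,6,6,7,7,10,10,11,11,12,12,14,14] 2 [13,14,15,15] (.fuse [0,3,6,6,7,7,8,8,10,13,13,15] 1 [14] (.fuse [0,4,5,6,6,7,7,8,8,9,9,10,10,12,12] 2 [15] (.prune [0,0,0,0,0,0,0,0,0,0,0,0,0,0,2,1]))))) (.fuse [0,3,6,6,7,7,8,8,10,10,11,13,13] 1 [14,15,15] (.fuse [0,3,3,6,6,7,7,8,8,10,10,11,12,13,14,15,15] 1 [13,13,14,14] (.fuse [0,3,6,6,7,7,8,8,11,13,13,14,14] 2 [14,14] (.fuse [4,6,8,13,14,15,15] 2 [15] (.prune [0,0,0,0,0,0,0,0,0,0,0,0,0,0,2,0])))))) (.split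 (.fuse [0,3,6,6,7,7,8,8,10,10,11,13,13] 1 [14,15,15] (.split (.fuse [0,3,6,6,7,7,8,8,11,13,13,14,15] 2 [14,14] (.fuse [0,3,6,6,7,7,8,8,9,9,11,11,13] 2 [] (.prune [0,0,0,0,0,0,0,0,0,0,0,0,0,0,1,2]))) (.fuse [0,3,6,6,7,7,8,8,11,13,13,14,15] 2 [14,14] (.fuse [0,3,6,6,7,7,8,8,9,9,11,11,13] 2 [] (.prune [0,0,0,0,0,0,0,0,0,0,0,0,0,0,1,2]))) (.fuse [0,3,6,6,7,7,8,8,11,13,13,14,15] 2 [14,14] (.fuse [0,3,6,6,7,7,8,8,9,9,11,11,13] 2 [] (.prune [0,0,0,0,0,0,0,0,0,0,0,0,0,0,1,2]))))) (.fuse [10,11,15,15] 2 [13,13,15,15] (.fuse [4,5,8,8,9,9,11,12,13,13,15,15] 1 [13,13] (.fuse [5,9,9,12,15,15] 2 [14,14,15] (.fuse [0,3,6,6,7,7,8,8,10,10,11,13,13] 1 [15,15] (.prune [0,0,0,0,0,0,0,0,0,0,0,0,0,0,1,1]))))) (.fuse [0,3,6,6,7,7,8,8,10,10,11,13,13] 2 [14,15,15] (.fuse [4,5,8,8,9,9,11,12,13,13,15,15]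 2 [13] (.fuse [0,3,6,6,7,7,8,8,10,13,13,14,14,15,15] 1 [14] (.fuse [3,8,8,11,11,12,13,13,14,14,15] 2 [15] (.prune [0,0,0,0,0,0,0,0,0,0,0,0,0,0,1,0])))))))) (.fuse [0] 1 [11,14,14] (.split (.split (.fuse [0,3,3,6,7,10,11,11,13,15] 1 [14,14,15] (.fuse [0,3,6,7,10,11,12,12,13,13,15] 1 [13,13,15] (.fuse [0,3,3,6,7,8,10,10,11,11,13,14] 2 [] (.fuse [0,3,3,6,7,8,9,10,10,13,13,14,14] 2 [15] (.fuse [0,3,3,4,5,6,7,8,10,10,12,13,15] 1 [] (.prune [0,0,0,0,0,0,0,0,0,0,0,0,0,0,0,2])))))) (.fuse [3,11,12,13,13,14] 1 [12,12,13,14,14,15,15] (.fuse [3,10,11,11,12,13,13,14,15] 2 [14,14,15] (.fuse [3,4,5,8,9,9,10,11,14,14] 2 [] (.fuse [0,3,3,6,7,10,11,11,13,15] 2 [15,15] (.fuse [3,4,4,6,8,8,10,12,13] 2 [] (.leaf 677)))))) (.fuse [0,3,3,6,7,10,11,11,13,15] 2 [14,14] (.fuse [0,6,7,8,10,11,12,14,14]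 2 [13,15,15] (.fuse [0,3,3,6,7,8,11,13,14,15,15] 1 [14,14,15,15] (.fuse [0,4,4,5,5,6,7,9,10,11,11,13,14,15] 2 [15,15] (.fuse [0,4,5,5,6,6,7,9,10,14,15] 1 [] (.prune [0,0,0,0,0,0,0,0,0,0,0,0,0,0,0,1]))))))) (.split (.fuse [3,11,12,13,13,14] 2 [12,13,13] (.fuse [3,10,10,12,13,13,14,15] 1 [15] (.fuse [9,11,11,13,14,15] 1 [14] (.fuse [4,5,8,8,9,9,11,12,13,13,15,15] 2 [] (.prune [0,0,0,0,0,0,0,0,0,0,0,0,0,0,1,2]))))) (.fuse [0,3,3,6,7,10,11,11,13,15] 2 [15] (.fuse [0,3,6,7,10,11,12,12,13,13,15] 2 [13,15,15] (.fuse [0,3,3,6,7,11,13,15,15] 1 [15,15] (.fuse [0,3,4,5,6,7,8,9,9,10,12,12,13,13,15,15] 1 [15,15] (.prune [0,0,0,0,0,0,0,0,0,0,0,0,0,0,1,0]))))) (.fuse [0,3,3,6,7,10,11,11,13,15] 1 [15,15] (.fuse [0,6,7,8,10,11,12,14,14] 1 [13,13,14,15,15] (.fuse [0,3,3,6,7,10,10,11,11,13,14,14]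 2 [14,15,15] (.fuse [0,4,5,6,7,9,9,10,11,11,12,12,13,13,14] 2 [15] (.prune [0,0,0,0,0,0,0,0,0,0,0,0,0,0,1,1])))))) (.split (.fuse [0,3,3,6,7,10,11,11,13,15] 2 [14,15,15] (.split (.fuse [0,3,3,6,7,11,13,14,14,15] 1 [14] (.fuse [3,11,12,13,13,14] 1 [15,15] (.prune [0,0,0,0,0,0,0,0,0,0,0,0,0,0,2,2]))) (.fuse [0,3,3,6,7,11,13,14,14,15] 1 [14] (.fuse [3,11,12,13,13,14] 1 [] (.prune [0,0,0,0,0,0,0,0,0,0,0,0,0,0,2,2]))) (.fuse [0,3,3,6,7,11,13,14,14,15] 1 [14] (.fuse [3,11,12,13,13,14] 1 [15] (.prune [0,0,0,0,0,0,0,0,0,0,0,0,0,0,2,2]))))) (.fuse [0,3,3,6,7,10,11,11,13,15] 1 [14] (.fuse [4,5,8,8,9,9,11,12,13,13,15,15] 1 [13,13] (.fuse [0,3,3,6,7,10,10,11,11,13,14,15,15] 2 [14,14] (.fuse [3,11,12,13,13,14] 1 [] (.prune [0,0,0,0,0,0,0,0,0,0,0,0,0,0,2,0]))))) (.fuse [10,11,15,15]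 2 [13,13,15,15] (.fuse [4,5,8,8,9,9,11,12,13,13,15,15] 2 [13] (.fuse [5,9,9,12,15,15] 1 [14,15,15] (.fuse [0,3,3,6,7,10,11,11,13,15] 1 [15] (.prune [0,0,0,0,0,0,0,0,0,0,0,0,0,0,2,1])))))))))

theorem cert38_ok : certOK leafVecs cert38 [2,0,0,0,0,2,0] = true := by decide +kernel

def cert39 : Cert := (.split (.fuse [3,6,6,7,7,10,10,11,13,13,15,15] 1 [] (.split (.split (.fuse [3,4,5,6,6,7,7,8,9,9,10,10,12,13] 1 [12,13,13,15] (.fuse [3,4,5,6,6,7,7,8,9,9,11,12,12,14,15] 1 [13,14,14,15,15] (.fuse [3,4,4,5,5,6,7,8,9,10,10,11,12,12,13,13,14,15] 2 [14] (.fuse [5,6,8,8,9,9,11,11,12,14,14,15,15] 1 [] (.fuse [3,5,8,8,9,9,10,14,14] 2 [] (.prune [0,0,0,0,0,0,0,0,0,0,0,0,0,0,0,2])))))) (.fuse [0] 2 [15] (.fuse [0,3,4,5,6,6,7,7,9,9,10,10,12,13,14,14,15] 2 [13,14,14,15,15] (.fuse [0,8,8,10,10,11,12,13,13,14,14,15]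 1 [] (.fuse [0,3,4,5,5,6,6,7,7,9,10,10,11,12,13,14,14,15] 1 [] (.fuse [0,3,3,4,4,7,8,10,10,13,13,15] 2 [] (.prune [0,0,0,0,0,0,0,0,0,0,0,0,0,0,0,2])))))) (.fuse [0] 1 [15,15] (.fuse [4,5,6,6,7,7,9,9,10,10,13,13,14,15,15] 1 [13,13,14,15] (.fuse [3,4,5,6,6,7,7,8,9,9,12,13,14,15] 2 [14] (.fuse [3,4,4,5,6,7,9,9,10,10,11,12,13,13] 1 [] (.fuse [0,3,3,4,4,5,5,6,7,8,8,9,10,12,12,13,13,14,14,15] 1 [] (.prune [0,0,0,0,0,0,0,0,0,0,0,0,0,0,0,2]))))))) (.split (.fuse [3,4,5,6,6,7,7,8,9,9,10,10,12,13] 2 [12,13,13,15] (.fuse [3,4,5,6,6,7,7,8,9,9,10,11,11,12,13,14] 1 [15,15] (.split (.fuse [4,5,6,6,7,7,9,9,10,10,13,13,14,15,15] 2 [15] (.fuse [3,4,6,6,7,7,8,10,11,11,12,12,13] 1 [] (.prune [0,0,0,0,0,0,0,0,0,0,0,0,0,0,0,1]))) (.fuse [0] 1 [] (.fuse [0,4,5,6,6,7,7,8,9,9,10,10,11,11,13,13,14,14,15]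 1 [] (.prune [0,0,0,0,0,0,0,0,0,0,0,0,0,0,0,1]))) (.fuse [0] 2 [] (.fuse [0,4,4,5,5,6,7,8,9,10,11,11,12,12,13,13,14,14,15] 2 [] (.prune [0,0,0,0,0,0,0,0,0,0,0,0,0,0,0,1])))))) (.fuse [0] 2 [15] (.fuse [0,3,3,4,4,5,5,6,7,8,8,9,10,12,12,13,13,14,14,15] 1 [13,13,14,15,15] (.fuse [0,10,10,11,11,15] 1 [15,15] (.fuse [3,4,4,7,11,11,12,15] 2 [15,15] (.fuse [0,3,3,4,5,6,6,7,7,8,9,9,10,10,11,12,12,14,14,15] 1 [] (.prune [0,0,0,0,0,0,0,0,0,0,0,0,0,0,0,1])))))) (.fuse [0] 1 [15,15] (.fuse [4,5,6,6,7,7,9,9,10,10,13,13,14,15,15] 2 [13,14,14] (.fuse [3,4,5,6,6,7,7,9,9,10,13,13,15] 1 [14,15] (.fuse [0,3,4,5,6,6,7,7,9,9,10,10,12,13,14,14,15] 2 [] (.fuse [3,4,4,6,7,8,11,11,12,13,14,15] 1 [] (.prune [0,0,0,0,0,0,0,0,0,0,0,0,0,0,0,1]))))))) (.split (.fuse [10,11,15,15] 2 [13,13,15,15]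 (.fuse [3,4,5,6,6,7,7,8,9,9,10,10,12,13] 1 [13,13,15] (.fuse [4,6,6,7,7,8,8,10,10,11,12,12,13,13] 2 [15] (.fuse [5,8,8,9,12,13,13,14,14,15] 1 [15,15] (.fuse [3,8,12,13,13,14] 1 [] (.leaf 678)))))) (.fuse [0] 2 [15] (.fuse [3,4,5,6,6,7,7,8,9,9,10,10,12,13] 2 [13,15] (.fuse [0,10,10,11,11,14,14,15] 1 [15,15] (.fuse [0,5,8,9,10,10,11,12,13,13] 2 [] (.fuse [0,4,6,6,7,7,9,9,10,11,11,12,13,13,14] 1 [] (.leaf 679)))))) (.fuse [0] 1 [15,15] (.fuse [5,9,9,12,15,15] 1 [13,14] (.fuse [0,10,14] 2 [14,15] (.fuse [0,5,9,10,11,12,13,13,15] 1 [15,15] (.fuse [0,5,9,10,11,12,12,13,15,15] 1 [] (.leaf 680))))))))) (.fuse [0] 2 [11,11,14,15,15] (.split (.split (.fuse [0,3,6,6,7,7,8,8,10,10,11,13,13] 2 [14,15,15] (.fuse [0,3,3,4,5,6,7,9,9,10,12,14,15] 1 [13,13] (.fuse [0,3,6,6,7,7,8,8,10,11,12,13]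 1 [14,14] (.fuse [4,5,5,7,7,8,8,9,9,10,10,11,12,13,14,14] 1 [15,15] (.fuse [0,3,3,4,4,5,5,9,11,14,14] 1 [] (.prune [0,0,0,0,0,0,0,0,0,0,0,0,0,0,0,1])))))) (.fuse [0,3,6,6,7,7,8,8,10,10,11,13,13] 1 [14,15,15] (.fuse [0,4,4,5,5,8,9,11,12,12,13] 1 [13,13,15] (.fuse [0,3,6,6,7,7,8,8,11,11,12,12,14,14,15] 2 [14,14,15,15] (.fuse [4,5,6,6,7,7,8,9,9,10,10,11,11,13,13,15,15] 2 [] (.fuse [0,4,4,5,8,8,9,9,11,15] 2 [] (.leaf 681)))))) (.fuse [3,4,5,6,6,7,7,9,9,10,10,11,12,13,14,14,15] 1 [14,14,15,15] (.fuse [4,5,6,6,7,7,8,9,9,10,10,11,11,13,13,15,15] 1 [13,13,14,14,15,15] (.fuse [3,4,5,6,6,7,7,9,9,11,11,12,12,15] 2 [14] (.fuse [0,3,6,6,7,7,8,8,10,10,11,13,13] 1 [15,15] (.fuse [3,4,5,5,7,7,8,9,14,15,15] 2 [] (.prune [0,0,0,0,0,0,0,0,0,0,0,0,0,0,0,2]))))))) (.split (.fuse [3,4,5,6,6,7,7,9,9,10,10,11,12,13,14,14,15]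 2 [12,13,13,15] (.fuse [3,4,5,6,6,7,7,9,9,10,12,13,15] 1 [15,15] (.fuse [6,8,9,9,11,11,12,12,13,15] 1 [15,15] (.fuse [0,3,6,6,7,7,8,8,10,10,11,13,13] 1 [15,15] (.prune [0,0,0,0,0,0,0,0,0,0,0,0,0,0,2,0]))))) (.fuse [0,3,6,6,7,7,8,8,10,10,11,13,13] 2 [14,15,15] (.fuse [0,4,4,5,5,8,9,11,12,12,13] 1 [13,13,14,14,15] (.fuse [0,3,6,6,7,7,8,8,10,13,13,15] 1 [14] (.fuse [0,4,5,6,7,9,9,10,11,11,12,12,13,13,15] 1 [15,15] (.prune [0,0,0,0,0,0,0,0,0,0,0,0,0,0,2,2]))))) (.fuse [0,3,6,6,7,7,8,8,10,10,11,13,13] 1 [14,15,15] (.fuse [4,5,6,6,7,7,8,9,9,10,10,11,11,13,13,15,15] 2 [13,14,14,15] (.fuse [3,4,5,6,6,7,7,9,9,10,13,13,14,14] 1 [14,15] (.fuse [5,6,8,8,12,12,13,15] 1 [15,15] (.prune [0,0,0,0,0,0,0,0,0,0,0,0,0,0,2,1])))))) (.split (.fuse [0,3,6,6,7,7,8,8,10,10,11,13,13] 1 [14,15,15]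 (.fuse [3,4,5,6,6,7,7,9,9,10,10,11,12,13,14,14,15] 1 [13,13,14,15] (.fuse [0,3,6,6,7,7,8,8,11,13,13,14,15] 2 [14,14] (.fuse [3,8,8,11,11,12,13,13,14,14,15] 2 [15,15] (.prune [0,0,0,0,0,0,0,0,0,0,0,0,0,0,1,2]))))) (.fuse [10,11,15,15] 2 [13,13,15,15] (.fuse [3,4,5,6,6,7,7,9,9,10,10,11,12,13,14,14,15] 2 [13,14] (.split (.fuse [0,3,6,6,7,7,8,8,10,10,11,13,13] 1 [15,15] (.prune [0,0,0,0,0,0,0,0,0,0,0,0,0,0,1,1])) (.fuse [0,3,6,6,7,7,8,8,10,10,11,13,13] 2 [15] (.prune [0,0,0,0,0,0,0,0,0,0,0,0,0,0,1,1])) (.fuse [3,8,8,11,11,12,13,13,14,14,15] 2 [] (.prune [0,0,0,0,0,0,0,0,0,0,0,0,0,0,1,1]))))) (.fuse [0,3,6,6,7,7,8,8,10,10,11,13,13] 2 [14,15,15] (.fuse [5,9,9,12,15,15] 1 [13,14] (.fuse [0,3,6,6,7,7,8,8,10,13,13,14,14,15,15] 1 [14] (.fuse [0,3,5,6,6,7,7,9,10,11,11,12,12,14,14,15]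 1 [15,15] (.prune [0,0,0,0,0,0,0,0,0,0,0,0,0,0,1,0])))))))) (.fuse [0] 1 [11,14,14] (.split (.split (.fuse [0,3,3,6,7,10,11,11,13,15] 1 [14,14,15] (.fuse [0,3,4,4,5,5,6,6,7,7,8,9,10,10,12,12,15,15] 2 [13,14,14,15] (.fuse [0,3,3,6,7,8,10,10,11,11,12,12,13,13,14,14] 2 [14,15] (.fuse [3,5,8,9,9,10,11,11,13] 2 [] (.fuse [0,3,4,5,8,8,9,9,12,13,13,15] 2 [] (.prune [0,0,0,0,0,0,0,0,0,0,0,0,0,0,0,1])))))) (.fuse [3,4,5,6,6,7,7,9,9,10,10,11,12,13,14,14,15] 1 [12,12,13,14,14] (.fuse [3,4,5,6,6,7,7,9,9,11,11,12,12,15] 2 [14,15] (.fuse [3,4,5,5,6,6,7,7,8,9,11,12,13,13,14,15] 2 [14,14,15] (.fuse [0,3,3,6,7,10,11,11,13,15] 2 [15,15] (.fuse [0,4,5,6,6,9,9,10,11,12,14,14,15,15] 1 [] (.prune [0,0,0,0,0,0,0,0,0,0,0,0,0,0,0,2])))))) (.fuse [0,3,3,6,7,10,11,11,13,15] 2 [14,14] (.fuse [4,5,6,6,7,7,9,9,10,10,13,13,14,14]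 1 [13,13,14,15,15] (.fuse [3,4,5,6,6,7,7,9,9,12,13] 2 [14] (.fuse [0,4,5,9,9,11,11,12,13,13,14,14] 2 [] (.fuse [0,3,5,5,6,7,8,9,10,10,11,11,14,14,15] 1 [] (.leaf 682))))))) (.split (.fuse [3,4,5,6,6,7,7,9,9,10,10,11,12,13,14,14,15] 2 [12,13,13,15] (.fuse [3,4,5,6,6,7,7,9,9,10,12,13,15] 1 [15,15] (.fuse [6,8,9,9,11,11,12,12,13,14,15] 2 [14,14,15] (.fuse [4,5,6,6,7,7,9,9,10,10,13,13,14,14] 2 [15,15] (.prune [0,0,0,0,0,0,0,0,0,0,0,0,0,0,1,0]))))) (.fuse [0,3,3,6,7,10,11,11,13,15] 2 [15] (.fuse [0,3,4,4,5,5,6,6,7,7,8,9,10,10,12,12,15,15] 1 [13,13,14] (.fuse [0,3,3,6,7,11,13,15,15] 1 [15,15] (.fuse [3,4,4,7,8,11,12,14,15] 2 [15,15] (.prune [0,0,0,0,0,0,0,0,0,0,0,0,0,0,1,1]))))) (.fuse [0,3,3,6,7,10,11,11,13,15] 1 [15,15] (.fuse [4,5,6,6,7,7,9,9,10,10,13,13,14,14] 2 [13,14,14,15]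 (.fuse [3,4,5,6,6,7,7,8,9,9,10,11,11,13,13] 1 [14] (.fuse [0,4,5,9,9,11,11,12,13,13,14,14] 2 [] (.prune [0,0,0,0,0,0,0,0,0,0,0,0,0,0,1,2])))))) (.split (.fuse [0,3,3,6,7,10,11,11,13,15] 2 [14,15,15] (.fuse [3,4,5,6,6,7,7,9,9,10,10,11,12,13,14,14,15] 1 [13,13,14,15] (.fuse [0,3,3,6,7,11,13,14,14,15] 1 [14] (.fuse [3,11,12,13,13,14] 1 [] (.prune [0,0,0,0,0,0,0,0,0,0,0,0,0,0,2,2]))))) (.fuse [0,3,3,6,7,10,11,11,13,15] 1 [14] (.fuse [3,4,5,6,6,7,7,9,9,10,10,11,12,13,14,14,15] 2 [13,14] (.fuse [0,3,3,6,7,10,10,11,11,13,14,15,15] 2 [14,14] (.fuse [0,3,3,5,6,7,9,10,10,13,14,14,15] 1 [] (.prune [0,0,0,0,0,0,0,0,0,0,0,0,0,0,2,0]))))) (.fuse [10,11,15,15] 2 [13,13,15,15] (.fuse [5,9,9,12,15,15] 1 [13,14] (.split (.fuse [0,3,3,6,7,10,11,11,13,15] 1 [15] (.prune [0,0,0,0,0,0,0,0,0,0,0,0,0,0,2,1]))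 (.fuse [0,3,3,6,7,10,11,11,13,15] 2 [15,15] (.prune [0,0,0,0,0,0,0,0,0,0,0,0,0,0,2,1])) (.fuse [3,4,5,6,6,7,7,9,9,10,10,11,12,13,14,14,15] 1 [] (.prune [0,0,0,0,0,0,0,0,0,0,0,0,0,0,2,1])))))))))

theorem cert39_ok : certOK leafVecs cert39 [2,0,0,0,0,2,1] = true := by decide +kernel


end H49.Order3.Fi24
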