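/-
Generated: the assembled certificate tree.
-/
import Cfsg.Agent.H49.Order3.Fi24.Check.Tree0
import Cfsg.Agent.H49.Order3.Fi24.Check.Tree1
import Cfsg.Agent.H49.Order3.Fi24.Check.Tree2
import Cfsg.Agent.H49.Order3.Fi24.Check.Tree3
import Cfsg.Agent.H49.Order3.Fi24.Check.Tree4
import Cfsg.Agent.H49.Order3.Fi24.Check.Tree5
import Cfsg.Agent.H49.Order3.Fi24.Check.Tree6
import Cfsg.Agent.H49.Order3.Fi24.Check.Tree7
import Cfsg.Agent.H49.Order3.Fi24.Check.Tree8
import Cfsg.Agent.H49.Order3.Fi24.Check.Tree9
import Cfsg.Agent.H49.Order3.Fi24.Check.Tree10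
import Cfsg.Agent.H49.Order3.Fi24.Check.Tree11

set_option autoImplicit false
set_option maxRecDepth 100000
set_option linter.all false

namespace H49.Order3.Fi24

/-- the certificate -/
def certTop : Cert := (.split (.split (.split (.split (.split (.split (.split cert0 cert1 cert2) cert3 cert4) cert5 cert6) (.split cert7 cert8 cert9) (.split cert10 cert11 cert12)) cert13 cert14) cert15 cert16) (.split (.split (.fuse [1] 1 [6,6,7,7,10,10,11,13,13,15,15] (.fuse [1,2,2,5,5,7,7,9,10,10,12,13,15,15] 1 [5,8,8,9,9,11,12,13,13,15,15] (.split (.split cert17 cert18 cert19) (.split cert20 cert21 cert22) (.split cert23 cert24 cert25)))) cert26 cert27) (.split cert28 cert29 cert30) cert31) (.split (.split (.fuse [1] 2 [6,7,8,8,10,11,11,13] (.fuse [1,2,2,5,5,7,7,9,10,10,12,13,15,15] 2 [5,5,8,9,11,11,12,12,13,14,14,15] (.split (.split cert32 cert33 cert34) (.split cert35 cert36 cert37) (.split cert38 cert39 cert40)))) cert41 cert42) cert43 (.split cert44 cert45 cert46)))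

theorem tree_ok : certOK leafVecs certTop [] = true :=
  (split_ok (by decide +kernel) (split_ok (by decide +kernel) (split_ok (by decide +kernel) (split_ok (by decide +kernel) (split_ok (by decide +kernel) (split_ok (by decide +kernel) (split_ok (by decide +kernel) cert0_ok cert1_ok cert2_ok) cert3_ok cert4_ok) cert5_ok cert6_ok) (split_ok (by decide +kernel) cert7_ok cert8_ok cert9_ok) (split_ok (by decide +kernel) cert10_ok cert11_ok cert12_ok)) cert13_ok cert14_ok) cert15_ok cert16_ok) (split_ok (by decide +kernel) (split_ok (by decide +kernel) (fuse_ok (by decide +kernel) (fuse_ok (by decide +kernel) (split_ok (by decide +kernel) (split_ok (by decide +kernel) cert17_ok cert18_ok cert19_ok) (split_ok (by decide +kernel) cert20_ok cert21_ok cert22_ok) (split_ok (by decide +kernel) cert23_ok cert24_ok cert25_ok)))) cert26_ok cert27_ok) (split_ok (by decide +kernel) cert28_ok cert29_ok cert30_ok) cert31_ok) (split_ok (by decide +kernel) (split_ok (by decide +kernel) (fuse_ok (by decide +kernel) (fuse_ok (by decide +kernel) (split_ok (by decide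 +kernel) (split_ok (by decide +kernel) cert32_ok cert33_ok cert34_ok) (split_ok (by decide +kernel) cert35_ok cert36_ok cert37_ok) (split_ok (by decide +kernel) cert38_ok cert39_ok cert40_ok)))) cert41_ok cert42_ok) cert43_ok (split_ok (by decide +kernel) cert44_ok cert45_ok cert46_ok)))

end H49.Order3.Fi24
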