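/-
Generated data: part of the certificate tree, with its check.
-/
import Cfsg.Agent.H49.Order3.Fi24.CertDef
import Cfsg.Agent.H49.Order3.Fi24.Data.Leaves

set_option autoImplicit false
set_option maxRecDepth 100000
set_option linter.all false
set_option Elab.async false

namespace H49.Order3.Fi24

def cert40 : Cert := (.split (.fuse [3,6,6,7,7,10,10,11,13,13,15,15] 1 [] (.split (.split (.fuse [3,4,4,5,5,6,6,7,7,9,10,10,11,12,12,15] 1 [12,13,13,14] (.fuse [3,4,4,5,5,6,6,7,7,9,11,11,12,13,14,15] 1 [13,14,14,15] (.fuse [3,4,5,6,7,8,9,9,10,10,11,12,12,13,13,14,14] 2 [] (.fuse [3,5,5,9,10,11,11,12,12,14] 2 [15,15] (.fuse [3,5,5,6,8,10,11,15,15] 1 [] (.prune [0,0,0,0,0,0,0,0,0,0,0,0,0,0,0,2])))))) (.fuse [0] 2 [15] (.fuse [4,5,6,7,9,9,10,13,14] 2 [13,14,14,15,15] (.fuse [3,4,4,5,5,6,6,7,7,9,12,12,14,15,15]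 2 [14,14,15] (.fuse [0,3,4,4,5,5,6,6,7,7,8,8,9,10,10,11,12,12,15,15] 1 [] (.fuse [3,4,4,5,7,7,8,8,9,9,11,11,13,15] 1 [] (.prune [0,0,0,0,0,0,0,0,0,0,0,0,0,0,0,2])))))) (.fuse [0] 1 [15,15] (.fuse [0,3,3,4,5,6,7,9,9,10,11,11,12] 1 [13,13] (.fuse [0,8,8,10,11,11,12,13,13,14,14,15] 2 [14] (.fuse [3,4,4,5,5,6,7,7,8,8,9,11,11,13,13,14,15,15] 1 [15,15] (.fuse [3,6,6,8,8,10,11,11,12,12,15,15] 2 [] (.prune [0,0,0,0,0,0,0,0,0,0,0,0,0,0,0,2]))))))) (.split (.fuse [3,4,4,5,5,6,6,7,7,9,10,10,11,12,12,15] 2 [12,13,13,14] (.fuse [3,4,4,5,5,6,6,7,7,9,10,12,12,14] 1 [14,15] (.split (.fuse [4,5,6,7,9,9,10,13,14] 1 [15] (.fuse [3,4,4,6,6,7,7,8,10,11,11,12,13,13,14] 1 [] (.prune [0,0,0,0,0,0,0,0,0,0,0,0,0,0,0,1]))) (.fuse [0] 1 [] (.fuse [0,4,4,5,5,6,6,7,7,8,8,9,10,10,11,12,13,14,14] 2 []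 (.prune [0,0,0,0,0,0,0,0,0,0,0,0,0,0,0,1]))) (.fuse [0] 2 [] (.fuse [0,4,5,6,7,8,8,9,9,10,11,13] 1 [] (.prune [0,0,0,0,0,0,0,0,0,0,0,0,0,0,0,1])))))) (.fuse [0] 2 [15] (.fuse [4,5,6,7,9,9,10,13,14] 1 [13,13,14,15,15] (.fuse [3,4,4,5,5,6,6,7,7,8,9,10,11,11,13,13,14,15,15] 1 [14,14,15,15] (.fuse [3,4,6,7,8,8,11,13,13,14,15] 1 [] (.fuse [0,3,3,4,5,6,7,9,9,10,11,11,12] 2 [] (.prune [0,0,0,0,0,0,0,0,0,0,0,0,0,0,0,1])))))) (.fuse [0] 1 [15,15] (.fuse [0,3,4,4,5,5,6,6,7,7,8,8,9,10,10,11,12,12,15,15] 2 [13,14,14] (.fuse [0,10,14,14] 2 [14,15] (.fuse [0,3,4,5,6,7,9,9,10,12] 1 [] (.fuse [0,3,3,4,4,5,6,7,7,9,9,10,11,11,12,12,13,14] 2 [] (.prune [0,0,0,0,0,0,0,0,0,0,0,0,0,0,0,1]))))))) (.split (.fuse [10,11,15,15] 2 [13,13,15,15] (.fuse [3,4,4,5,5,6,6,7,7,9,10,10,11,12,12,15] 1 [13,13,14]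 (.fuse [4,6,7,8,10,11,11,12,12,13,15,15] 1 [] (.fuse [5,8,9,11,11,12,13,13,14,15,15] 1 [15] (.fuse [5,8,8,9,11,12,13,13,14,14,15] 1 [] (.leaf 683)))))) (.fuse [0] 2 [15] (.fuse [5,9,9,12,15,15] 2 [13,13,14,14,15] (.fuse [0,10,10,11,11,14,14,15] 1 [15,15] (.fuse [0,5,9,10,10,12,13,13,14,15,15] 2 [15] (.fuse [3,4,4,5,5,6,6,7,7,9,10,10,11,12,12,15] 2 [] (.leaf 684)))))) (.fuse [0] 1 [15,15] (.fuse [3,4,4,5,5,6,6,7,7,9,10,10,11,12,12,15] 2 [13,14,14,15] (.fuse [0,10,14] 2 [14,15] (.fuse [0,5,8,8,9,10,12,13,13,15] 1 [15,15] (.fuse [0,4,6,7,9,9,10,10,11,11,13,13,14,14,15] 2 [] (.leaf 685))))))))) (.fuse [0] 2 [11,11,14,15,15] (.split (.split (.fuse [0,3,6,6,7,7,8,8,10,10,11,13,13] 2 [14,15,15] (.fuse [0,3,3,4,4,5,5,6,7,9,10,11,11,12,12,13,13,14,15] 1 [13,13,14,15] (.fuse [0,3,6,6,7,7,10,12,12,14,15,15]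 1 [14,14] (.fuse [4,5,5,6,6,7,8,10,11,13,15,15] 2 [15] (.fuse [0,3,3,4,5,9,9,11,12,13,13,14,15] 1 [] (.prune [0,0,0,0,0,0,0,0,0,0,0,0,0,0,0,1])))))) (.fuse [0,3,6,6,7,7,8,8,10,10,11,13,13] 1 [14,15,15] (.fuse [4,5,6,7,9,9,10,11,13,14,15] 2 [13,14,15] (.fuse [3,4,4,5,5,6,6,7,7,8,9,11,11,12,12,14,15] 2 [] (.fuse [0,4,5,8,8,9,9,11,12,13,13,14,14,15] 2 [] (.fuse [3,4,6,7,8,8,9,9,10,10,12,13,14,14,15] 1 [] (.leaf 686)))))) (.fuse [3,4,4,5,5,6,6,7,7,8,9,10,10,11,11,12,12] 1 [12,12,13,14,15,15] (.fuse [3,4,4,5,5,6,6,7,7,8,9,12,13,14,15] 2 [14,14] (.fuse [3,4,4,5,6,6,7,7,8,9,9,12,12,15,15] 2 [14,15] (.fuse [0,3,6,6,7,7,8,8,10,10,11,13,13] 1 [15,15] (.fuse [4,7,8,8,9,9,10,12,15,15] 2 [] (.prune [0,0,0,0,0,0,0,0,0,0,0,0,0,0,0,2]))))))) (.split (.fuse [3,4,4,5,5,6,6,7,7,8,9,10,10,11,11,12,12]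 2 [12,13,13,14,14,15,15] (.fuse [3,4,4,5,5,6,6,7,7,8,9,10,11,12,12,14,15,15] 1 [14,14] (.fuse [6,8,9,12,12,13,13,15] 2 [14,14] (.fuse [0,3,6,6,7,7,8,8,10,10,11,13,13] 1 [15,15] (.prune [0,0,0,0,0,0,0,0,0,0,0,0,0,0,2,0]))))) (.fuse [0,3,6,6,7,7,8,8,10,10,11,13,13] 2 [14,15,15] (.fuse [4,5,6,7,9,9,10,11,13,14,15] 1 [13,13,15] (.fuse [3,4,4,5,5,6,6,7,7,9,10,11,11,13,13,14,14] 1 [] (.fuse [5,8,9,11,11,12,13,14,15,15] 2 [15,15] (.prune [0,0,0,0,0,0,0,0,0,0,0,0,0,0,2,2]))))) (.fuse [0,3,6,6,7,7,8,8,10,10,11,13,13] 1 [14,15,15] (.fuse [0,3,3,4,4,5,5,6,7,9,10,11,11,12,12,13,13,14,15] 2 [13,14,15] (.fuse [0,3,6,6,7,7,8,8,11,13,13,14,14] 2 [14,14] (.fuse [0,3,3,4,5,9,9,11,12,13,13,14,14,15] 1 [15,15] (.prune [0,0,0,0,0,0,0,0,0,0,0,0,0,0,2,1])))))) (.split (.fuse [0,3,6,6,7,7,8,8,10,10,11,13,13]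 1 [14,15,15] (.fuse [3,4,4,5,5,6,6,7,7,8,9,10,10,11,11,12,12] 1 [13,13,14,15,15] (.fuse [0,3,6,6,7,7,8,8,11,13,13,14,15] 2 [14,14] (.fuse [0,3,4,10,11,12,13,14,15,15] 2 [15] (.prune [0,0,0,0,0,0,0,0,0,0,0,0,0,0,1,2]))))) (.fuse [10,11,15,15] 2 [13,13,15,15] (.fuse [5,9,9,12,15,15] 2 [13,13,14,14,15] (.split (.fuse [0,3,6,6,7,7,8,8,10,10,11,13,13] 1 [15,15] (.prune [0,0,0,0,0,0,0,0,0,0,0,0,0,0,1,1])) (.fuse [0,3,6,6,7,7,8,8,10,10,11,13,13] 2 [15] (.prune [0,0,0,0,0,0,0,0,0,0,0,0,0,0,1,1])) (.fuse [4,5,6,7,9,9,10,11,13,14,15] 2 [15] (.prune [0,0,0,0,0,0,0,0,0,0,0,0,0,0,1,1]))))) (.fuse [0,3,6,6,7,7,8,8,10,10,11,13,13] 2 [14,15,15] (.fuse [3,4,4,5,5,6,6,7,7,8,9,10,10,11,11,12,12] 2 [13,14,14,15,15] (.fuse [0,3,6,6,7,7,8,8,10,13,13,14,14,15,15] 1 [14] (.fuse [0,3,5,6,6,7,7,8,8,9,10,11,12,12,14]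 1 [] (.prune [0,0,0,0,0,0,0,0,0,0,0,0,0,0,1,0])))))))) (.fuse [0] 1 [11,14,14] (.split (.split (.fuse [0,3,3,6,7,10,11,11,13,15] 1 [14,14,15] (.fuse [0,3,4,5,6,6,7,7,8,8,9,9,10,10,11,12,13] 2 [13] (.fuse [0,3,3,6,7,10,10,12,14,14,15,15] 2 [14,15] (.fuse [3,5,5,9,10,11,11,15,15] 2 [15,15] (.fuse [0,3,4,4,5,5,8,9,11,12,13,13] 2 [] (.prune [0,0,0,0,0,0,0,0,0,0,0,0,0,0,0,1])))))) (.fuse [3,4,4,5,5,6,6,7,7,9,10,10,11,11,12,12,14,15] 1 [14,14,15] (.fuse [4,5,6,7,8,8,9,9,10,13,14] 2 [13,14,14,15] (.fuse [3,4,4,5,5,6,6,7,7,9,12,13,14,14,15] 2 [15,15] (.fuse [0,3,3,6,7,10,11,11,13,15] 2 [15,15] (.fuse [0,3,3,4,5,5,7,7,9,10,10,11,11,14,14,15] 1 [] (.prune [0,0,0,0,0,0,0,0,0,0,0,0,0,0,0,2])))))) (.fuse [0,3,3,6,7,10,11,11,13,15] 2 [14,14] (.fuse [0,4,4,5,5,8,9,11,11,12,12,13,15,15]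 2 [13,14,14,15,15] (.fuse [0,3,3,6,7,11,11,12,12,13,13,15] 1 [14,14,15,15] (.fuse [0,4,4,5,8,9,9,11,11,12,13,15] 1 [] (.fuse [3,4,5,7,8,9,9,10,10,13,14,15,15] 2 [] (.leaf 687))))))) (.split (.fuse [3,4,4,5,5,6,6,7,7,9,10,10,11,11,12,12,14,15] 2 [12,13,13,15,15] (.fuse [3,4,4,5,5,6,6,7,7,9,10,11,12,12,14,14] 1 [] (.fuse [6,8,9,12,12,13,13,15] 1 [15,15] (.fuse [3,4,4,6,6,7,7,8,10,12,13,13,14,14] 2 [] (.prune [0,0,0,0,0,0,0,0,0,0,0,0,0,0,1,0]))))) (.fuse [0,3,3,6,7,10,11,11,13,15] 2 [15] (.fuse [4,5,6,7,8,8,9,9,10,13,14] 1 [13,13,14,14,15] (.fuse [3,4,4,5,5,6,6,7,7,9,10,11,13,13,14,15,15] 1 [14] (.fuse [0,3,4,5,6,6,7,7,8,8,9,9,10,10,11,12,13] 1 [] (.prune [0,0,0,0,0,0,0,0,0,0,0,0,0,0,1,1]))))) (.fuse [0,3,3,6,7,10,11,11,13,15] 1 [15,15] (.fuse [0,4,4,5,5,8,9,11,11,12,12,13,15,15]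 2 [13,14,15,15] (.fuse [0,3,3,6,7,10,10,11,11,13,14,14] 2 [14,15,15] (.fuse [0,4,5,6,6,7,7,8,9,9,10,10,12,13,14,14,15] 2 [15] (.prune [0,0,0,0,0,0,0,0,0,0,0,0,0,0,1,2])))))) (.split (.fuse [0,3,3,6,7,10,11,11,13,15] 2 [14,15,15] (.fuse [3,4,4,5,5,6,6,7,7,9,10,10,11,11,12,12,14,15] 1 [13,13,15,15] (.fuse [0,3,3,6,7,11,13,14,14,15] 1 [14] (.fuse [0,3,3,4,4,10,10,11,11,12,12,14,14,15,15] 2 [] (.prune [0,0,0,0,0,0,0,0,0,0,0,0,0,0,2,2]))))) (.fuse [0,3,3,6,7,10,11,11,13,15] 1 [14] (.fuse [5,9,9,12,15,15] 2 [13,13,14,14,15] (.fuse [0,3,3,6,7,10,10,11,11,13,14,15,15] 2 [14,14] (.fuse [0,3,3,5,6,7,8,8,9,10,10,11,11,13,15] 1 [] (.prune [0,0,0,0,0,0,0,0,0,0,0,0,0,0,2,0]))))) (.fuse [10,11,15,15] 2 [13,13,15,15] (.fuse [3,4,4,5,5,6,6,7,7,9,10,10,11,11,12,12,14,15] 2 [13,14] (.split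 (.fuse [0,3,3,6,7,10,11,11,13,15] 1 [15] (.prune [0,0,0,0,0,0,0,0,0,0,0,0,0,0,2,1])) (.fuse [0,3,3,6,7,10,11,11,13,15] 2 [15,15] (.prune [0,0,0,0,0,0,0,0,0,0,0,0,0,0,2,1])) (.fuse [3,8,8,11,11,12,12,13,14,15] 1 [] (.prune [0,0,0,0,0,0,0,0,0,0,0,0,0,0,2,1])))))))))

theorem cert40_ok : certOK leafVecs cert40 [2,0,0,0,0,2,2] = true := by decide +kernel

def cert41 : Cert := (.fuse [0] 2 [4,5,5,6,6,9,12,14,15] (.fuse [1] 2 [5,6,7,9,9,10,11,11,12,13,14,15,15] (.fuse [0,2,2,5,6,6,9,9,11,12,13,14,14,15] 2 [6,8,8,9,11,11,12,12,13,13,14,14] (.prune [0,0,0,0,0,1,2,2,1,2,2,1,0,1,2,0]))))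

theorem cert41_ok : certOK leafVecs cert41 [2,0,1] = true := by decide +kernel

def cert42 : Cert := (.fuse [0] 1 [4,4,5,5,8,8,9,11,12,13,13,14,14,15,15] (.fuse [0,1,1] 1 [5,7,7,8,9,9,10,10,11,11,13,13,14,14] (.fuse [0,2,3,3,6,7,7,10,10,11,13,15,15] 2 [6,6,7,8,8,9,10,13,13,14,15] (.prune [0,0,0,0,0,1,2,1,2,2,1,2,0,2,1,2]))))

theorem cert42_ok : certOK leafVecs cert42 [2,0,2] = true := by decide +kernel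

def cert43 : Cert := (.split (.fuse [0] 2 [6,7,10,11,11,13,15] (.fuse [1,2,3,3,4,5,5,6,6,8,9,13,13,14,15,15] 2 [5,6,6,7,7,8,8,9,9,10,10,11,11,12,12,13,13,14,14,15,15] (.split (.fuse [4,5,5,6,7,8,8,9,10,11,12,12,14,15] 2 [7,8,8,10,12,13,13,14,14,15,15] (.fuse [5,6,6,8,9,9,12,12,13,13,15,15] 2 [8,10,10,13,14,14] (.fuse [0,1,1] 2 [] (.prune [0,0,0,0,0,0,0,0,1,0,0,0,0,0,0,0])))) (.fuse [4,5,5,6,7,8,8,9,10,11,12,12,14,15] 2 [7,8,8,10,13,13,14,15,15] (.fuse [0,1,1] 2 [8,10,11,11,13,13,14] (.fuse [3,6,6,7,7,10,10,11,13,13,15,15] 2 [] (.split (.fuse [0,1,1,5,5,6,9,11,12,13,13,14,14,15,15] 2 [11,11,12,13,14,14] (.fuse [3,6,8,8,11,11,12,13,15] 2 [12,12,13,13] (.fuse [0,1,1,5,5,6,12,13,13,14,14,15] 1 [14] (.split (.fuse [0,1,1,3,5,5,6,6,8,10,11,12,13,15] 2 [15] (.fuse [0,1,1,5,5,8,8,12,12,14]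 1 [] (.leaf 688))) (.fuse [0,1,1,3,5,5,6,6,8,10,11,12,13,15] 1 [15] (.fuse [0,1,1,3,3,5,5,6,10,10,11,11,13,13,14,15] 2 [] (.prune [0,0,0,0,0,0,0,0,0,0,0,0,0,0,0,2]))) (.fuse [3,6,6,10,11] 2 [15] (.fuse [0,1,1,3,5,5,6,6,8,10,11,12,13,15] 1 [] (.prune [0,0,0,0,0,0,0,0,0,0,0,0,0,0,0,1]))))))) (.fuse [0,1,1,5,5,6,9,11,12,13,13,14,14,15,15] 1 [11,11,14,14] (.fuse [10,12,13,14,14,15,15] 1 [13,14,15] (.prune [0,0,0,0,0,0,0,0,0,0,0,2,0,2,2,2]))) (.fuse [9,11,11,13,14,15] 2 [11,11,13,14] (.fuse [0,1,1,5,5,6,9,11,12,13,13,14,14,15,15] 2 [12,12,13,13,14,14] (.prune [0,0,0,0,0,0,0,0,0,0,0,1,0,1,1,1]))))))) (.fuse [4,5,5,6,7,8,8,9,10,11,12,12,14,15] 2 [7,8,8,10,12,12,13,13,15,15] (.fuse [0,1,1] 1 [10,10,11,13,14,14,15] (.fuse [6,7,7,8,10,10,11,11,12,12,13,15,15] 2 [11,12,12,13,13,14,14]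 (.prune [0,0,0,0,0,0,0,0,2,0,0,0,0,0,0,0]))))))) (.fuse [0] 1 [4,5,5,6,9,12,12,14,15,15] (.fuse [0,2,2,5,6,6,9,9,11,12,13,14,14,15] 2 [7,7,8,10,10,12,12,13,14] (.fuse [0,1,1,2,2,3,4,4,6,6,7,8,8,10,12,12,13,14,14,15,15] 2 [6,6,7,9,10,12,13,13,15,15] (.prune [0,0,0,0,0,2,2,0,0,1,0,2,0,0,1,1])))) (.fuse [1] 1 [4,5,6,6,9,9,12,13,13,14,14,15] (.fuse [0] 2 [5,5,9,14,15,15] (.fuse [0,1,1,2,3,3,4,5,5,7,8,9,10,11,12,12,14,15,15] 2 [9,12,12,13,13] (.prune [0,0,0,0,0,2,0,2,1,1,2,0,1,2,2,1])))))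

theorem cert43_ok : certOK leafVecs cert43 [2,1] = true := by decide +kernel

def cert44 : Cert := (.fuse [0] 1 [6,6,7,7,8,8,10,10,11,13,13] (.split (.split (.fuse [2] 1 [7,8,8,10,12,12,13,14,14] (.fuse [2,4,4,5,6,6,8,8,9,9,11,11,12,13,13,14,14,15] 2 [8,8,10,10,11,11,12,13,14,14,15,15] (.split (.split (.fuse [9,11,11,13,14,15] 1 [14,14,15] (.split (.fuse [2,4,4,5,5,7,9,10,12,13,14,14,15,15] 1 [13,14] (.split (.split (.fuse [6,7,7,8,8,10,10,11,11,12,14,15,15] 1 [] (.leaf 689)) (.fuse [0,1,3,3,6,7,10,11,11,13,15] 2 [] (.leaf 690)) (.fuse [0,1,3,3,6,7,10,11,11,13,15] 1 [] (.leaf 691))) (.split (.fuse [0,1,3,3,6,7,10,11,11,13,15] 1 [] (.leaf 692)) (.fuse [3,6,6,7,7,8,8,10,10,11,13,13] 2 [] (.leaf 693)) (.fuse [0,1,3,3,6,7,10,11,11,13,15] 2 [] (.leaf 694))) (.split (.fuse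 [0,1,3,3,6,7,10,11,11,13,15] 2 [] (.leaf 695)) (.fuse [0,1,3,3,6,7,10,11,11,13,15] 1 [] (.leaf 696)) (.fuse [3,6,6,7,7,8,8,10,10,11,13,13] 1 [] (.leaf 697))))) (.fuse [2,4,4,5,5,7,9,10,12,13,14,14,15,15] 2 [13,13,14,14,15] (.split (.split (.fuse [0,1,3,3,6,7,10,11,11,13,15] 1 [] (.leaf 698)) (.fuse [3,6,6,7,7,8,8,10,10,11,13,13] 2 [] (.leaf 699)) (.fuse [0,1,3,3,6,7,10,11,11,13,15] 2 [] (.leaf 700))) (.split (.fuse [0,1,3,3,6,7,10,11,11,13,15] 2 [] (.leaf 701)) (.fuse [0,1,3,3,6,7,10,11,11,13,15] 1 [] (.leaf 702)) (.fuse [3,6,6,7,7,8,8,10,10,11,13,13] 1 [] (.leaf 703))) (.split (.fuse [6,7,7,8,8,10,10,11,11,12,14,15,15] 2 [] (.leaf 704)) (.fuse [0,1,3,3,6,7,10,11,11,13,15] 2 [] (.leaf 705)) (.fuse [0,1,3,3,6,7,10,11,11,13,15] 1 [] (.leaf 706))))) (.split (.split (.split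 (.fuse [0,1,3,3,6,7,10,11,11,13,15] 2 [] (.leaf 707)) (.fuse [0,1,3,3,6,7,10,11,11,13,15] 1 [] (.leaf 708)) (.fuse [3,6,6,7,7,8,8,10,10,11,13,13] 1 [] (.leaf 709))) (.split (.fuse [8,11,11,12,13,14,14,15] 1 [] (.leaf 710)) (.fuse [0,1,3,3,6,7,10,11,11,13,15] 2 [] (.leaf 711)) (.fuse [0,1,3,3,6,7,10,11,11,13,15] 1 [] (.leaf 712))) (.split (.fuse [0,1,3,3,6,7,10,11,11,13,15] 1 [] (.leaf 713)) (.fuse [3,6,6,7,7,8,8,10,10,11,13,13] 2 [] (.leaf 714)) (.fuse [0,1,3,3,6,7,10,11,11,13,15] 2 [] (.leaf 715)))) (.fuse [2,4,4,5,5,7,9,10,12,13,14,14,15,15] 2 [14,14] (.split (.fuse [0,1,3,3,6,7,10,11,11,13,15] 2 [] (.leaf 716)) (.fuse [0,1,3,3,6,7,10,11,11,13,15] 1 [] (.leaf 717)) (.fuse [3,6,6,7,7,8,8,10,10,11,13,13] 1 [] (.leaf 718)))) (.fuse [2,4,4,5,5,7,9,10,12,13,14,14,15,15] 1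 [14,15] (.split (.fuse [0,1,3,3,6,7,10,11,11,13,15] 2 [] (.leaf 719)) (.fuse [0,1,3,3,6,7,10,11,11,13,15] 1 [] (.leaf 720)) (.fuse [3,6,6,7,7,8,8,10,10,11,13,13] 1 [] (.leaf 721))))))) (.fuse [0,1,3,3,6,7,10,11,11,13,15] 1 [14,15] (.fuse [3,6,6,7,7,8,8,10,10,11,13,13] 1 [] (.fuse [0,1,2,2,3,3,4,6,6,11,11,12,12,15,15] 2 [13,13,14] (.fuse [2,4,4,5,5,6,8,8,12,13,14,14,15,15] 2 [14,14,15,15] (.fuse [0,1,3,3,6,7,9,9,10,14,14,15] 2 [] (.fuse [0,1,3,3,6,7,8,8,9,9,10,11,12,12,13,13,14,14] 2 [] (.prune [0,0,0,0,0,0,0,0,0,0,0,0,0,0,0,1]))))))) (.fuse [0,1,3,3,6,7,10,11,11,13,15] 2 [14,14,15,15] (.fuse [3,6,6,7,7,8,8,10,10,11,13,13] 2 [] (.fuse [0,1,2,2,3,3,4,6,6,11,11,12,12,15,15] 2 [14,15,15] (.fuse [7,8,10,11,13,15] 2 [14,14] (.fuse [0,1,3,3,6,7,9,10,10,11,13,15,15] 1 [] (.fuse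 [0,1,3,3,6,7,8,8,9,10,10,11,11,12,12,14,14,15] 2 [] (.prune [0,0,0,0,0,0,0,0,0,0,0,0,0,0,0,2])))))))) (.split (.fuse [9,11,11,13,14,15] 1 [15,15] (.split (.split (.split (.split (.fuse [2,4,4,5,5,7,9,10,12,13,14,14,15,15] 2 [] (.leaf 722)) (.fuse [0,1,3,3,6,7,10,11,11,13,15] 2 [] (.leaf 723)) (.fuse [0,1,3,3,6,7,10,11,11,13,15] 1 [] (.leaf 724))) (.split (.fuse [0,1,3,3,6,7,10,11,11,13,15] 1 [] (.leaf 725)) (.fuse [2,4,4,5,5,7,9,10,12,13,14,14,15,15] 2 [] (.leaf 726)) (.fuse [0,1,3,3,6,7,10,11,11,13,15] 2 [] (.leaf 727))) (.split (.fuse [0,1,3,3,6,7,10,11,11,13,15] 2 [] (.leaf 728)) (.fuse [0,1,3,3,6,7,10,11,11,13,15] 1 [] (.leaf 729)) (.fuse [2,4,4,5,5,7,9,10,12,13,14,14,15,15] 2 [] (.leaf 730)))) (.fuse [2,4,4,5,5,7,9,10,12,13,14,14,15,15] 2 [14,14] (.split (.fuse [6,7,7,8,8,10,10,11,11,12,14,15,15]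 1 [] (.leaf 731)) (.fuse [0,1,3,3,6,7,10,11,11,13,15] 2 [] (.leaf 732)) (.fuse [0,1,3,3,6,7,10,11,11,13,15] 1 [] (.leaf 733)))) (.fuse [2,4,4,5,5,7,9,10,12,13,14,14,15,15] 1 [14,15] (.split (.fuse [6,7,7,8,8,10,10,11,11,12,14,15,15] 2 [] (.leaf 734)) (.fuse [0,1,3,3,6,7,10,11,11,13,15] 2 [] (.leaf 735)) (.fuse [0,1,3,3,6,7,10,11,11,13,15] 1 [] (.leaf 736))))) (.fuse [2,4,4,5,5,7,9,10,12,13,14,14,15,15] 1 [13,14] (.split (.split (.fuse [0,1,3,3,6,7,10,11,11,13,15] 1 [] (.leaf 737)) (.fuse [3,6,6,7,7,8,8,10,10,11,13,13] 2 [] (.leaf 738)) (.fuse [0,1,3,3,6,7,10,11,11,13,15] 2 [] (.leaf 739))) (.split (.fuse [0,1,3,3,6,7,10,11,11,13,15] 2 [] (.leaf 740)) (.fuse [0,1,3,3,6,7,10,11,11,13,15] 1 [] (.leaf 741)) (.fuse [3,6,6,7,7,8,8,10,10,11,13,13] 1 [] (.leaf 742))) (.split (.fuse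 [6,7,7,8,8,10,10,11,11,12,14,15,15] 1 [] (.leaf 743)) (.fuse [0,1,3,3,6,7,10,11,11,13,15] 2 [] (.leaf 744)) (.fuse [0,1,3,3,6,7,10,11,11,13,15] 1 [] (.leaf 745))))) (.fuse [2,4,4,5,5,7,9,10,12,13,14,14,15,15] 2 [13,13,14,14,15] (.split (.split (.fuse [0,1,3,3,6,7,10,11,11,13,15] 2 [] (.leaf 746)) (.fuse [0,1,3,3,6,7,10,11,11,13,15] 1 [] (.leaf 747)) (.fuse [3,6,6,7,7,8,8,10,10,11,13,13] 1 [] (.leaf 748))) (.split (.fuse [6,7,7,8,8,10,10,11,11,12,14,15,15] 2 [] (.leaf 749)) (.fuse [0,1,3,3,6,7,10,11,11,13,15] 2 [] (.leaf 750)) (.fuse [0,1,3,3,6,7,10,11,11,13,15] 1 [] (.leaf 751))) (.split (.fuse [0,1,3,3,6,7,10,11,11,13,15] 1 [] (.leaf 752)) (.fuse [3,6,6,7,7,8,8,10,10,11,13,13] 2 [] (.leaf 753)) (.fuse [0,1,3,3,6,7,10,11,11,13,15] 2 [] (.leaf 754))))))) (.fuse [0,1,3,3,6,7,10,11,11,13,15]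 1 [14,15] (.fuse [3,6,6,7,7,8,8,10,10,11,13,13] 1 [] (.fuse [6,7,8,10,11,12,13,13,14] 2 [13,14] (.fuse [0,1,2,2,3,3,4,6,6,11,11,12,12,15,15] 1 [] (.fuse [0,1,3,3,6,7,9,9,10,14,14,15] 1 [15,15] (.fuse [0,1,2,3,3,4,4,5,5,6,6,7,7,8,8,9,9,10,11,11,13,13,14] 1 [] (.prune [0,0,0,0,0,0,0,0,0,0,0,0,0,0,0,2]))))))) (.fuse [0,1,3,3,6,7,10,11,11,13,15] 2 [14,14,15,15] (.fuse [3,6,6,7,7,8,8,10,10,11,13,13] 2 [] (.fuse [6,7,8,10,11,12,13,13,14] 1 [13,13,14,14] (.fuse [0,1,2,2,3,3,4,6,6,11,11,12,12,15,15] 2 [15,15] (.fuse [0,1,3,3,6,7,9,10,10,11,13,15,15] 2 [] (.fuse [0,1,2,3,3,4,4,5,5,6,6,7,7,8,8,10,10,11,12,13,13,14,14,15,15] 1 [] (.prune [0,0,0,0,0,0,0,0,0,0,0,0,0,0,0,1])))))))) (.split (.fuse [9,11,11,13,14,15] 1 [14] (.split (.fuse [2,4,4,5,5,7,9,10,12,13,14,14,15,15] 2 [13,13,14,14,15]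 (.split (.split (.fuse [6,7,7,8,8,10,10,11,11,12,14,15,15] 2 [] (.leaf 755)) (.fuse [0,1,3,3,6,7,10,11,11,13,15] 2 [] (.leaf 756)) (.fuse [0,1,3,3,6,7,10,11,11,13,15] 1 [] (.leaf 757))) (.split (.fuse [0,1,3,3,6,7,10,11,11,13,15] 1 [] (.leaf 758)) (.fuse [3,6,6,7,7,8,8,10,10,11,13,13] 2 [] (.leaf 759)) (.fuse [0,1,3,3,6,7,10,11,11,13,15] 2 [] (.leaf 760))) (.split (.fuse [0,1,3,3,6,7,10,11,11,13,15] 2 [] (.leaf 761)) (.fuse [0,1,3,3,6,7,10,11,11,13,15] 1 [] (.leaf 762)) (.fuse [3,6,6,7,7,8,8,10,10,11,13,13] 1 [] (.leaf 763))))) (.split (.split (.split (.fuse [0,1,3,3,6,7,10,11,11,13,15] 1 [] (.leaf 764)) (.fuse [2,4,4,5,5,7,9,10,12,13,14,14,15,15] 1 [] (.leaf 765)) (.fuse [0,1,3,3,6,7,10,11,11,13,15] 2 [] (.leaf 766))) (.split (.fuse [0,1,3,3,6,7,10,11,11,13,15] 2 [] (.leaf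 767)) (.fuse [0,1,3,3,6,7,10,11,11,13,15] 1 [] (.leaf 768)) (.fuse [2,4,4,5,5,7,9,10,12,13,14,14,15,15] 1 [] (.leaf 769))) (.split (.fuse [2,4,4,5,5,7,9,10,12,13,14,14,15,15] 1 [] (.leaf 770)) (.fuse [0,1,3,3,6,7,10,11,11,13,15] 2 [] (.leaf 771)) (.fuse [0,1,3,3,6,7,10,11,11,13,15] 1 [] (.leaf 772)))) (.fuse [2,4,4,5,5,7,9,10,12,13,14,14,15,15] 2 [14,14] (.split (.fuse [0,1,3,3,6,7,10,11,11,13,15] 1 [] (.leaf 773)) (.fuse [3,6,6,7,7,8,8,10,10,11,13,13] 2 [] (.leaf 774)) (.fuse [0,1,3,3,6,7,10,11,11,13,15] 2 [] (.leaf 775)))) (.fuse [2,4,4,5,5,7,9,10,12,13,14,14,15,15] 1 [14,15] (.split (.fuse [0,1,3,3,6,7,10,11,11,13,15] 1 [] (.leaf 776)) (.fuse [3,6,6,7,7,8,8,10,10,11,13,13] 2 [] (.leaf 777)) (.fuse [0,1,3,3,6,7,10,11,11,13,15] 2 [] (.leaf 778))))) (.fuse [2,4,4,5,5,7,9,10,12,13,14,14,15,15]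 1 [13,14] (.split (.split (.fuse [0,1,3,3,6,7,10,11,11,13,15] 2 [] (.leaf 779)) (.fuse [0,1,3,3,6,7,10,11,11,13,15] 1 [] (.leaf 780)) (.fuse [3,6,6,7,7,8,8,10,10,11,13,13] 1 [] (.leaf 781))) (.split (.fuse [6,7,7,8,8,10,10,11,11,12,14,15,15] 1 [] (.leaf 782)) (.fuse [0,1,3,3,6,7,10,11,11,13,15] 2 [] (.leaf 783)) (.fuse [0,1,3,3,6,7,10,11,11,13,15] 1 [] (.leaf 784))) (.split (.fuse [0,1,3,3,6,7,10,11,11,13,15] 1 [] (.leaf 785)) (.fuse [3,6,6,7,7,8,8,10,10,11,13,13] 2 [] (.leaf 786)) (.fuse [0,1,3,3,6,7,10,11,11,13,15] 2 [] (.leaf 787))))))) (.fuse [0,1,3,3,6,7,10,11,11,13,15] 1 [14,15] (.fuse [3,6,6,7,7,8,8,10,10,11,13,13] 1 [] (.fuse [0,1,2,2,3,3,4,6,6,11,11,12,12,15,15] 1 [14,14] (.fuse [7,8,10,11,13,15,15] 1 [14] (.fuse [2,4,4,5,5,6,6,8,8,12,14,14,15] 1 [15] (.fuse [0,1,3,3,6,7,9,9,10,14,14,15]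 1 [] (.leaf 788))))))) (.fuse [0,1,3,3,6,7,10,11,11,13,15] 2 [14,14,15,15] (.fuse [3,6,6,7,7,8,8,10,10,11,13,13] 2 [] (.fuse [0,1,2,2,3,3,4,6,6,11,11,12,12,15,15] 1 [13,14,14,15,15] (.fuse [2,4,4,5,5,6,8,8,9,9,10,11,13,13,14,14,15] 1 [15,15] (.fuse [2,4,4,5,5,6,7,9,9,10,10,11,11,14,14,15,15] 2 [15] (.fuse [2,4,4,5,5,6,7,8,9,9,10,10,11,12,12,13,15] 1 [] (.leaf 789))))))))))) (.fuse [2] 1 [7,7,11,13,15] (.fuse [0,1,3,3,6,7,10,11,11,13,15] 1 [8,10,10,11,13,14,14] (.fuse [3,6,6,7,7,8,8,10,10,11,13,13] 1 [] (.split (.fuse [0,1,3,3,5,5,7,7,8,9,10,10] 1 [12,12,13,15,15] (.split (.fuse [0,1,2,2,3,3,4,6,6,7,7,8,8,10,10,11,12,12,13,14,14,15,15] 2 [] (.fuse [0,1,2,2,3,3,4,8,8,13] 2 [14] (.fuse [2,4,4,5,6,6,7,9,10,11,12,13,14,14,15] 2 [15] (.fuse [2,4,4,5,6,6,7,8,9,10,12,12,13,15,15]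 1 [] (.leaf 790))))) (.fuse [0,1,2,2,3,3,4,6,6,7,7,8,8,10,10,11,12,12,13,14,14,15,15] 1 [13,14,15,15] (.fuse [0,1,2,3,3,4,4,9,10,10,12,13,14,14] 1 [15,15] (.fuse [0,1,2,2,3,3,4,6,8,11,12,12,13,14,14] 1 [] (.fuse [0,1,3,3,5,5,6,7,8,8,10,11,12,13,13,14,14,15] 1 [] (.prune [0,0,0,0,0,0,0,0,0,0,0,0,0,0,0,1]))))) (.fuse [2,4,4,5,6,6,7,7,8,9,10,10,11,11,14,15] 2 [13,14,15] (.fuse [0,1,2,2,3,3,4,6,6,7,7,8,8,10,10,11,12,12,13,14,14,15,15] 2 [14,14,15] (.fuse [0,1,3,3,5,5,6,7,8,8,10,11,12,13,13,14,15,15] 2 [] (.fuse [7,8,10,10,11,13,14,14,15,15] 1 [] (.prune [0,0,0,0,0,0,0,0,0,0,0,0,0,0,0,2]))))))) (.fuse [0,1,3,3,5,5,7,7,8,9,10,10] 2 [15,15] (.split (.fuse [0,1,2,2,3,3,4,6,6,7,7,8,8,10,10,11,12,12,13,14,14,15,15] 2 [14,14] (.fuse [10,12,13,15,15] 1 [14] (.prune [0,0,0,0,0,0,0,0,0,0,0,0,0,1,1,0])))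 (.fuse [0,1,2,2,3,3,4,6,6,7,7,8,8,10,10,11,12,12,13,14,14,15,15] 1 [13,15,15] (.fuse [10,12,13,15,15] 1 [14] (.prune [0,0,0,0,0,0,0,0,0,0,0,0,0,1,1,1]))) (.split (.fuse [0,1,2,2,3,3,4,6,6,7,7,8,8,10,10,11,12,12,13,14,14,15,15] 2 [14,15] (.prune [0,0,0,0,0,0,0,0,0,0,0,0,0,1,1,2])) (.fuse [10,12,13,15,15] 1 [14] (.prune [0,0,0,0,0,0,0,0,0,0,0,0,0,1,1,2])) (.fuse [0,1,2,2,3,3,4,6,6,7,7,8,8,10,10,11,12,12,13,14,14,15,15] 1 [15,15] (.prune [0,0,0,0,0,0,0,0,0,0,0,0,0,1,1,2]))))) (.fuse [9,11,11,13,14,15] 1 [13,13,14,14,15,15] (.split (.fuse [0,1,3,3,5,5,7,7,8,9,10,10] 1 [13,13,15,15] (.fuse [2,4,4,5,6,7,8,9,9,10,11,11,12,12,13,13,15] 2 [14,15] (.prune [0,0,0,0,0,0,0,0,0,0,0,0,0,2,2,0]))) (.fuse [0,1,3,3,5,5,7,7,8,9,10,10] 1 [13,13,14,14,15,15] (.fuse [0,1,3,3,5,5,6,7,8,8,9,10,12,14,14,15]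 1 [14,14,15,15] (.prune [0,0,0,0,0,0,0,0,0,0,0,0,0,2,2,1]))) (.fuse [0,1,3,3,5,5,7,7,8,9,10,10] 1 [13,13,14,15,15] (.fuse [0,1,2,2,3,3,4,6,6,7,7,8,8,10,10,11,12,12,13,14,14,15,15] 2 [15] (.prune [0,0,0,0,0,0,0,0,0,0,0,0,0,2,2,2]))))))))) (.fuse [2] 1 [8,10,10,11,11,12,13,14] (.fuse [0,1,3,3,6,7,10,11,11,13,15] 2 [8,8,10,11,11,13,13,14,15] (.fuse [3,6,6,7,7,8,8,10,10,11,13,13] 2 [] (.split (.fuse [0,1,2,3,3,4,4,5,6,7,7,8,8,9,9,10,10,14,14,15] 1 [12,12,13,15,15] (.split (.fuse [0,1,2,2,3,3,4,6,6,11,11,12,12,14] 2 [15] (.fuse [0,1,2,2,3,3,4,6,7,8,8,10,11,11,12,12,14,15,15] 1 [15,15] (.fuse [0,1,2,2,3,3,4,6,8,11,12,12,13,15] 2 [15] (.fuse [0,1,2,3,3,4,4,5,7,7,9,10,10,12,12] 1 [] (.leaf 791))))) (.fuse [0,1,2,2,3,3,4,6,6,11,11,12,12,14] 1 [13,14,15,15] (.fuse [2,4,4,6,6,7,8,8,9,10,10,13,14,15]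 2 [15] (.fuse [2,4,4,6,6,7,7,9,11,13,15,15] 1 [15] (.fuse [0,1,2,3,3,4,4,5,6,7,8,9,10,15,15] 2 [] (.prune [0,0,0,0,0,0,0,0,0,0,0,0,0,0,0,2]))))) (.fuse [2,4,4,6,8,8,9,10,11,14,15,15] 2 [13,13] (.fuse [0,1,2,2,3,3,4,6,6,11,11,12,12,14] 2 [14,14] (.fuse [8,11,11,12,13,14] 2 [15,15] (.fuse [0,1,2,2,3,3,4,6,6,7,8,10,12,12,13,14,15] 2 [] (.prune [0,0,0,0,0,0,0,0,0,0,0,0,0,0,0,1]))))))) (.fuse [9,11,11,13,14,15] 1 [13,14,14] (.split (.fuse [2,4,4,6,8,8,11,11,13,15,15] 2 [15,15] (.fuse [7,8,10,11,12,13,14,14,15] 2 [14,14,15] (.prune [0,0,0,0,0,0,0,0,0,0,0,0,0,2,2,2]))) (.fuse [0,1,2,3,3,4,4,5,6,7,7,8,8,9,9,10,10,14,14,15] 1 [13,14,14,15] (.fuse [2,4,4,6,8,8,11,11,13,15,15] 1 [14,14,15,15] (.prune [0,0,0,0,0,0,0,0,0,0,0,0,0,2,2,1]))) (.fuse [0,1,2,3,3,4,4,5,6,7,7,8,8,9,9,10,10,14,14,15]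 2 [13,13,14,14,15] (.fuse [2,4,4,7,8,10,11,11,12,13,14,15] 1 [14,15] (.prune [0,0,0,0,0,0,0,0,0,0,0,0,0,2,2,0]))))) (.fuse [0,1,2,3,3,4,4,5,6,7,7,8,8,9,9,10,10,14,14,15] 2 [12,13,13,14] (.split (.fuse [0,1,2,2,3,3,4,6,6,11,11,12,12,14] 2 [13,13,15,15] (.fuse [0,1,3,3,5,6,6,7,9,10,12,13,14] 2 [14] (.prune [0,0,0,0,0,0,0,0,0,0,0,0,0,1,1,1]))) (.fuse [0,1,2,2,3,3,4,6,6,11,11,12,12,14] 1 [14] (.fuse [0,1,3,3,5,6,6,7,9,10,12,13,14] 2 [14,14,15] (.prune [0,0,0,0,0,0,0,0,0,0,0,0,0,1,1,0]))) (.split (.fuse [0,1,2,2,3,3,4,6,6,11,11,12,12,14] 1 [14,14,15] (.prune [0,0,0,0,0,0,0,0,0,0,0,0,0,1,1,2])) (.fuse [0,1,2,2,3,3,4,6,6,11,11,12,12,14] 2 [] (.prune [0,0,0,0,0,0,0,0,0,0,0,0,0,1,1,2])) (.fuse [2,4,4,6,7,7,8,9,9,10,10,11,11,12,13,13,14,15] 2 [14,14,15,15] (.prune [0,0,0,0,0,0,0,0,0,0,0,0,0,1,1,2]))))))))))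 (.fuse [2] 1 [6,6,7,7,8,8,9,9,10,10,11,11,12] (.fuse [0,1,3,3,6,7,10,11,11,13,15] 1 [8,11,11,13] (.fuse [0,1,3,3,4,4,5,8,8,9,9,11,11,14,14,15,15] 1 [8,10,11,12,12,13,13,14] (.fuse [0,1,3,3,4,4,6,6,7,7,10,10,11,11,14,14,15,15] 2 [11,12,12,13,13,15,15] (.prune [0,0,0,0,0,0,0,0,2,0,0,1,0,2,0,0]))))) (.fuse [2] 2 [8,9,11,11,12,13,14,14,15,15] (.fuse [0,1,3,3,6,7,10,11,11,13,15] 2 [8,11,11,13] (.fuse [0,1,3,3,4,5,5,7,8,8,9,10,11,11,13,13] 2 [8,10,10,12,13,13,14,14,15] (.fuse [0,1,3,3,4,6,8,8,12,13,13,14,15] 1 [11,11,12,12,13,14] (.prune [0,0,0,0,0,0,0,0,2,0,0,1,0,2,0,0])))))))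

theorem cert44_ok : certOK leafVecs cert44 [2,2,0] = true := by decide +kernel


end H49.Order3.Fi24
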